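import Groth.Agent.GorLib.Criterion
import Mathlib.Algebra.Module.Torsion.Basic
import Mathlib.Algebra.Algebra.Tower

/-!
# Finite injective dimension modulo a regular element
-/

set_option linter.style.haveILetI false

namespace Groth.Agent.GorLib

open CategoryTheory CategoryTheory.Abelian CategoryTheory.Limits
open scoped Pointwise

universe u

variable {A : Type u} [CommRing A] (f : A)

/-- The `f`-torsion of a module, over `A/(f)`. -/
noncomputable abbrev tor (C : ModuleCat.{u} A) : ModuleCat.{u} (A ⧸ Ideal.span {f}) :=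
  ModuleCat.of (A ⧸ Ideal.span {f}) (Submodule.torsionBy A C f)

/-- Every element is a multiple of `f`. -/
def Divisible (C : ModuleCat.{u} A) : Prop := ∀ c : C, ∃ d : C, f • d = c

theorem divisible_of_surjective {C C' : ModuleCat.{u} A} (g : C ⟶ C') (hg : Function.Surjective g.hom)
    (h : Divisible f C) : Divisible f C' := fun c => by
  obtain ⟨c, rfl⟩ := hg c
  obtain ⟨d, rfl⟩ := h c
  exact ⟨g.hom d, (map_smul g.hom f d).symm⟩

variable {f}

theorem divisible_of_injective (hf : IsSMulRegular A f) (I : ModuleCat.{u} A) [Injective I] : Divisible f I := by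
  have : Module.Injective A I := Module.injective_module_of_injective_object A I
  intro c
  obtain ⟨h, hh⟩ := Module.Injective.out (LinearMap.toSpanSingleton A A f) (fun a b hab => hf (by
    simpa [mul_comm] using hab)) (LinearMap.toSpanSingleton A I c)
  refine ⟨h 1, ?_⟩
  have := hh 1
  rw [LinearMap.toSpanSingleton_apply, LinearMap.toSpanSingleton_apply, one_smul, one_smul] at this
  rw [← map_smul, smul_eq_mul, mul_one, this]

theorem injective_tor (I : ModuleCat.{u} A) [Injective I] : Injective (tor f I) := by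
  have : Module.Injective A I := Module.injective_module_of_injective_object A I
  refine (Module.injective_iff_injective_object _ _).1 ?_
  refine ⟨fun X Y _ _ _ _ i hi g => ?_⟩
  letI := Module.compHom X (algebraMap A (A ⧸ Ideal.span {f}))
  letI := Module.compHom Y (algebraMap A (A ⧸ Ideal.span {f}))
  haveI : IsScalarTower A (A ⧸ Ideal.span {f}) X :=
    ⟨fun a b x => by rw [Algebra.smul_def, mul_smul]; rfl⟩
  haveI : IsScalarTower A (A ⧸ Ideal.span {f}) Y :=
    ⟨fun a b x => by rw [Algebra.smul_def, mul_smul]; rfl⟩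
  obtain ⟨h, hh⟩ := Module.Injective.out (i.restrictScalars A) hi
    ((Submodule.torsionBy A I f).subtype ∘ₗ g.restrictScalars A)
  have hkill : ∀ y : Y, h y ∈ Submodule.torsionBy A I f := fun y => by
    rw [Submodule.mem_torsionBy_iff, ← map_smul]
    have : f • y = 0 := by
      rw [← IsScalarTower.algebraMap_smul (A ⧸ Ideal.span {f}) f y, Ideal.Quotient.algebraMap_eq,
        Ideal.Quotient.eq_zero_iff_mem.2 (Ideal.mem_span_singleton_self f), zero_smul]
    rw [this, map_zero]
  refine ⟨(LinearMap.codRestrict _ h hkill).extendScalarsOfSurjective Ideal.Quotient.mk_surjective, fun x => ?_⟩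
  exact Subtype.ext (hh x)

/-- The map on torsion, over the quotient. -/
noncomputable def torMap {C C' : ModuleCat.{u} A} (g : C ⟶ C') : tor f C ⟶ tor f C' :=
  ModuleCat.ofHom (((g.hom.comp (Submodule.torsionBy A C f).subtype).codRestrict _ fun c => by
    rw [Submodule.mem_torsionBy_iff, LinearMap.comp_apply, ← map_smul,
      show f • ((Submodule.torsionBy A C f).subtype c) = 0 from (Submodule.mem_torsionBy_iff _ _).1 c.2, map_zero]
    : Submodule.torsionBy A C f →ₗ[A] Submodule.torsionBy A C' f).extendScalarsOfSurjective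
      Ideal.Quotient.mk_surjective)

theorem torMap_val {C C' : ModuleCat.{u} A} (g : C ⟶ C') (c : tor f C) :
    ((torMap g).hom c).1 = g.hom c.1 := rfl

/-- Torsion of a short exact sequence with divisible first term. -/
theorem tor_shortExact {S : ShortComplex (ModuleCat.{u} A)} (hS : S.ShortExact) (hdiv : Divisible f S.X₁) :
    (ShortComplex.mk (torMap (f := f) S.f) (torMap (f := f) S.g) (by
      ext c
      simp only [ModuleCat.hom_comp, LinearMap.comp_apply, torMap_val, ModuleCat.hom_zero, LinearMap.zero_apply,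
        ZeroMemClass.coe_zero]
      exact congrArg (fun φ => φ.hom c.1) S.zero)).ShortExact := by
  have hinj : Function.Injective S.f.hom := (ModuleCat.mono_iff_injective _).1 hS.mono_f
  have hex := (ShortComplex.ShortExact.moduleCat_exact_iff_function_exact S).1 hS.exact
  refine { exact := ?_, mono_f := (ModuleCat.mono_iff_injective _).2 fun a b h => ?_,
           epi_g := (ModuleCat.epi_iff_surjective _).2 fun c => ?_ }
  · rw [ShortComplex.moduleCat_exact_iff]
    intro c hc
    obtain ⟨d, hd⟩ := (hex c.1).1 (congrArg Subtype.val hc)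
    refine ⟨⟨d, ?_⟩, Subtype.ext hd⟩
    rw [Submodule.mem_torsionBy_iff]
    refine hinj ?_
    rw [map_smul, hd, map_zero]
    exact (Submodule.mem_torsionBy_iff _ _).1 c.2
  · exact Subtype.ext (hinj (congrArg Subtype.val h))
  · obtain ⟨d, hd⟩ := (ModuleCat.epi_iff_surjective _).1 hS.epi_g c.1
    obtain ⟨b, hb⟩ := (hex (f • d)).1 (by rw [map_smul, hd]; exact (Submodule.mem_torsionBy_iff _ _).1 c.2)
    obtain ⟨b', hb'⟩ := hdiv b
    refine ⟨⟨d - S.f.hom b', ?_⟩, Subtype.ext ?_⟩
    · rw [Submodule.mem_torsionBy_iff, smul_sub, ← map_smul, hb', hb, sub_self]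
    · rw [torMap_val]
      change S.g.hom (d - S.f.hom b') = c.1
      rw [map_sub, hd, hex.apply_apply_eq_zero, sub_zero]

variable (hf : IsSMulRegular A f)

include hf in
/-- Torsion does not increase the injective dimension. -/
theorem injDim_tor : ∀ (n : ℕ) (C : ModuleCat.{u} A), Divisible f C → HasInjectiveDimensionLT C (n + 1) →
    HasInjectiveDimensionLT (tor f C) (n + 1) := by
  intro n
  induction n with
  | zero =>
    intro C _ h
    have := injective_iff_hasInjectiveDimensionLT_one.2 h
    exact injective_iff_hasInjectiveDimensionLT_one.1 (injective_tor C)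
  | succ n ih =>
    intro C hC h
    obtain ⟨p⟩ := EnoughInjectives.presentation C
    let S : ShortComplex (ModuleCat.{u} A) := ShortComplex.mk p.f (cokernel.π p.f) (cokernel.condition p.f)
    have hS : S.ShortExact := { exact := ShortComplex.exact_cokernel p.f }
    have hinj : Injective S.X₂ := p.injective
    exact ((tor_shortExact hS hC).hasInjectiveDimensionLT_X₃_iff n (injective_tor S.X₂)).1
      (ih _ (divisible_of_surjective f S.g ((ModuleCat.epi_iff_surjective _).1 hS.epi_g) (divisible_of_injective hf S.X₂))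
        ((hS.hasInjectiveDimensionLT_X₃_iff n hinj).2 h))

include hf in
/-- Injective torsion gives vanishing on modules killed by `f`. -/
theorem ext_eq_zero_of_injective_tor (M : Type u) [AddCommGroup M] [Module A M] (hM : ∀ x : M, f • x = 0) :
    ∀ (i : ℕ) (C : ModuleCat.{u} A), Divisible f C → Injective (tor f C) →
      Subsingleton (Ext.{u} (ModuleCat.of A M) C (i + 1)) := by
  intro i
  induction i with
  | zero =>
    intro C hC hinjC
    obtain ⟨p⟩ := EnoughInjectives.presentation C
    let S : ShortComplex (ModuleCat.{u} A) := ShortComplex.mk p.f (cokernel.π p.f) (cokernel.condition p.f)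
    have hS : S.ShortExact := { exact := ShortComplex.exact_cokernel p.f }
    have hinj : Injective S.X₂ := p.injective
    have key : ∀ x : Ext.{u} (ModuleCat.of A M) C 1, x = 0 := fun x => by
      obtain ⟨z, hz⟩ := Ext.covariant_sequence_exact₁ _ hS x (Ext.eq_zero_of_injective _) (zero_add 1)
      obtain ⟨φ, rfl⟩ := (Ext.mk₀_bijective _ _).2 z
      -- split torsion sequence
      let S' := ShortComplex.mk (torMap (f := f) S.f) (torMap (f := f) S.g) (by
        ext c
        simp only [ModuleCat.hom_comp, LinearMap.comp_apply, torMap_val, ModuleCat.hom_zero, LinearMap.zero_apply,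
          ZeroMemClass.coe_zero]
        exact congrArg (fun ψ => ψ.hom c.1) S.zero)
      have hS' : S'.ShortExact := tor_shortExact hS hC
      have : Injective S'.X₁ := hinjC
      let sp := hS'.splittingOfInjective
      have hmem : ∀ m : M, φ.hom m ∈ Submodule.torsionBy A S.X₃ f := fun m => by
        rw [Submodule.mem_torsionBy_iff, ← map_smul, hM, map_zero]
      let ψ : ModuleCat.of A M ⟶ S.X₂ := ModuleCat.ofHom
        ((Submodule.torsionBy A S.X₂ f).subtype ∘ₗ (sp.s.hom.restrictScalars A) ∘ₗ φ.hom.codRestrict _ hmem)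
      have hψ : ψ ≫ S.g = φ := by
        ext m
        exact congrArg Subtype.val (congrArg (fun t => t.hom (⟨φ.hom m, hmem m⟩ : tor f S.X₃)) sp.s_g)
      rw [← hz, ← hψ, ← Ext.mk₀_comp_mk₀, Ext.comp_assoc_of_second_deg_zero, hS.comp_extClass, Ext.comp_zero]
    exact ⟨fun a b => (key a).trans (key b).symm⟩
  | succ i ih =>
    intro C hC hinjC
    obtain ⟨p⟩ := EnoughInjectives.presentation C
    let S : ShortComplex (ModuleCat.{u} A) := ShortComplex.mk p.f (cokernel.π p.f) (cokernel.condition p.f)
    have hS : S.ShortExact := { exact := ShortComplex.exact_cokernel p.f }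
    have hinj : Injective S.X₂ := p.injective
    have hS' := tor_shortExact hS hC
    have h3 : Injective (tor f S.X₃) := injective_iff_hasInjectiveDimensionLT_one.2
      (hS'.hasInjectiveDimensionLT_X₃ 1 (injective_iff_hasInjectiveDimensionLT_one.1 (injective_tor S.X₂))
        (@hasInjectiveDimensionLT_of_ge _ _ _ _ 1 2 (by omega) (injective_iff_hasInjectiveDimensionLT_one.1 hinjC)))
    have hsub := ih S.X₃ (divisible_of_surjective f S.g ((ModuleCat.epi_iff_surjective _).1 hS.epi_g)
      (divisible_of_injective hf S.X₂)) h3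
    have key : ∀ x : Ext.{u} (ModuleCat.of A M) C (i + 2), x = 0 := fun x => by
      obtain ⟨z, hz⟩ := Ext.covariant_sequence_exact₁ _ hS x (Ext.eq_zero_of_injective _) rfl
      rw [← hz, @Subsingleton.elim _ hsub z 0, Ext.zero_comp]
    exact ⟨fun a b => (key a).trans (key b).symm⟩

include hf in
theorem ext_eq_zero_of_injDim_tor (M : Type u) [AddCommGroup M] [Module A M] (hM : ∀ x : M, f • x = 0) :
    ∀ (n : ℕ) (C : ModuleCat.{u} A), Divisible f C → HasInjectiveDimensionLT (tor f C) (n + 1) →
      ∀ i, n + 1 ≤ i → Subsingleton (Ext.{u} (ModuleCat.of A M) C i) := by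
  intro n
  induction n with
  | zero =>
    intro C hC h i hi
    obtain ⟨i, rfl⟩ : ∃ j, i = j + 1 := ⟨i - 1, by omega⟩
    exact ext_eq_zero_of_injective_tor hf M hM i C hC (injective_iff_hasInjectiveDimensionLT_one.2 h)
  | succ n ih =>
    intro C hC h i hi
    obtain ⟨i, rfl⟩ : ∃ j, i = j + 1 := ⟨i - 1, by omega⟩
    obtain ⟨p⟩ := EnoughInjectives.presentation C
    let S : ShortComplex (ModuleCat.{u} A) := ShortComplex.mk p.f (cokernel.π p.f) (cokernel.condition p.f)
    have hS : S.ShortExact := { exact := ShortComplex.exact_cokernel p.f }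
    have hinj : Injective S.X₂ := p.injective
    have hsub := ih S.X₃ (divisible_of_surjective f S.g ((ModuleCat.epi_iff_surjective _).1 hS.epi_g)
      (divisible_of_injective hf S.X₂))
      (((tor_shortExact hS hC).hasInjectiveDimensionLT_X₃_iff n (injective_tor S.X₂)).2 h) i (by omega)
    have key : ∀ x : Ext.{u} (ModuleCat.of A M) C (i + 1), x = 0 := fun x => by
      obtain ⟨z, hz⟩ := Ext.covariant_sequence_exact₁ _ hS x (Ext.eq_zero_of_injective _) rfl
      rw [← hz, @Subsingleton.elim _ hsub z 0, Ext.zero_comp]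
    exact ⟨fun a b => (key a).trans (key b).symm⟩

include hf in
/-- `0 → I[f] → (I/A)[f] → A/(f) → 0`. -/
theorem exists_tor_sequence {I : ModuleCat.{u} A} [Injective I] (ι : ModuleCat.of A A ⟶ I)
    (hι : Function.Injective ι.hom) :
    ∃ (S : ShortComplex (ModuleCat.{u} (A ⧸ Ideal.span {f}))), S.ShortExact ∧ S.X₁ = tor f I ∧
      S.X₂ = tor f (CategoryTheory.Limits.cokernel (C := ModuleCat.{u} A) ι) ∧ S.X₃ = ModuleCat.of _ (A ⧸ Ideal.span {f}) := by
  set π := cokernel.π ι
  have hsurj : Function.Surjective π.hom := (ModuleCat.epi_iff_surjective _).1 inferInstance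
  have hex : Function.Exact ι.hom π.hom :=
    (ShortComplex.ShortExact.moduleCat_exact_iff_function_exact _).1 (ShortComplex.exact_cokernel ι)
  let Q : ModuleCat.{u} A := cokernel ι
  have hlift : ∀ c : Submodule.torsionBy A Q f, ∃ a : A, ∃ y : I, π.hom y = c.1 ∧ f • y = ι.hom a := by
    intro c
    obtain ⟨y, hy⟩ := hsurj c.1
    obtain ⟨a, ha⟩ := (hex (f • y)).1 (by rw [map_smul, hy]; exact (Submodule.mem_torsionBy_iff _ _).1 c.2)
    exact ⟨a, y, hy, ha.symm⟩
  choose a y hy hay using hlift
  have huniq : ∀ (c : Submodule.torsionBy A Q f) (y' : I) (a' : A), π.hom y' = c.1 → f • y' = ι.hom a' →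
      (Ideal.Quotient.mk (Ideal.span {f}) a') = Ideal.Quotient.mk _ (a c) := by
    intro c y' a' h1 h2
    obtain ⟨b, hb⟩ := (hex (y' - y c)).1 (by rw [map_sub, h1, hy, sub_self])
    rw [Ideal.Quotient.eq, Ideal.mem_span_singleton']
    refine ⟨b, hι ?_⟩
    rw [mul_comm, ← smul_eq_mul, map_smul, hb, smul_sub, map_sub, h2, hay]
  let δA : Submodule.torsionBy A Q f →ₗ[A] A ⧸ Ideal.span {f} :=
    { toFun := fun c => Ideal.Quotient.mk _ (a c)
      map_add' := fun c c' => by
        rw [← map_add]
        exact (huniq (c + c') (y c + y c') (a c + a c') (by rw [map_add, hy, hy]; rfl)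
          (by rw [smul_add, hay, hay, map_add])).symm
      map_smul' := fun r c => by
        rw [RingHom.id_apply, Algebra.smul_def, Ideal.Quotient.algebraMap_eq, ← map_mul]
        exact (huniq (r • c) (r • y c) (r * a c) (by rw [map_smul, hy]; rfl)
          (by rw [smul_comm, hay, ← map_smul, smul_eq_mul])).symm }
  let δ := δA.extendScalarsOfSurjective (S := A ⧸ Ideal.span {f}) Ideal.Quotient.mk_surjective
  have hker0 : ∀ z : tor f I, δ ((torMap π).hom z) = 0 := fun z => by
    change Ideal.Quotient.mk _ (a _) = 0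
    rw [← huniq ((torMap π).hom z) z.1 0 rfl (by rw [map_zero]; exact (Submodule.mem_torsionBy_iff _ _).1 z.2), map_zero]
  refine ⟨ShortComplex.mk (torMap π) (ModuleCat.ofHom δ) (ModuleCat.hom_ext (LinearMap.ext hker0)),
    { exact := ?_, mono_f := (ModuleCat.mono_iff_injective _).2 fun z z' h => ?_,
      epi_g := (ModuleCat.epi_iff_surjective _).2 fun b => ?_ }, rfl, rfl, rfl⟩
  · rw [ShortComplex.moduleCat_exact_iff]
    intro c hc
    obtain ⟨b, hb⟩ := Ideal.mem_span_singleton'.1 (Ideal.Quotient.eq_zero_iff_mem.1 hc)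
    refine ⟨⟨y c - ι.hom b, ?_⟩, Subtype.ext ?_⟩
    · rw [Submodule.mem_torsionBy_iff, smul_sub, hay, ← map_smul, smul_eq_mul, mul_comm, hb, sub_self]
    · rw [torMap_val]
      change π.hom (y c - ι.hom b) = c.1
      rw [map_sub, hy, hex.apply_apply_eq_zero, sub_zero]
  · have h' : π.hom z.1 = π.hom z'.1 := congrArg Subtype.val h
    obtain ⟨b, hb⟩ := (hex (z.1 - z'.1)).1 (by rw [map_sub, h', sub_self])
    have h0 : f • ι.hom b = 0 := by
      rw [hb, smul_sub, (Submodule.mem_torsionBy_iff _ _).1 z.2, (Submodule.mem_torsionBy_iff _ _).1 z'.2, sub_self]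
    rw [← map_smul, ← map_zero ι.hom] at h0
    have hb0 : b = 0 := hf (show f • b = f • 0 by rw [smul_zero]; exact hι h0)
    exact Subtype.ext (sub_eq_zero.1 (by rw [← hb, hb0, map_zero]))
  · obtain ⟨b, rfl⟩ := Ideal.Quotient.mk_surjective b
    obtain ⟨y', hy'⟩ := divisible_of_injective hf I (ι.hom b)
    refine ⟨⟨π.hom y', ?_⟩, ?_⟩
    · rw [Submodule.mem_torsionBy_iff, ← map_smul, hy', hex.apply_apply_eq_zero]
    · exact (huniq ⟨π.hom y', _⟩ y' b rfl hy').symm

/-- Gorenstein passes to and from quotients by regular elements. -/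
theorem isGorensteinLocalRing_quotient_iff [IsLocalRing A] [IsNoetherianRing A]
    (hfm : f ∈ IsLocalRing.maximalIdeal A) (hf : IsSMulRegular A f) :
    LocCoh.IsGorensteinLocalRing A ↔ LocCoh.IsGorensteinLocalRing (A ⧸ Ideal.span {f}) := by
  have : Nontrivial (A ⧸ Ideal.span {f}) := Ideal.Quotient.nontrivial_iff.2
    (ne_top_of_le_ne_top (IsLocalRing.maximalIdeal.isMaximal A).ne_top ((Ideal.span_singleton_le_iff_mem _).2 hfm))
  have : IsLocalRing (A ⧸ Ideal.span {f}) :=
    IsLocalRing.of_surjective' (Ideal.Quotient.mk _) Ideal.Quotient.mk_surjective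
  obtain ⟨p⟩ := EnoughInjectives.presentation (ModuleCat.of A A)
  have hι : Function.Injective p.f.hom := (ModuleCat.mono_iff_injective _).1 p.mono
  have : Injective p.J := p.injective
  obtain ⟨S', hS', h1, h2, h3⟩ := exists_tor_sequence hf p.f hι
  let S : ShortComplex (ModuleCat.{u} A) := ShortComplex.mk p.f (cokernel.π p.f) (cokernel.condition p.f)
  have hS : S.ShortExact := { exact := ShortComplex.exact_cokernel p.f }
  have hC : Divisible f (cokernel p.f) :=
    divisible_of_surjective f (cokernel.π p.f) ((ModuleCat.epi_iff_surjective _).1 inferInstance) (divisible_of_injective hf _)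
  have hS1 : Injective S'.X₁ := h1 ▸ injective_tor p.J
  constructor
  · intro h
    obtain ⟨n, hn⟩ := h.exists_hasInjectiveDimensionLT
    have hn2 : HasInjectiveDimensionLT (ModuleCat.of A A) (n + 2) :=
      @hasInjectiveDimensionLT_of_ge _ _ _ _ n (n + 2) (by omega) hn
    have hc := injDim_tor hf n _ hC ((hS.hasInjectiveDimensionLT_X₃_iff n p.injective).2 hn2)
    refine { exists_hasInjectiveDimensionLT := ⟨n + 1, h3 ▸ hS'.hasInjectiveDimensionLT_X₃ (n + 1) (h2 ▸ hc) ?_⟩ }
    exact @hasInjectiveDimensionLT_of_ge _ _ _ _ 1 (n + 2) (by omega) (injective_iff_hasInjectiveDimensionLT_one.1 hS1)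
  · intro h
    obtain ⟨n, hn⟩ := h.exists_hasInjectiveDimensionLT
    have hc : HasInjectiveDimensionLT (tor f (cokernel p.f)) (n + 1) := h2 ▸ hS'.hasInjectiveDimensionLT_X₂ (n + 1)
      (@hasInjectiveDimensionLT_of_ge _ _ _ _ 1 (n + 1) (by omega) (injective_iff_hasInjectiveDimensionLT_one.1 hS1))
      (h3.symm ▸ @hasInjectiveDimensionLT_of_ge _ _ _ _ n (n + 1) (by omega) hn)
    refine isGorensteinLocalRing_iff.2 ⟨n + 2, fun i hi => ?_⟩
    obtain ⟨i, rfl⟩ : ∃ j, i = j + 1 := ⟨i - 1, by omega⟩
    have hsub := ext_eq_zero_of_injDim_tor hf (IsLocalRing.ResidueField A) (fun x => by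
      obtain ⟨x, rfl⟩ := IsLocalRing.residue_surjective x
      rw [Algebra.smul_def]
      change IsLocalRing.residue A f * IsLocalRing.residue A x = 0
      rw [(IsLocalRing.residue_eq_zero_iff f).2 hfm, zero_mul]) n _ hC hc i (by omega)
    have key : ∀ x : Ext.{u} (ModuleCat.of A (IsLocalRing.ResidueField A)) (ModuleCat.of A A) (i + 1), x = 0 :=
      fun x => by
        obtain ⟨z, hz⟩ := Ext.covariant_sequence_exact₁ _ hS x (Ext.eq_zero_of_injective _) rfl
        rw [← hz, @Subsingleton.elim _ hsub z 0, Ext.zero_comp]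
    exact ⟨fun a b => (key a).trans (key b).symm⟩

/-- Gorenstein local rings are Cohen–Macaulay. -/
theorem isCohenMacaulayLocalRing : ∀ (n : ℕ) (A : Type u) [CommRing A] [LocCoh.IsGorensteinLocalRing A],
    LocCoh.depth A A = n → LocCoh.IsCohenMacaulayLocalRing A := by
  intro n
  induction n with
  | zero =>
    intro A _ _ hd
    have := injective_of_depth_eq_zero (A := A) hd
    rw [DepthLib.isCohenMacaulayLocalRing_iff, ringKrullDim_eq_zero_of_injective, hd]
    rfl
  | succ n ih =>
    intro A _ _ hd
    have hne : LocCoh.depth A A ≠ 0 := by rw [hd]; exact_mod_cast Nat.succ_ne_zero n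
    rw [Ne, DepthLib.depth_eq_zero_iff] at hne
    obtain ⟨x, hxm, hx⟩ : ∃ x ∈ IsLocalRing.maximalIdeal A, IsSMulRegular A x := by
      by_contra! h
      have hsub : (IsLocalRing.maximalIdeal A : Set A) ⊆ ⋃ p ∈ associatedPrimes A A, (p : Set A) := by
        rw [biUnion_associatedPrimes_eq_zero_divisors]
        intro x hx
        by_contra hz
        refine h x hx fun a b hab => sub_eq_zero.1 ?_
        by_contra hne'
        exact hz ⟨a - b, hne', by rw [smul_sub]; exact sub_eq_zero.2 hab⟩
      obtain ⟨p, hp, hmp⟩ := (Ideal.subset_union_prime_finite (associatedPrimes.finite A A)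
        (IsLocalRing.maximalIdeal A) (IsLocalRing.maximalIdeal A) fun p hp _ _ => IsAssociatedPrime.isPrime hp).1 hsub
      exact hne ((IsLocalRing.maximalIdeal.isMaximal A).eq_of_le (IsAssociatedPrime.isPrime hp).ne_top hmp ▸ hp)
    have hG := (isGorensteinLocalRing_quotient_iff hxm hx).1 ‹_›
    have he : (x • (⊤ : Submodule A A)) = (Ideal.span {x} : Ideal A) := by
      rw [← Submodule.ideal_span_singleton_smul, Ideal.smul_eq_mul, Ideal.mul_top]
    have e : QuotSMulTop x A ≃ₗ[A] A ⧸ Ideal.span {x} := Submodule.quotEquivOfEq _ _ he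
    have hdepth : LocCoh.depth (A ⧸ Ideal.span {x}) (A ⧸ Ideal.span {x}) = n := by
      have h1 : LocCoh.depth A (QuotSMulTop x A) + 1 = LocCoh.depth A A :=
        DepthLib.idealDepth_quotSMulTop_add_one hxm hx
      rw [DepthLib.depth_congr e, hd, Nat.cast_succ] at h1
      exact (DepthLib.depth_eq_of_surjective (R := A) (S := A ⧸ Ideal.span {x}) (M := A ⧸ Ideal.span {x})
        Ideal.Quotient.mk_surjective).trans (WithTop.add_right_cancel ENat.one_ne_top h1)
    have hcm := ih (A ⧸ Ideal.span {x}) hdepth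
    rw [DepthLib.isCohenMacaulayLocalRing_iff,
      ← ringKrullDim_quotient_span_singleton_succ_eq_ringKrullDim hx hxm, hd, Nat.cast_succ, WithBot.coe_add,
      WithBot.coe_one]
    have h2 := DepthLib.ringKrullDim_eq_depth (R := A ⧸ Ideal.span {x})
    rw [h2, hdepth]

end Groth.Agent.GorLib
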