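import Groth.Agent.GorLib.Rees
import Groth.Agent.DepthLib.Ext

/-!
The injective dimension of a Gorenstein local ring over itself is its depth.
-/

set_option autoImplicit false
set_option linter.style.haveILetI false

namespace Groth.Agent.GorLib

open CategoryTheory CategoryTheory.Abelian CategoryTheory.Limits
open scoped Pointwise

universe u

/-- Positive depth gives a regular element in the maximal ideal. -/
theorem exists_regular_of_depth {A : Type u} [CommRing A] [IsLocalRing A] [IsNoetherianRing A] {n : ℕ}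
    (hd : LocCoh.depth A A = (n + 1 : ℕ)) :
    ∃ x ∈ IsLocalRing.maximalIdeal A, IsSMulRegular A x ∧
      ∀ [IsLocalRing (A ⧸ Ideal.span {x})], LocCoh.depth (A ⧸ Ideal.span {x}) (A ⧸ Ideal.span {x}) = n := by
  obtain ⟨x, hxm, hx⟩ := (DepthLib.one_le_idealDepth_iff (M := A)).1
    (show (1 : ℕ∞) ≤ LocCoh.idealDepth (IsLocalRing.maximalIdeal A) A by
      change 1 ≤ LocCoh.depth A A
      rw [hd]; exact_mod_cast Nat.succ_pos n)
  refine ⟨x, hxm, hx, fun {_} => ?_⟩
  have he : (x • (⊤ : Submodule A A)) = (Ideal.span {x} : Ideal A) := by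
    rw [← Submodule.ideal_span_singleton_smul, Ideal.smul_eq_mul, Ideal.mul_top]
  have e : QuotSMulTop x A ≃ₗ[A] A ⧸ Ideal.span {x} := Submodule.quotEquivOfEq _ _ he
  have h1 : LocCoh.depth A (QuotSMulTop x A) + 1 = LocCoh.depth A A :=
    DepthLib.idealDepth_quotSMulTop_add_one hxm hx
  rw [DepthLib.depth_congr e, hd, Nat.cast_succ] at h1
  exact (DepthLib.depth_eq_of_surjective (R := A) (S := A ⧸ Ideal.span {x}) (M := A ⧸ Ideal.span {x})
    Ideal.Quotient.mk_surjective).trans (WithTop.add_right_cancel ENat.one_ne_top h1)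

/-- Above the depth all `Ext` groups of a finite module into the ring vanish. -/
theorem ext_vanish_of_depth_lt : ∀ (n : ℕ) (A : Type u) [CommRing A] [LocCoh.IsGorensteinLocalRing A],
    LocCoh.depth A A = n → ∀ (M : Type u) [AddCommGroup M] [Module A M] [Module.Finite A M],
      ∀ i, n + 1 ≤ i → Subsingleton (Ext.{u} (ModuleCat.of A M) (ModuleCat.of A A) i) := by
  intro n
  induction n with
  | zero =>
    intro A _ _ hd M _ _ _ i hi
    have hi' := injective_of_depth_eq_zero (A := A) hd
    haveI : Injective (ModuleCat.of A A) := Module.injective_object_of_injective_module A A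
    obtain ⟨i, rfl⟩ : ∃ j, i = j + 1 := ⟨i - 1, by omega⟩
    exact subsingleton_of_forall_eq 0 fun z => Ext.eq_zero_of_injective z
  | succ n ih =>
    intro A _ _ hd
    refine ext_vanish_of_residueField fun i hi => ?_
    obtain ⟨x, hxm, hx, hdx⟩ := exists_regular_of_depth hd
    have : Nontrivial (A ⧸ Ideal.span {x}) := Ideal.Quotient.nontrivial_iff.2
      (ne_top_of_le_ne_top (IsLocalRing.maximalIdeal.isMaximal A).ne_top ((Ideal.span_singleton_le_iff_mem _).2 hxm))
    have : IsLocalRing (A ⧸ Ideal.span {x}) :=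
      IsLocalRing.of_surjective' (Ideal.Quotient.mk _) Ideal.Quotient.mk_surjective
    haveI := (isGorensteinLocalRing_quotient_iff hxm hx).1 ‹_›
    have hA' : HasInjectiveDimensionLT (ModuleCat.of (A ⧸ Ideal.span {x}) (A ⧸ Ideal.span {x})) (n + 1) :=
      injDim_of_residueField fun i hi => ih (A ⧸ Ideal.span {x}) hdx _ i hi
    obtain ⟨p⟩ := EnoughInjectives.presentation (ModuleCat.of A A)
    have hι : Function.Injective p.f.hom := (ModuleCat.mono_iff_injective _).1 p.mono
    have : Injective p.J := p.injective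
    obtain ⟨S', hS', h1, h2, h3⟩ := exists_tor_sequence hx p.f hι
    let S : ShortComplex (ModuleCat.{u} A) := ShortComplex.mk p.f (cokernel.π p.f) (cokernel.condition p.f)
    have hS : S.ShortExact := { exact := ShortComplex.exact_cokernel p.f }
    have hC : Divisible x (cokernel p.f) :=
      divisible_of_surjective x (cokernel.π p.f) ((ModuleCat.epi_iff_surjective _).1 inferInstance)
        (divisible_of_injective hx _)
    have hS1 : Injective S'.X₁ := h1 ▸ injective_tor p.J
    have hc : HasInjectiveDimensionLT (tor x (cokernel p.f)) (n + 1) := h2 ▸ hS'.hasInjectiveDimensionLT_X₂ (n + 1)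
      (@hasInjectiveDimensionLT_of_ge _ _ _ _ 1 (n + 1) (by omega) (injective_iff_hasInjectiveDimensionLT_one.1 hS1))
      (h3.symm ▸ hA')
    obtain ⟨i, rfl⟩ : ∃ j, i = j + 1 := ⟨i - 1, by omega⟩
    have hsub := ext_eq_zero_of_injDim_tor hx (IsLocalRing.ResidueField A) (fun z => by
      obtain ⟨z, rfl⟩ := IsLocalRing.residue_surjective z
      rw [Algebra.smul_def]
      change IsLocalRing.residue A x * IsLocalRing.residue A z = 0
      rw [(IsLocalRing.residue_eq_zero_iff x).2 hxm, zero_mul]) n _ hC hc i (by omega)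
    have key : ∀ z : Ext.{u} (ModuleCat.of A (IsLocalRing.ResidueField A)) (ModuleCat.of A A) (i + 1), z = 0 :=
      fun z => by
        obtain ⟨w, hw⟩ := Ext.covariant_sequence_exact₁ _ hS z (Ext.eq_zero_of_injective _) rfl
        rw [← hw, @Subsingleton.elim _ hsub w 0, Ext.zero_comp]
    exact subsingleton_of_forall_eq 0 key

/-- Dimension and depth agree. -/
theorem depth_eq_dim {A : Type u} [CommRing A] [LocCoh.IsGorensteinLocalRing A] {n : ℕ}
    (hn : ringKrullDim A = n) : LocCoh.depth A A = n := by
  obtain ⟨d, hd⟩ := ENat.ne_top_iff_exists.1 (DepthLib.depth_ne_top (R := A) A)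
  have := isCohenMacaulayLocalRing d A hd.symm
  have h := DepthLib.ringKrullDim_eq_depth (R := A)
  rw [hn] at h
  exact (WithBot.coe_injective h).symm

end Groth.Agent.GorLib
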