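import Groth.Agent.ProjDim.Finite
import Groth.Agent.DepthLib.CohenMacaulay
import Groth.Prelude.Def_CAlg
import Mathlib.Algebra.Category.ModuleCat.Ext.Finite
import Mathlib.Algebra.Category.ModuleCat.EnoughInjectives
import Mathlib.Algebra.Category.ModuleCat.Injective
import Mathlib.RingTheory.Nakayama

/-!
# Criteria for finite injective dimension over Noetherian local rings
-/

set_option linter.style.haveILetI false

namespace Groth.Agent.GorLib

open CategoryTheory CategoryTheory.Abelian CategoryTheory.Limits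

universe u

variable {A : Type u} [CommRing A]

theorem ext_congr_left {M M' : ModuleCat.{u} A} (e : M ≅ M') (X : ModuleCat.{u} A) (n : ℕ)
    (h : Subsingleton (Ext.{u} M X n)) : Subsingleton (Ext.{u} M' X n) := by
  have key : ∀ y : Ext.{u} M' X n, y = 0 := fun y => by
    rw [← Ext.mk₀_id_comp y, ← e.inv_hom_id, ← Ext.mk₀_comp_mk₀, Ext.comp_assoc_of_second_deg_zero,
      Subsingleton.elim ((Ext.mk₀ e.hom).comp y (zero_add n)) 0, Ext.comp_zero]
  exact ⟨fun a b => (key a).trans (key b).symm⟩

theorem ext_middle_left {S : ShortComplex (ModuleCat.{u} A)} (hS : S.ShortExact) (X : ModuleCat.{u} A) (n : ℕ)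
    (h₁ : Subsingleton (Ext.{u} S.X₁ X n)) (h₃ : Subsingleton (Ext.{u} S.X₃ X n)) :
    Subsingleton (Ext.{u} S.X₂ X n) := by
  have key : ∀ y : Ext.{u} S.X₂ X n, y = 0 := fun y => by
    obtain ⟨z, hz⟩ := Ext.contravariant_sequence_exact₂ hS X y (Subsingleton.elim _ _)
    rw [← hz, Subsingleton.elim z 0, Ext.comp_zero]
  exact ⟨fun a b => (key a).trans (key b).symm⟩

variable [IsLocalRing A] [IsNoetherianRing A]

/-- Vanishing on the residue field in all large degrees gives it on all finite modules. -/
theorem ext_vanish_of_residueField {X : ModuleCat.{u} A} [Module.Finite A X] {n : ℕ}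
    (h : ∀ i, n ≤ i → Subsingleton (Ext.{u} (ModuleCat.of A (IsLocalRing.ResidueField A)) X i))
    (M : Type u) [AddCommGroup M] [Module A M] [Module.Finite A M] :
    ∀ i, n ≤ i → Subsingleton (Ext.{u} (ModuleCat.of A M) X i) := by
  -- modules killed by an ideal
  let Q : Ideal A → Prop := fun J => ∀ (M : Type u) [AddCommGroup M] [Module A M] [Module.Finite A M],
    J ≤ Module.annihilator A M → ∀ i, n ≤ i → Subsingleton (Ext.{u} (ModuleCat.of A M) X i)
  suffices H : ∀ J : Ideal A, Q J from H ⊥ M bot_le
  intro J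
  induction J using IsNoetherian.induction with
  | hgt J ih =>
  intro M _ _ hM
  refine IsNoetherianRing.induction_on_isQuotientEquivQuotientPrime (A := A) hM
    (motive := fun N _ _ _ => J ≤ Module.annihilator A N → ∀ i, n ≤ i →
      Subsingleton (Ext.{u} (ModuleCat.of A N) X i)) ?_ ?_ ?_
  · intro N _ _ _ _ _ i _
    have key : ∀ y : Ext.{u} (ModuleCat.of A N) X i, y = 0 := fun y => by
      rw [← Ext.mk₀_id_comp y, (ModuleCat.isZero_of_subsingleton (ModuleCat.of A N)).eq_of_src (𝟙 _) 0,
        Ext.mk₀_zero, Ext.zero_comp]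
    exact ⟨fun a b => (key a).trans (key b).symm⟩
  · intro N _ _ _ p e hann i hi
    refine ext_congr_left e.symm.toModuleIso X i ?_
    have hJp : J ≤ p.asIdeal := fun x hx => by
      have h1 : x • e.symm (Ideal.Quotient.mk p.asIdeal 1) = 0 := Module.mem_annihilator.1 (hann hx) _
      have h2 := congrArg e h1
      rw [map_smul, LinearEquiv.apply_symm_apply, map_zero, Algebra.smul_def, ← Ideal.Quotient.algebraMap_eq,
        map_one, mul_one, Ideal.Quotient.algebraMap_eq, Ideal.Quotient.eq_zero_iff_mem] at h2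
      exact h2
    rcases (IsLocalRing.le_maximalIdeal p.isPrime.ne_top).eq_or_lt with hp | hp
    · rw [hp]; exact h i hi
    obtain ⟨x, hxm, hxp⟩ := SetLike.exists_of_lt hp
    let m : (A ⧸ p.asIdeal) →ₗ[A] A ⧸ p.asIdeal := x • LinearMap.id
    have hinj : Function.Injective m := by
      rw [← LinearMap.ker_eq_bot, eq_bot_iff]
      intro y hy
      obtain ⟨y, rfl⟩ := Ideal.Quotient.mk_surjective y
      have h1 : Ideal.Quotient.mk p.asIdeal (x * y) = 0 := hy
      rw [Ideal.Quotient.eq_zero_iff_mem] at h1
      exact Ideal.Quotient.eq_zero_iff_mem.2 ((p.isPrime.mem_or_mem h1).resolve_left hxp)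
    let S : ShortComplex (ModuleCat.{u} A) := ShortComplex.mk (ModuleCat.ofHom m)
      (ModuleCat.ofHom (LinearMap.range m).mkQ) (by ext y; simp)
    have hS : S.ShortExact :=
      { exact := by
          rw [ShortComplex.moduleCat_exact_iff]
          intro y hy
          exact (Submodule.Quotient.mk_eq_zero _).1 hy
        mono_f := (ModuleCat.mono_iff_injective _).2 hinj
        epi_g := (ModuleCat.epi_iff_surjective _).2 (Submodule.mkQ_surjective _) }
    have hbig : J < J ⊔ Ideal.span {x} := lt_of_le_of_ne le_sup_left fun e =>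
      hxp (hJp (e ▸ Ideal.mem_sup_right (Ideal.mem_span_singleton_self x)))
    have hQ : Subsingleton (Ext.{u} S.X₃ X (i + 1)) := by
      refine ih _ hbig ((A ⧸ p.asIdeal) ⧸ LinearMap.range m) (sup_le ?_ ?_) (i + 1) (by omega)
      · intro y hy
        rw [Module.mem_annihilator]
        intro z
        obtain ⟨z, rfl⟩ := Submodule.Quotient.mk_surjective _ z
        obtain ⟨z, rfl⟩ := Ideal.Quotient.mk_surjective z
        rw [← Submodule.Quotient.mk_smul, Submodule.Quotient.mk_eq_zero]
        refine ⟨0, ?_⟩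
        rw [map_zero, Algebra.smul_def, Ideal.Quotient.algebraMap_eq, ← map_mul, eq_comm, Ideal.Quotient.eq_zero_iff_mem]
        exact Ideal.mul_mem_right _ _ (hJp hy)
      · rw [Ideal.span_singleton_le_iff_mem, Module.mem_annihilator]
        intro z
        obtain ⟨z, rfl⟩ := Submodule.Quotient.mk_surjective _ z
        rw [← Submodule.Quotient.mk_smul, Submodule.Quotient.mk_eq_zero]
        exact ⟨z, rfl⟩
    have hsm : ∀ y : Ext.{u} S.X₂ X i, ∃ z : Ext.{u} S.X₂ X i, x • z = y := fun y => by
      obtain ⟨z, hz⟩ := Ext.contravariant_sequence_exact₁ hS X y (add_comm 1 i) (Subsingleton.elim _ _)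
      refine ⟨z, ?_⟩
      rw [← hz]
      have : S.f = x • 𝟙 _ := by ext; rfl
      rw [this, Ext.mk₀_smul, Ext.smul_comp]
      congr 1
      exact (Ext.mk₀_id_comp z).symm
    have hfin : Module.Finite A (Ext.{u} (ModuleCat.of A (A ⧸ p.asIdeal)) X i) := ModuleCat.finite_ext A _ _ i
    have htop : (⊤ : Submodule A (Ext.{u} (ModuleCat.of A (A ⧸ p.asIdeal)) X i)) = ⊥ := by
      refine Submodule.eq_bot_of_le_smul_of_le_jacobson_bot (IsLocalRing.maximalIdeal A) ⊤ hfin.fg_top ?_
        (IsLocalRing.maximalIdeal_le_jacobson _)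
      intro y _
      obtain ⟨z, rfl⟩ := hsm y
      exact Submodule.smul_mem_smul hxm Submodule.mem_top
    exact ⟨fun a b => by
      have ha : a ∈ (⊥ : Submodule A _) := htop ▸ Submodule.mem_top
      have hb : b ∈ (⊥ : Submodule A _) := htop ▸ Submodule.mem_top
      rw [Submodule.mem_bot] at ha hb
      rw [ha, hb]⟩
  · intro N₁ _ _ _ N₂ _ _ _ N₃ _ _ _ f g hf hg hfg h₁ h₃ hann i hi
    let S : ShortComplex (ModuleCat.{u} A) :=
      ShortComplex.mk (ModuleCat.ofHom f) (ModuleCat.ofHom g) (ModuleCat.hom_ext hfg.linearMap_comp_eq_zero)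
    have hS : S.ShortExact :=
      { exact := (ShortComplex.ShortExact.moduleCat_exact_iff_function_exact S).2 hfg
        mono_f := (ModuleCat.mono_iff_injective _).2 hf
        epi_g := (ModuleCat.epi_iff_surjective _).2 hg }
    exact ext_middle_left hS X i (h₁ (hann.trans (LinearMap.annihilator_le_of_injective f hf)) i hi)
      (h₃ (hann.trans (LinearMap.annihilator_le_of_surjective g hg)) i hi)

theorem injDim_of_residueField {X : ModuleCat.{u} A} [Module.Finite A X] {n : ℕ}
    (h : ∀ i, n + 1 ≤ i → Subsingleton (Ext.{u} (ModuleCat.of A (IsLocalRing.ResidueField A)) X i)) :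
    HasInjectiveDimensionLT X (n + 1) :=
  (ProjDim.injDim_iff_ext_quotient X n).2 fun I => ext_vanish_of_residueField h (A ⧸ I) (n + 1) le_rfl

theorem isGorensteinLocalRing_iff :
    LocCoh.IsGorensteinLocalRing A ↔ ∃ N : ℕ, ∀ i : ℕ, N ≤ i →
      Subsingleton (Ext.{u} (ModuleCat.of A (IsLocalRing.ResidueField A)) (ModuleCat.of A A) i) := by
  constructor
  · intro h
    obtain ⟨n, hn⟩ := h.exists_hasInjectiveDimensionLT
    exact ⟨n, fun i hi => @HasInjectiveDimensionLT.subsingleton _ _ _ _ _ n hn i hi _⟩
  · rintro ⟨N, hN⟩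
    exact { exists_hasInjectiveDimensionLT :=
      ⟨N + 1, injDim_of_residueField fun i hi => hN i (by omega)⟩ }

/-- A self-injective Noetherian local ring has dimension zero. -/
theorem ringKrullDim_eq_zero_of_injective [Module.Injective A A] : ringKrullDim A = 0 := by
  classical
  have hmin : ∀ p ∈ minimalPrimes A, p = IsLocalRing.maximalIdeal A := by
    intro p hp
    have hpp := hp.isPrime
    by_contra hne
    have hlt := (IsLocalRing.le_maximalIdeal hpp.ne_top).lt_of_ne hne
    obtain ⟨x, hxm, hxp⟩ := SetLike.exists_of_lt hlt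
    let W : Submodule A A := Submodule.torsionBySet A A (p : Set A)
    have hW : W ≤ IsLocalRing.maximalIdeal A • W := by
      intro w hw
      let m : (A ⧸ p) →ₗ[A] A ⧸ p := x • LinearMap.id
      have hinj : Function.Injective m := by
        rw [← LinearMap.ker_eq_bot, eq_bot_iff]
        intro y hy
        obtain ⟨y, rfl⟩ := Ideal.Quotient.mk_surjective y
        have h1 : Ideal.Quotient.mk p (x * y) = 0 := hy
        rw [Ideal.Quotient.eq_zero_iff_mem] at h1
        exact Ideal.Quotient.eq_zero_iff_mem.2 ((hpp.mem_or_mem h1).resolve_left hxp)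
      let φ : (A ⧸ p) →ₗ[A] A := p.liftQ (LinearMap.toSpanSingleton A A w) fun a ha =>
        (Submodule.mem_torsionBySet_iff _ _).1 hw ⟨a, ha⟩
      obtain ⟨ψ, hψ⟩ := Module.Injective.out m hinj φ
      have h1 := hψ (Submodule.Quotient.mk 1)
      change ψ (x • Submodule.Quotient.mk 1) = (1 : A) • w at h1
      rw [map_smul, one_smul] at h1
      rw [← h1]
      refine Submodule.smul_mem_smul hxm ((Submodule.mem_torsionBySet_iff _ _).2 fun ⟨a, ha⟩ => ?_)
      rw [← map_smul, ← Submodule.Quotient.mk_smul, (Submodule.Quotient.mk_eq_zero p).2 (by simpa using ha), map_zero]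
    have hW0 : W = ⊥ := Submodule.eq_bot_of_le_smul_of_le_jacobson_bot _ W (IsNoetherian.noetherian _) hW
      (IsLocalRing.maximalIdeal_le_jacobson _)
    have hass : p ∈ associatedPrimes A A := by
      refine Module.associatedPrimes.minimalPrimes_annihilator_subset_associatedPrimes A A ?_
      have h0 : Module.annihilator A A = ⊥ := Module.annihilator_eq_bot.2 inferInstance
      rw [h0]; exact hp
    obtain ⟨y, hy⟩ := (isAssociatedPrime_iff.1 hass).2
    have hyW : y ∈ W := (Submodule.mem_torsionBySet_iff _ _).2 fun ⟨a, ha⟩ => by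
      have : a ∈ Submodule.colon (⊥ : Submodule A A) {y} := hy ▸ ha
      rwa [Submodule.mem_colon_singleton, Submodule.mem_bot] at this
    rw [hW0, Submodule.mem_bot] at hyW
    subst hyW
    refine hpp.ne_top ((Ideal.eq_top_iff_one p).2 ?_)
    rw [hy, Submodule.mem_colon_singleton, smul_zero]
    exact zero_mem _
  have hsub : Subsingleton (PrimeSpectrum A) := ⟨fun a b => by
    have key : ∀ Q : PrimeSpectrum A, Q.asIdeal = IsLocalRing.maximalIdeal A := fun Q => by
      obtain ⟨q, hq, hqQ⟩ := Ideal.exists_minimalPrimes_le (I := ⊥) (J := Q.asIdeal) bot_le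
      exact ((IsLocalRing.maximalIdeal.isMaximal A).eq_of_le Q.isPrime.ne_top (hmin q hq ▸ hqQ)).symm
    exact PrimeSpectrum.ext ((key a).trans (key b).symm)⟩
  exact le_antisymm Order.krullDim_nonpos_of_subsingleton ringKrullDim_nonneg_of_nontrivial

/-- In depth zero a ring of finite injective dimension is self-injective. -/
theorem injective_of_depth_eq_zero [LocCoh.IsGorensteinLocalRing A] (hd : LocCoh.depth A A = 0) :
    Module.Injective A A := by
  have hass := DepthLib.depth_eq_zero_iff.1 hd
  obtain ⟨u, hu⟩ := (isAssociatedPrime_iff.1 hass).2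
  let ι : IsLocalRing.ResidueField A →ₗ[A] A :=
    (IsLocalRing.maximalIdeal A).liftQ (LinearMap.toSpanSingleton A A u) fun a ha => by
      rw [hu, Submodule.mem_colon_singleton, Submodule.mem_bot] at ha
      exact ha
  have hinj : Function.Injective ι := by
    rw [← LinearMap.ker_eq_bot, eq_bot_iff]
    intro z hz
    obtain ⟨z, rfl⟩ := Submodule.Quotient.mk_surjective _ z
    have h : z • u = 0 := hz
    refine (Submodule.Quotient.mk_eq_zero _).2 ?_
    rw [hu, Submodule.mem_colon_singleton, Submodule.mem_bot]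
    exact h
  let S : ShortComplex (ModuleCat A) := ShortComplex.mk (ModuleCat.ofHom ι)
    (ModuleCat.ofHom (LinearMap.range ι).mkQ)
    (ModuleCat.hom_ext (LinearMap.ext fun y => (Submodule.Quotient.mk_eq_zero _).2 ⟨y, rfl⟩))
  have hS : S.ShortExact :=
    { exact := by
        rw [ShortComplex.moduleCat_exact_iff]
        intro y hy
        exact (Submodule.Quotient.mk_eq_zero _).1 hy
      mono_f := (ModuleCat.mono_iff_injective _).2 hinj
      epi_g := (ModuleCat.epi_iff_surjective _).2 (Submodule.mkQ_surjective _) }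
  obtain ⟨n, hn⟩ := LocCoh.IsGorensteinLocalRing.exists_hasInjectiveDimensionLT (A := A)
  have hdown : ∀ j m, n ≤ m + j → HasInjectiveDimensionLT (ModuleCat.of A A) (m + 1) := by
    intro j
    induction j with
    | zero => intro m hm; exact hasInjectiveDimensionLT_of_ge _ n (m + 1) (by omega)
    | succ j ih =>
      intro m hm
      have h2 := ih (m + 1) (by omega)
      refine injDim_of_residueField fun i hi => ?_
      rcases (show i = m + 1 ∨ m + 2 ≤ i by omega) with rfl | hi'
      · have key : ∀ y : Ext.{u} (ModuleCat.of A (IsLocalRing.ResidueField A)) (ModuleCat.of A A) (m + 1), y = 0 :=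
          fun y => by
            obtain ⟨z, hz⟩ := Ext.contravariant_sequence_exact₁ hS (ModuleCat.of A A) y (add_comm 1 (m + 1))
              ((@HasInjectiveDimensionLT.subsingleton _ _ _ _ _ (m + 2) h2 (m + 2) le_rfl _).elim _ _)
            rw [← hz, show z = 0 from Ext.eq_zero_of_projective (P := ModuleCat.of A A) z, Ext.comp_zero]
        exact ⟨fun a b => (key a).trans (key b).symm⟩
      · exact @HasInjectiveDimensionLT.subsingleton _ _ _ _ _ (m + 2) h2 i hi' _
  have h1 := hdown n 0 (by omega)
  have := injective_iff_hasInjectiveDimensionLT_one.2 h1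
  exact Module.injective_module_of_injective_object A A

end Groth.Agent.GorLib
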