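import Groth.Agent.GorLib.RingLevel
import Groth.Agent.RegSeq.Basic
import Groth.Agent.KRIdeal.Pres
import Mathlib

/-!
# Gorenstein rings and finitely generated field extensions
-/

universe u

open TensorProduct

namespace Groth.Agent.GorLib

/-- Localisations of Gorenstein rings are Gorenstein. -/
theorem isGorensteinRing_of_isLocalization {S T : Type u} [CommRing S] [CommRing T] [Algebra S T] (M : Submonoid S)
    [IsLocalization M T] [LocCoh.IsGorensteinRing S] : LocCoh.IsGorensteinRing T := by
  haveI : IsNoetherianRing T := IsLocalization.isNoetherianRing M T inferInstance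
  refine { isGorensteinLocalRing_localization := fun q _ => ?_ }
  haveI := IsLocalization.isLocalization_isLocalization_atPrime_isLocalization M (Localization.AtPrime q) q
  haveI := LocCoh.IsGorensteinRing.isGorensteinLocalRing_localization (A := S) (q.comap (algebraMap S T))
  exact SegreOne.isGorensteinLocalRing_of_ringEquiv (IsLocalization.algEquiv (q.comap (algebraMap S T)).primeCompl
    (Localization.AtPrime (q.comap (algebraMap S T))) (Localization.AtPrime q)).toRingEquiv

/-- A simple algebra over a field is a complete intersection. -/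
theorem isLCI_of_singleton (F B : Type u) [Field F] [CommRing B] [Algebra F B] (b : B)
    (hb : Function.Surjective (MvPolynomial.aeval (R := F) (fun _ : Unit => b))) : LCI.IsLCI F B := by
  refine KRIdeal.isLCI_of_pker (fun _ : Unit => b) hb ?_
  let P := MvPolynomial Unit F
  let e : P ≃+* Polynomial F := (MvPolynomial.uniqueAlgEquiv F Unit).toRingEquiv
  let I : Ideal P := RingHom.ker (MvPolynomial.aeval (R := F) (fun _ : Unit => b)).toRingHom
  haveI : (I.map e.toRingHom).IsPrincipal := IsPrincipalIdealRing.principal _
  obtain ⟨g, hg⟩ := Submodule.IsPrincipal.principal (I.map e.toRingHom)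
  have hI : I = Ideal.span {e.symm g} := by
    have h1 : (I.map e.toRingHom).map e.symm.toRingHom = I := by
      rw [Ideal.map_map]
      convert Ideal.map_id I using 2
      exact RingHom.ext fun x => e.symm_apply_apply x
    rw [← h1, hg]
    exact (Ideal.map_span _ _).trans (by simp)
  show LCI.IsKoszulRegularIdeal I
  rw [hI]
  rcases eq_or_ne (e.symm g) 0 with h0 | h0
  · rw [h0, Ideal.span_singleton_zero, ← Ideal.ofList_nil]
    exact KRIdeal.isKRI_of_ex ((KoszulLib.ex_iff _).2
      (RegSeq.isKoszulRegularSeq_of_isWeaklyRegular (RingTheory.Sequence.IsWeaklyRegular.nil _ _)))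
  · rw [← Ideal.ofList_singleton]
    exact KRIdeal.isKRI_of_ex (KRIdeal.ex_singleton fun a c hac => mul_left_cancel₀ h0 hac)

theorem isGorensteinRing_tensor_loc {F A0 L : Type u} [Field F] [CommRing A0] [CommRing L] [Algebra F A0]
    [Algebra F L] [Algebra A0 L] [IsScalarTower F A0 L] (M : Submonoid A0) [IsLocalization M L]
    (S : Type u) [CommRing S] [Algebra F S] [LocCoh.IsGorensteinRing (S ⊗[F] A0)] :
    LocCoh.IsGorensteinRing (S ⊗[F] L) := by
  let φ : (S ⊗[F] A0) →ₐ[S] (S ⊗[F] L) :=
    Algebra.TensorProduct.map (AlgHom.id S S) (IsScalarTower.toAlgHom F A0 L)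
  letI : Algebra (S ⊗[F] A0) (S ⊗[F] L) := φ.toRingHom.toAlgebra
  haveI : IsScalarTower S (S ⊗[F] A0) (S ⊗[F] L) :=
    .of_algebraMap_eq <| by intro; simp [RingHom.algebraMap_toAlgebra, φ]
  haveI := IsLocalization.tensorProduct_tensorProduct_right F S M L
    (by ext; simp [RingHom.algebraMap_toAlgebra, φ])
  exact isGorensteinRing_of_isLocalization (M.map (Algebra.TensorProduct.includeRight (R := F) (A := S)))

set_option synthInstance.maxHeartbeats 1000000 in
open IntermediateField in
open scoped IntermediateField.algebraAdjoinAdjoin in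
/-- Base change of Gorenstein algebras along a simple extension of fields. -/
theorem isGorensteinRing_tensor_simple (F E : Type u) [Field F] [Field E] [Algebra F E] (x : E)
    (S : Type u) [CommRing S] [Algebra F S] [LocCoh.IsGorensteinRing S] :
    LocCoh.IsGorensteinRing (S ⊗[F] ↥(F⟮x⟯)) := by
  let A0 := Algebra.adjoin F ({x} : Set E)
  let b : A0 := ⟨x, Algebra.self_mem_adjoin_singleton F x⟩
  have hb : Function.Surjective (MvPolynomial.aeval (R := F) (fun _ : Unit => b)) := by
    rintro ⟨y, hy⟩
    change y ∈ Algebra.adjoin F ({x} : Set E) at hy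
    rw [Algebra.adjoin_singleton_eq_range_aeval] at hy
    obtain ⟨p, hp⟩ := hy
    refine ⟨(MvPolynomial.uniqueAlgEquiv F Unit).symm p, Subtype.ext ?_⟩
    have key : (A0.val).comp ((MvPolynomial.aeval (R := F) (fun _ : Unit => b)).comp
        (MvPolynomial.uniqueAlgEquiv F Unit).symm.toAlgHom) = Polynomial.aeval x := Polynomial.algHom_ext (by simp [b])
    exact (AlgHom.congr_fun key p).trans hp
  haveI : LocCoh.IsGorensteinRing (S ⊗[F] A0) :=
    isGorensteinRing_of_isLCI (KRIdeal.isLCI_baseChange F A0 S (isLCI_of_singleton F A0 b hb))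
  exact isGorensteinRing_tensor_loc (nonZeroDivisors A0) S

set_option synthInstance.maxHeartbeats 1000000 in
open IntermediateField in
theorem isGorensteinRing_tensor_step (k F L R : Type u) [Field k] [Field F] [Field L] [Algebra k F] [Algebra F L]
    [Algebra k L] [IsScalarTower k F L] [CommRing R] [Algebra k R] [LocCoh.IsGorensteinRing (F ⊗[k] R)]
    (h : ∀ (S : Type u) [CommRing S] [Algebra F S] [LocCoh.IsGorensteinRing S], LocCoh.IsGorensteinRing (S ⊗[F] L)) :
    LocCoh.IsGorensteinRing (L ⊗[k] R) := by
  haveI := h (F ⊗[k] R)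
  exact SegreOne.isGorensteinRing_of_ringEquiv (A := (F ⊗[k] R) ⊗[F] L)
    ((Algebra.TensorProduct.comm F (F ⊗[k] R) L).toRingEquiv.trans
      (Algebra.TensorProduct.cancelBaseChange k F F L R).toRingEquiv)

open IntermediateField in
/-- Base change of Gorenstein algebras along a finitely generated extension of fields. -/
theorem isGorensteinRing_tensor_fg (k K R : Type u) [Field k] [Field K] [Algebra k K]
    (hK : ∃ s : Finset K, IntermediateField.adjoin k (s : Set K) = ⊤) [CommRing R] [Algebra k R]
    [LocCoh.IsGorensteinRing R] : LocCoh.IsGorensteinRing (K ⊗[k] R) := by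
  obtain ⟨s, hs⟩ := hK
  let P : IntermediateField k K → Prop := fun L => LocCoh.IsGorensteinRing (↥L ⊗[k] R)
  have h : P (IntermediateField.adjoin k (s : Set K)) := by
    refine IntermediateField.induction_on_adjoin_finset s P ?_ fun L x _ hL => ?_
    · exact SegreOne.isGorensteinRing_of_ringEquiv
        (((Algebra.TensorProduct.congr (IntermediateField.botEquiv k K) (AlgEquiv.refl (A₁ := R))).trans
          (Algebra.TensorProduct.lid k R)).symm.toRingEquiv)
    · haveI : LocCoh.IsGorensteinRing (↥L ⊗[k] R) := hL
      exact isGorensteinRing_tensor_step k ↥L ↥(L⟮x⟯) R fun S _ _ _ => isGorensteinRing_tensor_simple ↥L K x S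
  rw [hs] at h
  haveI : LocCoh.IsGorensteinRing (↥(⊤ : IntermediateField k K) ⊗[k] R) := h
  exact SegreOne.isGorensteinRing_of_ringEquiv
    (Algebra.TensorProduct.congr (IntermediateField.topEquiv (F := k) (E := K)) (AlgEquiv.refl (A₁ := R))).toRingEquiv

end Groth.Agent.GorLib
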