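import Groth.Agent.GorLib.RingLevel
import Groth.Agent.KoszulLib.Cone
import Groth.Agent.KRIdeal.Pres
import Mathlib

/-!
# Koszul regular ideals with flat quotient stay Koszul regular on the fibres
-/

universe u

open TensorProduct

namespace Groth.Agent.GorLib

variable {A : Type u} [CommRing A]

/-- The kernel of a surjection between flat modules is flat. -/
theorem flat_of_exact {M N Q : Type u} [AddCommGroup M] [Module A M] [AddCommGroup N] [Module A N]
    [AddCommGroup Q] [Module A Q] (f : M →ₗ[A] N) (hf : Function.Injective f) (g : N →ₗ[A] Q)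
    (hg : Function.Surjective g) (h : Function.Exact f g) [Module.Flat A N] [Module.Flat A Q] :
    Module.Flat A M := by
  rw [Module.Flat.iff_rTensor_injective']
  intro I
  have h1 : Function.Injective (f.lTensor I) := LinearMap.lTensor_injective_of_exact_of_flat g hg f hf h I
  have h2 : Function.Injective (I.subtype.rTensor N) :=
    Module.Flat.rTensor_preserves_injective_linearMap (M := N) I.subtype Subtype.val_injective
  intro x y hxy
  refine h1 (h2 ?_)
  have e : ∀ z : I ⊗[A] M, I.subtype.rTensor N (f.lTensor I z) = f.lTensor A (I.subtype.rTensor M z) := fun z => by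
    rw [← LinearMap.comp_apply, LinearMap.rTensor_comp_lTensor, ← LinearMap.lTensor_comp_rTensor, LinearMap.comp_apply]
  rw [e, e, hxy]

section Complex

open KoszulLib

variable {P : Type u} [CommRing P] [Algebra A P]

theorem flat_X [Module.Flat A P] (l : List P) (i : ℤ) [Module A (X l i)] [IsScalarTower A P (X l i)] :
    Module.Flat A (X l i) :=
  haveI := free l i
  Module.Flat.trans A P (X l i)

/-- A Koszul resolution of a module flat over `A` stays exact on base change along `A`. -/
theorem ex_baseChange_of_flat [Module.Flat A P] (l : List P) (h : Ex l)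
    (hq : Module.Flat A (P ⧸ Ideal.ofList l)) (K : Type u) [CommRing K] [Algebra A K] :
    Ex (l.map (algebraMap P (P ⊗[A] K))) := by
  letI : ∀ i, Module A (X l i) := fun i => Module.compHom _ (algebraMap A P)
  haveI : ∀ i, IsScalarTower A P (X l i) := fun i => IsScalarTower.of_algebraMap_smul fun _ _ => rfl
  haveI := fun i => flat_X (A := A) l i
  let D : ∀ i j, X l i →ₗ[A] X l j := fun i j => (dL l i j).restrictScalars A
  let C : ℤ → Type u := fun i => X l i ⧸ LinearMap.range (D (i - 1) i)
  have hflat : ∀ n : ℕ, Module.Flat A (C (-(n : ℤ))) := by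
    intro n
    induction n with
    | zero =>
      let π : X l 0 →ₗ[A] P ⧸ Ideal.ofList l :=
        ((Ideal.ofList l).mkQ.comp (e0 l).toLinearMap).restrictScalars A
      have hπ : Function.Surjective π := (Submodule.mkQ_surjective _).comp (e0 l).surjective
      have hker : LinearMap.range (D (-1) 0) = LinearMap.ker π := by
        ext x
        simp only [LinearMap.mem_ker, π, LinearMap.restrictScalars_apply, LinearMap.comp_apply,
          Submodule.mkQ_apply, Submodule.Quotient.mk_eq_zero, LinearEquiv.coe_coe]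
        rw [range_d_zero l]
        exact ⟨fun ⟨y, hy⟩ => ⟨y, by rw [← hy]; rfl⟩, fun ⟨y, hy⟩ => ⟨y, (e0 l).injective hy⟩⟩
      haveI := hq
      exact Module.Flat.of_linearEquiv ((Submodule.quotEquivOfEq _ _ hker).trans (π.quotKerEquivOfSurjective hπ))
    | succ n ih =>
      have h1 : -((n + 1 : ℕ) : ℤ) + 1 = -(n : ℤ) := by push_cast; ring
      have h2 : -(n : ℤ) - 1 = -((n + 1 : ℕ) : ℤ) := by push_cast; ring
      have hex := h (-((n + 1 : ℕ) : ℤ) - 1) (-((n + 1 : ℕ) : ℤ)) (-(n : ℤ)) (by ring) h1 (by omega)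
      let ι : C (-((n + 1 : ℕ) : ℤ)) →ₗ[A] X l (-(n : ℤ)) :=
        Submodule.liftQ _ (D (-((n + 1 : ℕ) : ℤ)) (-(n : ℤ))) (by
          rintro _ ⟨y, rfl⟩
          exact dL_dL l _ _ _ y)
      have hι : Function.Injective ι := LinearMap.ker_eq_bot.1 (Submodule.ker_liftQ_eq_bot _ _ _
        fun y hy => by
          obtain ⟨z, hz⟩ := (hex y).1 hy
          exact ⟨z, hz⟩)
      haveI := ih
      refine flat_of_exact ι hι (LinearMap.range (D (-(n : ℤ) - 1) (-(n : ℤ)))).mkQ (Submodule.mkQ_surjective _) ?_
      rw [LinearMap.exact_iff, Submodule.ker_mkQ, Submodule.range_liftQ, h2]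
  have hexK : ∀ i j k : ℤ, i + 1 = j → j + 1 = k → j ≠ 0 →
      Function.Exact ((D i j).rTensor K) ((D j k).rTensor K) := by
    intro i j k hij hjk hj
    rcases lt_or_gt_of_ne hj with hlt | hgt
    swap
    · intro y
      haveI := subsingleton_of_outside l j (Or.inl hgt)
      haveI : Subsingleton (X l j ⊗[A] K) := subsingleton_of_forall_eq 0 fun z => by
        induction z using TensorProduct.induction_on with
        | zero => rfl
        | tmul x s => rw [Subsingleton.elim x 0, TensorProduct.zero_tmul]
        | add a b ha hb => rw [ha, hb, add_zero]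
      rw [Subsingleton.elim y 0, map_zero]
      exact ⟨fun _ => ⟨0, map_zero _⟩, fun _ => rfl⟩
    obtain ⟨n, rfl⟩ : ∃ n : ℕ, k = -(n : ℤ) := ⟨(-k).toNat, by omega⟩
    obtain rfl : i = j - 1 := by omega
    haveI := hflat n
    let ι : (X l j ⧸ LinearMap.range (D (j - 1) j)) →ₗ[A] X l (-(n : ℤ)) :=
      Submodule.liftQ _ (D j (-(n : ℤ))) (by
        rintro _ ⟨y, rfl⟩
        exact dL_dL l _ _ _ y)
    have hι : Function.Injective ι := LinearMap.ker_eq_bot.1 (Submodule.ker_liftQ_eq_bot _ _ _
      fun y hy => by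
        obtain ⟨z, hz⟩ := (h (j - 1) j _ hij hjk hj y).1 hy
        exact ⟨z, hz⟩)
    have hex2 : Function.Exact ι (LinearMap.range (D (-(n : ℤ) - 1) (-(n : ℤ)))).mkQ := by
      obtain rfl : j = -(n : ℤ) - 1 := by omega
      rw [LinearMap.exact_iff, Submodule.ker_mkQ, Submodule.range_liftQ]
    have hι' : Function.Injective (ι.rTensor K) := by
      have h1 := LinearMap.lTensor_injective_of_exact_of_flat _ (Submodule.mkQ_surjective _) ι hι hex2 K
      intro x y hxy
      apply (TensorProduct.comm A _ K).injective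
      apply h1
      have hc : ∀ w, ι.lTensor K (TensorProduct.comm A _ K w) = TensorProduct.comm A _ K (ι.rTensor K w) := fun w => by
        induction w using TensorProduct.induction_on with
        | zero => simp
        | tmul a b => simp
        | add a b ha hb => simp only [map_add, ha, hb]
      rw [hc, hc, hxy]
    have hexq : Function.Exact ((D (j - 1) j).rTensor K) ((LinearMap.range (D (j - 1) j)).mkQ.rTensor K) :=
      rTensor_exact K (LinearMap.exact_map_mkQ_range _) (Submodule.mkQ_surjective _)
    have he : (D j (-(n : ℤ))).rTensor K = (ι.rTensor K).comp ((LinearMap.range (D (j - 1) j)).mkQ.rTensor K) := by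
      rw [← LinearMap.rTensor_comp]
      congr 1
    rw [he]
    intro y
    rw [LinearMap.comp_apply, ← hexq y]
    exact ⟨fun h0 => hι' (h0.trans (map_zero _).symm), fun h0 => by rw [h0, map_zero]⟩
  obtain ⟨θ, hθ⟩ := exists_baseChange (S := P ⊗[A] K) l
  let Φ : ∀ i, (P ⊗[A] K) ⊗[P] X l i ≃ₗ[A] X l i ⊗[A] K := fun i =>
    ((TensorProduct.comm P (P ⊗[A] K) (X l i)).trans
      (TensorProduct.AlgebraTensorModule.cancelBaseChange A P P (X l i) K)).restrictScalars A
  have hΦ : ∀ i j z, Φ j ((dL l i j).baseChange (P ⊗[A] K) z) = (D i j).rTensor K (Φ i z) := by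
    intro i j z
    induction z using TensorProduct.induction_on with
    | zero => simp
    | add a b ha hb => simp only [map_add, ha, hb]
    | tmul s x =>
      induction s using TensorProduct.induction_on with
      | zero => simp
      | add a b ha hb => simp only [TensorProduct.add_tmul, map_add, ha, hb]
      | tmul p c => simp [Φ, D]
  intro i j k hij hjk hj y
  obtain ⟨z, rfl⟩ := (θ j).surjective y
  constructor
  · intro hy
    rw [← hθ j k hjk, LinearEquiv.map_eq_zero_iff] at hy
    obtain ⟨w, hw⟩ := (hexK i j k hij hjk hj (Φ j z)).1 (by rw [← hΦ, hy, map_zero])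
    obtain ⟨w, rfl⟩ := (Φ i).surjective w
    rw [← hΦ] at hw
    exact ⟨θ i w, by rw [← hθ i j hij, (Φ j).injective hw]⟩
  · rintro ⟨w, hw⟩
    rw [← hw]
    exact dL_dL _ i j k w

end Complex

/-- Flat local complete intersection algebras have Gorenstein fibres. -/
theorem isGorensteinRing_fibre_of_isLCI {A B : Type u} [CommRing A] [CommRing B] [Algebra A B] [Module.Flat A B]
    (h : LCI.IsLCI A B) (K : Type u) [Field K] [Algebra A K] : LocCoh.IsGorensteinRing (B ⊗[A] K) := by
  obtain ⟨-, n, α, hα, hI⟩ := h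
  let P := MvPolynomial (Fin n) A
  haveI := isGorensteinRing_field K
  haveI := isGorensteinRing_mvPolynomial K n
  haveI : LocCoh.IsGorensteinRing (P ⊗[A] K) := SegreOne.isGorensteinRing_of_ringEquiv
    (((Algebra.TensorProduct.comm A P K).toRingEquiv.trans
      (MvPolynomial.scalarRTensorAlgEquiv (σ := Fin n) (R := A) (N := K)).toRingEquiv).symm)
  let β : P ⊗[A] K →ₐ[A] B ⊗[A] K := Algebra.TensorProduct.map α (AlgHom.id A K)
  have hβ : Function.Surjective β := Algebra.TensorProduct.map_surjective _ _ hα Function.surjective_id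
  refine isGorensteinRing_of_isKRI_ker β.toRingHom hβ ((KRIdeal.isKRI_iff _).2 fun q _ hq => ?_)
  have hker : RingHom.ker β.toRingHom = (RingHom.ker α.toRingHom).map
      (algebraMap P (P ⊗[A] K)) := Algebra.TensorProduct.rTensor_ker α hα
  let I : Ideal P := RingHom.ker α.toRingHom
  have hIq : I ≤ q.comap (algebraMap P (P ⊗[A] K)) := Ideal.map_le_iff_le_comap.1 (hker ▸ hq)
  obtain ⟨g, hg, r, f, hd⟩ := (KRIdeal.isKRI_iff _).1 hI _ hIq
  let Pg := Localization.Away g
  obtain ⟨hex, hspan⟩ := hd.transfer Pg (IsLocalization.Away.algebraMap_isUnit g)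
  have hflat : Module.Flat A (Pg ⧸ Ideal.ofList (List.ofFn (algebraMap P Pg ∘ f))) := by
    let Bg := Localization.Away (α g)
    let ψ : Pg →ₐ[A] Bg := IsLocalization.Away.mapₐ Pg Bg α g
    have hψ : RingHom.ker ψ.toRingHom = I.map (algebraMap P Pg) :=
      IsLocalization.ker_map (M := Submonoid.powers g) (T := Submonoid.powers (α g)) (S := Pg) (Q := Bg)
        (g := α.toRingHom) (Submonoid.map_powers α.toRingHom g)
    have hs : Function.Surjective ψ := IsLocalization.Away.mapₐ_surjective_of_surjective g hα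
    haveI : Module.Flat A Bg := Module.Flat.trans A B Bg
    refine Module.Flat.of_linearEquiv (N := Pg ⧸ Ideal.ofList (List.ofFn (algebraMap P Pg ∘ f)))
      ((Ideal.quotientEquivAlgOfEq A ?_).trans (Ideal.quotientKerAlgEquivOfSurjective hs)).toLinearEquiv
    rw [KRIdeal.ofList_ofFn, ← hspan, ← hψ]
    rfl
  have hexK := ex_baseChange_of_flat _ hex hflat K
  letI : Algebra (P ⊗[A] K) (Pg ⊗[A] K) :=
    (Algebra.TensorProduct.map (IsScalarTower.toAlgHom A P Pg) (AlgHom.id A K)).toAlgebra
  have htow : ∀ x : P, algebraMap P (Pg ⊗[A] K) x =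
      algebraMap (P ⊗[A] K) (Pg ⊗[A] K) (algebraMap P (P ⊗[A] K) x) := fun x => by
    rfl
  haveI : IsScalarTower P (P ⊗[A] K) (Pg ⊗[A] K) := by
    constructor
    intro x y z
    rw [Algebra.smul_def y z, Algebra.smul_def x y, Algebra.smul_def, map_mul, ← htow, mul_assoc, ← Algebra.smul_def]
  haveI : IsLocalization.Away (algebraMap P (P ⊗[A] K) g) (Pg ⊗[A] K) := by
    rw [IsLocalization.Away, ← Algebra.algebraMapSubmonoid_powers]
    exact IsLocalization.tensorProduct_tensorProduct A K (Submonoid.powers g) Pg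
      (RingHom.ext fun x => by simp [RingHom.algebraMap_toAlgebra])
  refine KRIdeal.at_of_away (g := algebraMap P (P ⊗[A] K) g) hg (Pg ⊗[A] K)
    (algebraMap Pg (Pg ⊗[A] K) ∘ algebraMap P Pg ∘ f) ?_ ?_
  · rwa [List.map_ofFn] at hexK
  · rw [hker, Ideal.map_map, ← IsScalarTower.algebraMap_eq, IsScalarTower.algebraMap_eq P Pg (Pg ⊗[A] K),
      ← Ideal.map_map, hspan, Ideal.map_span, ← Set.range_comp]

end Groth.Agent.GorLib
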