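import Groth.Agent.GorLib.InjDim
import Mathlib.RingTheory.LocalProperties.InjectiveDimension
import Mathlib.Algebra.Category.ModuleCat.InjectiveDimension

/-!
Injective dimension and localisation.
-/

set_option autoImplicit false
set_option linter.style.haveILetI false
set_option linter.unusedVariables false
universe u

open CategoryTheory
open CategoryTheory.Abelian (Ext)

namespace Groth.Agent.GorLib

variable {A : Type u} [CommRing A]

theorem hasInjDimLE_localizedModule_iff (M : Type u) [AddCommGroup M] [Module A M] (S : Submonoid A) (n : ℕ) :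
    HasInjectiveDimensionLT (ModuleCat.of (Localization S) (LocalizedModule S M)) (n + 1) ↔
      HasInjectiveDimensionLE ((ModuleCat.of A M).localizedModule S) n :=
  ModuleCat.hasInjectiveDimensionLE_iff_of_linearEquiv (M := ModuleCat.of (Localization S) (LocalizedModule S M))
    (N := (ModuleCat.of A M).localizedModule S) (Shrink.linearEquiv.{u} (Localization S) (LocalizedModule S M)).symm n

theorem hasInjDimLT_self_iff (S : Submonoid A) (n : ℕ) :
    HasInjectiveDimensionLT (ModuleCat.of (Localization S) (Localization S)) (n + 1) ↔
      HasInjectiveDimensionLE ((ModuleCat.of A A).localizedModule S) n :=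
  (ModuleCat.hasInjectiveDimensionLE_iff_of_linearEquiv (M := ModuleCat.of (Localization S) (Localization S))
    (N := ModuleCat.of (Localization S) (LocalizedModule S A))
    ((IsLocalizedModule.linearEquiv S (Algebra.linearMap A (Localization S)) (LocalizedModule.mkLinearMap S A)).extendScalarsOfIsLocalization
      S (Localization S)) n).trans (hasInjDimLE_localizedModule_iff A S n)

theorem ringKrullDim_lt_of_injDim [IsLocalRing A] [IsNoetherianRing A] {n d : ℕ}
    (h : HasInjectiveDimensionLT (ModuleCat.of A A) n) (hd : ringKrullDim A = d) : d < n := by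
  by_contra hlt
  haveI : LocCoh.IsGorensteinLocalRing A := { exists_hasInjectiveDimensionLT := ⟨n, h⟩ }
  have hdep := depth_eq_dim hd
  have h1 : ((d + 1 : ℕ) : ℕ∞) ≤ LocCoh.depth A A := by
    refine (DepthLib.natCast_le_idealDepth_iff_ext _ A (d + 1)).2 fun i hi => ?_
    rcases Nat.lt_succ_iff_lt_or_eq.1 hi with h' | rfl
    · exact (DepthLib.natCast_le_idealDepth_iff_ext _ A d).1 hdep.ge i h'
    · exact HasInjectiveDimensionLT.subsingleton (ModuleCat.of A A) n i (le_of_not_gt hlt) _
  rw [hdep] at h1
  exact absurd (Nat.cast_le.1 h1) (by omega)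

theorem injDim_le_of_dim {d N : ℕ} [LocCoh.IsGorensteinLocalRing A] (hd : ringKrullDim A = d) (hN : d ≤ N) :
    HasInjectiveDimensionLT (ModuleCat.of A A) (N + 1) :=
  injDim_of_residueField fun i hi => ext_vanish_of_depth_lt d A (depth_eq_dim hd) _ i (by omega)

end Groth.Agent.GorLib
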