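import Groth.Agent.GorLib.FlatLocal
import Groth.Agent.GorLib.LocalInjDim
import Groth.Agent.SemiGor.General
import Groth.Agent.FlatAscent.Fibres
import Groth.Agent.FlatAscent.AtPrime
import Groth.Agent.FlatSerre.Invariants
import Groth.Agent.DepthLib.CMPoly
import Groth.Agent.KRIdeal.Pres
import Groth.Agent.RegSeq.Noeth
import Groth.Agent.RegSeq.Basic
import Groth.Agent.S2103
import Groth.Prelude.Def_LCI2
import Mathlib

/-!
# Gorenstein rings: localisation, flat maps, polynomial rings, local complete intersections
-/

universe u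

open IsLocalRing RingTheory.Sequence TensorProduct

namespace Groth.Agent.GorLib

/-- Localisations of Gorenstein local rings are Gorenstein. -/
theorem gorenstein_localization {A : Type u} [CommRing A] [LocCoh.IsGorensteinLocalRing A] (p : Ideal A)
    [p.IsPrime] : LocCoh.IsGorensteinLocalRing (Localization.AtPrime p) := by
  obtain ⟨n, hn⟩ := LocCoh.IsGorensteinLocalRing.exists_hasInjectiveDimensionLT (A := A)
  refine { exists_hasInjectiveDimensionLT := ⟨n + 1, (hasInjDimLT_self_iff p.primeCompl n).2 ?_⟩ }
  haveI : CategoryTheory.HasInjectiveDimensionLE (ModuleCat.of A A) n :=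
    CategoryTheory.hasInjectiveDimensionLT_of_ge _ n (n + 1) n.le_succ
  exact ModuleCat.localizedModule_hasInjectiveDimensionLE n p.primeCompl _

theorem isGorensteinRing_of_local (A : Type u) [CommRing A] [LocCoh.IsGorensteinLocalRing A] :
    LocCoh.IsGorensteinRing A :=
  { isGorensteinLocalRing_localization := fun p _ => gorenstein_localization p }

theorem gorenstein_of_generization {A : Type u} [CommRing A] [IsNoetherianRing A] {p q : Ideal A} [p.IsPrime]
    [q.IsPrime] (h : p ≤ q) (hq : LocCoh.IsGorensteinLocalRing (Localization.AtPrime q)) :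
    LocCoh.IsGorensteinLocalRing (Localization.AtPrime p) := by
  haveI := hq
  have hd : Disjoint (q.primeCompl : Set A) (p : Set A) :=
    Set.disjoint_left.2 fun x hx hx' => hx (h hx')
  let P := p.map (algebraMap A (Localization.AtPrime q))
  haveI hP : P.IsPrime := IsLocalization.isPrime_of_isPrime_disjoint q.primeCompl _ p inferInstance hd
  have hc : P.comap (algebraMap A (Localization.AtPrime q)) = p :=
    IsLocalization.under_map_of_isPrime_disjoint q.primeCompl _ ‹p.IsPrime› hd
  haveI := IsLocalization.isLocalization_isLocalization_atPrime_isLocalization q.primeCompl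
    (Localization.AtPrime P) P
  haveI : IsLocalization.AtPrime (Localization.AtPrime P) p := by
    convert (inferInstance : IsLocalization.AtPrime (Localization.AtPrime P)
      (P.comap (algebraMap A (Localization.AtPrime q)))) using 1
    exact hc.symm
  haveI := gorenstein_localization P
  exact SegreOne.isGorensteinLocalRing_of_ringEquiv
    (IsLocalization.algEquiv p.primeCompl (Localization.AtPrime P) (Localization.AtPrime p)).toRingEquiv

theorem isGorensteinRing_of_isRegularRing (A : Type u) [CommRing A] [IsRegularRing A] : LocCoh.IsGorensteinRing A :=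
  { isGorensteinLocalRing_localization := fun p _ =>
      haveI := IsRegularRing.isRegularLocalRing_localization (R := A) p
      SemiGor.isGorensteinLocalRing_of_isRegularLocalRing _ }

theorem isGorensteinRing_field (k : Type u) [Field k] : LocCoh.IsGorensteinRing k :=
  haveI := DepthLib.CMPoly.isRegularRing_field k
  isGorensteinRing_of_isRegularRing k

section Flat

variable {A B : Type u} [CommRing A] [CommRing B] [IsNoetherianRing A] [IsNoetherianRing B]
  [Algebra A B] [Module.Flat A B]

/-- The local criterion at a prime of a flat algebra. -/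
theorem gorenstein_atPrime_iff (q : Ideal B) [q.IsPrime] :
    LocCoh.IsGorensteinLocalRing (Localization.AtPrime q) ↔
      (LocCoh.IsGorensteinLocalRing (Localization.AtPrime (q.comap (algebraMap A B))) ∧
        LocCoh.IsGorensteinLocalRing (EGA4.FibLocRing A B q)) := by
  obtain ⟨_, _, _, ⟨e⟩⟩ := FlatAscent.exists_local_setting (A := A) q
  rw [gorenstein_iff_of_flat (Localization.AtPrime (q.comap (algebraMap A B))) (Localization.AtPrime q),
    gorenstein_iff_of_ringEquiv e]

/-- A flat algebra with Gorenstein fibres over a Gorenstein ring is Gorenstein. -/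
theorem isGorensteinRing_of_fibres [LocCoh.IsGorensteinRing A]
    (h : ∀ (p : Ideal A) [p.IsPrime], LocCoh.IsGorensteinRing (p.Fiber B)) : LocCoh.IsGorensteinRing B :=
  { isGorensteinLocalRing_localization := fun q _ => by
      rw [gorenstein_atPrime_iff (A := A) q]
      refine ⟨LocCoh.IsGorensteinRing.isGorensteinLocalRing_localization _, ?_⟩
      obtain ⟨Q, _, ⟨e⟩⟩ := FlatAscent.exists_fibre_prime (A := A) q
      haveI := h (q.comap (algebraMap A B))
      haveI := LocCoh.IsGorensteinRing.isGorensteinLocalRing_localization (A := (q.comap (algebraMap A B)).Fiber B) Q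
      exact (gorenstein_iff_of_ringEquiv (A := Localization.AtPrime Q) e).1 inferInstance }

/-- The fibres of a flat Gorenstein algebra are Gorenstein. -/
theorem isGorensteinRing_fiber [LocCoh.IsGorensteinRing B] (p : Ideal A) [p.IsPrime] :
    LocCoh.IsGorensteinRing (p.Fiber B) := by
  haveI := FlatSerre.isNoetherianRing_fiber (A := A) (B := B) p
  refine { isGorensteinLocalRing_localization := fun Q _ => ?_ }
  obtain ⟨r, _, hr, ⟨e⟩⟩ := FlatSerre.exists_fibLoc_of_fiber_prime p Q
  rw [gorenstein_iff_of_ringEquiv e]
  exact ((gorenstein_atPrime_iff (A := A) r).1 (LocCoh.IsGorensteinRing.isGorensteinLocalRing_localization r)).2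

end Flat

/-- Polynomial rings over Gorenstein rings are Gorenstein. -/
theorem isGorensteinRing_mvPolynomial (A : Type u) [CommRing A] [LocCoh.IsGorensteinRing A] (n : ℕ) :
    LocCoh.IsGorensteinRing (MvPolynomial (Fin n) A) := by
  refine isGorensteinRing_of_fibres (A := A) fun p _ => ?_
  haveI := DepthLib.CMPoly.isRegularRing_field p.ResidueField
  haveI := isGorensteinRing_of_isRegularRing (MvPolynomial (Fin n) p.ResidueField)
  exact SegreOne.isGorensteinRing_of_ringEquiv
    ((MvPolynomial.scalarRTensorAlgEquiv (σ := Fin n) (R := A) (N := p.ResidueField)).symm.toRingEquiv)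

/-- Quotients of Gorenstein rings by Koszul-regular ideals are Gorenstein. -/
theorem isGorensteinRing_of_isKRI_ker {P B : Type u} [CommRing P] [CommRing B] [LocCoh.IsGorensteinRing P]
    (α : P →+* B) (hα : Function.Surjective α) (hI : LCI.IsKoszulRegularIdeal (RingHom.ker α)) :
    LocCoh.IsGorensteinRing B := by
  haveI : IsNoetherianRing B := isNoetherianRing_of_surjective P B α hα
  refine { isGorensteinLocalRing_localization := fun q _ => ?_ }
  let Q := q.comap α
  have hIQ : RingHom.ker α ≤ Q := fun x hx => by
    show α x ∈ q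
    rw [(RingHom.mem_ker).1 hx]
    exact zero_mem q
  obtain ⟨g, hg, r, f, hd⟩ := (KRIdeal.isKRI_iff _).1 hI Q hIQ
  let L := Localization.AtPrime Q
  haveI : IsNoetherianRing L := IsLocalization.isNoetherianRing Q.primeCompl L inferInstance
  obtain ⟨hex, hspan⟩ := hd.transfer L (IsLocalization.map_units L (⟨g, hg⟩ : Q.primeCompl))
  have hmem : ∀ i, (algebraMap P L ∘ f) i ∈ maximalIdeal L := fun i => by
    rw [← Localization.AtPrime.map_eq_maximalIdeal]
    exact Ideal.mem_map_of_mem _ (hIQ (hd.mem i))
  have hq : CAlgX.IsQuasiRegular (algebraMap P L ∘ f) := by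
    have h1 := RegSeq.isH1Regular_of_isKoszulRegularSeq ((KoszulLib.ex_iff _).1 hex)
    have h2 : ∀ (c : ℕ) (e : c = r) (v : Fin r → L), CAlgX.IsH1Regular (v ∘ Fin.cast e) → CAlgX.IsQuasiRegular v :=
      fun c e v h => by
        subst e
        exact S2103.result _ h
    refine h2 _ (List.length_ofFn (f := algebraMap P L ∘ f)) _ ?_
    convert h1 using 2
    funext i
    simp only [Function.comp_apply, List.get_ofFn]
  have hw := RegSeq.isWeaklyRegular_of_isQuasiRegular r _
    (fun i => by rw [IsLocalRing.jacobson_eq_maximalIdeal ⊥ bot_ne_top]; exact hmem i) hq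
  haveI : LocCoh.IsGorensteinLocalRing L := LocCoh.IsGorensteinRing.isGorensteinLocalRing_localization Q
  have hmem' : ∀ x ∈ List.ofFn (algebraMap P L ∘ f), x ∈ maximalIdeal L := fun x hx => by
    obtain ⟨i, rfl⟩ := List.mem_ofFn.1 hx
    exact hmem i
  haveI := (isGorensteinLocalRing_quotient_ofList_iff _ _ rfl hw hmem').1 inferInstance
  let ψ : L →+* Localization.AtPrime q := Localization.localRingHom Q q α rfl
  have hψs : Function.Surjective ψ := by
    intro z
    obtain ⟨⟨b, s⟩, rfl⟩ := IsLocalization.mk'_surjective q.primeCompl z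
    obtain ⟨a, rfl⟩ := hα b
    obtain ⟨t, ht⟩ := hα s.1
    exact ⟨IsLocalization.mk' L a (⟨t, fun h => s.2 (ht ▸ h : (s : B) ∈ q)⟩ : Q.primeCompl), by
      rw [Localization.localRingHom_mk']
      congr 1
      exact Subtype.ext ht⟩
  have hker : RingHom.ker ψ = (RingHom.ker α).map (algebraMap P L) := by
    refine IsLocalization.ker_map (M := Q.primeCompl) (T := q.primeCompl) (S := L) (Q := Localization.AtPrime q) (g := α) ?_
    ext b
    simp only [Submonoid.mem_map]
    exact ⟨fun ⟨a, ha, hab⟩ => hab ▸ ha, fun hb => by
      obtain ⟨a, rfl⟩ := hα b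
      exact ⟨a, hb, rfl⟩⟩
  have hI' : Ideal.ofList (List.ofFn (algebraMap P L ∘ f)) = RingHom.ker ψ := by
    rw [hker, hspan, KRIdeal.ofList_ofFn]
  exact SegreOne.isGorensteinLocalRing_of_ringEquiv
    ((Ideal.quotEquivOfEq hI').trans (RingHom.quotientKerEquivOfSurjective hψs))

/-- A local complete intersection algebra over a Gorenstein ring is Gorenstein. -/
theorem isGorensteinRing_of_isLCI {A B : Type u} [CommRing A] [CommRing B] [Algebra A B] [LocCoh.IsGorensteinRing A]
    (h : LCI.IsLCI A B) : LocCoh.IsGorensteinRing B := by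
  obtain ⟨-, n, α, hα, hI⟩ := h
  haveI := isGorensteinRing_mvPolynomial A n
  exact isGorensteinRing_of_isKRI_ker α.toRingHom hα hI

end Groth.Agent.GorLib
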