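import Groth.Agent.GorLib.Criterion
import Groth.Agent.MatlisLib.Core
import Groth.Agent.MatlisLib.Hull
import Groth.Agent.MatlisLib.Local
import Mathlib

/-!
# Artinian Gorenstein local rings are those with simple socle
-/

universe u

open CategoryTheory IsLocalRing TensorProduct

namespace Groth.Agent.GorLib

/-- An element killed by the maximal ideal. -/
def IsSocle {A : Type u} [CommRing A] [IsLocalRing A] (a : A) : Prop := ∀ x ∈ maximalIdeal A, x * a = 0

/-- The socle is at most one-dimensional. -/
def SocleCyclic (A : Type u) [CommRing A] [IsLocalRing A] : Prop :=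
  ∀ a b : A, IsSocle a → IsSocle b → a ≠ 0 → ∃ r : A, b = r * a

theorem exists_socle_ne_zero (A : Type u) [CommRing A] [IsLocalRing A] [IsArtinianRing A] :
    ∃ s : A, IsSocle s ∧ s ≠ 0 := by
  have hT : LocCoh.IsPowerTorsion (maximalIdeal A) A := MatlisLib.isPowerTorsion_of_isArtinian
  obtain ⟨r, hr0, hr⟩ := MatlisLib.exists_socle_multiple hT (one_ne_zero (α := A))
  exact ⟨r • 1, hr, hr0⟩

theorem isUnit_or_mem (A : Type u) [CommRing A] [IsLocalRing A] (r : A) : IsUnit r ∨ r ∈ maximalIdeal A :=
  (em (IsUnit r)).imp id (fun h => h)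

theorem socleCyclic_of_injective {A : Type u} [CommRing A] [IsLocalRing A] [Module.Injective A A] :
    SocleCyclic A := by
  intro a b ha hb ha0
  by_contra hne
  push Not at hne
  let g : (A × A) →ₗ[A] A :=
    (LinearMap.toSpanSingleton A A a).coprod (LinearMap.toSpanSingleton A A b)
  let π : (A × A) →ₗ[A] A := (LinearMap.toSpanSingleton A A a).comp (LinearMap.fst A A A)
  have hker : LinearMap.ker g ≤ LinearMap.ker π := by
    rintro ⟨p, q⟩ h
    rw [LinearMap.mem_ker] at h ⊢
    change p • a + q • b = 0 at h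
    change p • a = 0
    rcases isUnit_or_mem A q with hq | hq
    · obtain ⟨q', hq'⟩ := hq.exists_left_inv
      refine absurd ?_ (hne (-(q' * p)))
      simp only [smul_eq_mul] at h
      linear_combination (-b) * hq' + q' * h
    · have : q • b = 0 := hb q hq
      rwa [this, add_zero] at h
  let f : LinearMap.range g →ₗ[A] A := ((LinearMap.ker g).liftQ π hker).comp g.quotKerEquivRange.symm.toLinearMap
  have hf : ∀ v : A × A, f ⟨g v, v, rfl⟩ = π v := fun v => by
    have : g.quotKerEquivRange.symm ⟨g v, v, rfl⟩ = Submodule.Quotient.mk v := by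
      rw [LinearEquiv.symm_apply_eq]
      exact Subtype.ext (g.quotKerEquivRange_apply_mk v).symm
    show (LinearMap.ker g).liftQ π hker (g.quotKerEquivRange.symm ⟨g v, v, rfl⟩) = π v
    rw [this]
    rfl
  obtain ⟨F, hF⟩ := Module.Injective.out (LinearMap.range g).subtype Subtype.val_injective f
  have hFmul : ∀ x : A, F x = x * F 1 := fun x => by
    rw [← smul_eq_mul, ← map_smul, smul_eq_mul, mul_one]
  have e1 : a * F 1 = a := by
    have h1 := (hF ⟨g (1, 0), (1, 0), rfl⟩).trans (hf (1, 0))
    have e : g ((1 : A), (0 : A)) = a := by simp [g]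
    change F (g ((1 : A), (0 : A))) = (1 : A) • a at h1
    rw [e, hFmul, one_smul] at h1
    exact h1
  have e2 : b * F 1 = 0 := by
    have h1 := (hF ⟨g (0, 1), (0, 1), rfl⟩).trans (hf (0, 1))
    have e : g ((0 : A), (1 : A)) = b := by simp [g]
    change F (g ((0 : A), (1 : A))) = (0 : A) • a at h1
    rw [e, hFmul, zero_smul] at h1
    exact h1
  rcases isUnit_or_mem A (F 1) with hu | hu
  · exact hne 0 (by rw [zero_mul]; exact (hu.mul_left_eq_zero).1 e2)
  · exact ha0 (by rw [← e1, mul_comm]; exact ha _ hu)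

theorem socleCyclic_of_gorenstein {A : Type u} [CommRing A] [LocCoh.IsGorensteinLocalRing A] [IsArtinianRing A] :
    SocleCyclic A := by
  have hd : LocCoh.depth A A = 0 := by
    rw [DepthLib.depth_eq_zero_iff]
    obtain ⟨s, hs, hs0⟩ := exists_socle_ne_zero A
    refine isAssociatedPrime_iff.mpr ⟨(maximalIdeal.isMaximal A).isPrime, s, le_antisymm (fun x hx => ?_) ?_⟩
    · rw [Submodule.mem_colon_singleton, Submodule.mem_bot]
      exact hs x hx
    · refine IsLocalRing.le_maximalIdeal fun htop => hs0 ?_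
      have : (1 : A) ∈ (⊥ : Submodule A A).colon {s} := htop ▸ Submodule.mem_top
      rwa [Submodule.mem_colon_singleton, Submodule.mem_bot, one_smul] at this
  haveI := injective_of_depth_eq_zero (A := A) hd
  exact socleCyclic_of_injective

theorem gorenstein_of_socleCyclic {A : Type u} [CommRing A] [IsLocalRing A] [IsArtinianRing A]
    (h : SocleCyclic A) : LocCoh.IsGorensteinLocalRing A := by
  have hT : LocCoh.IsPowerTorsion (maximalIdeal A) A := MatlisLib.isPowerTorsion_of_isArtinian
  obtain ⟨E, _, _, f, hf⟩ := MatlisLib.exists_hull (R := A) (A ⧸ maximalIdeal A)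
  obtain ⟨s, hs, hs0⟩ := exists_socle_ne_zero A
  have hsker : LinearMap.ker (LinearMap.toSpanSingleton A A s) = maximalIdeal A := by
    refine le_antisymm (IsLocalRing.le_maximalIdeal fun htop => hs0 ?_) fun x hx => hs x hx
    have : (1 : A) ∈ LinearMap.ker (LinearMap.toSpanSingleton A A s) := htop ▸ Submodule.mem_top
    simpa using this
  let i : (A ⧸ maximalIdeal A) →ₗ[A] A :=
    (maximalIdeal A).liftQ (LinearMap.toSpanSingleton A A s) hsker.ge
  have hi : Function.Injective i :=
    LinearMap.ker_eq_bot.1 (Submodule.ker_liftQ_eq_bot _ _ _ hsker.le)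
  obtain ⟨g, hg⟩ := InjHullBasic.exists_extend hf.isInjective hi f
  have hgs : g s ≠ 0 := by
    have e : i (Submodule.Quotient.mk 1) = s := one_smul A s
    rw [← e, ← LinearMap.comp_apply, hg]
    exact fun h0 => (Ideal.Quotient.nontrivial_iff.2 (maximalIdeal.isMaximal A).ne_top).exists_pair_ne.elim
      fun _ _ => one_ne_zero (α := A ⧸ maximalIdeal A) (hf.injective (h0.trans (map_zero f).symm))
  have hinj : Function.Injective g := by
    rw [injective_iff_map_eq_zero]
    intro x hx
    by_contra hx0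
    obtain ⟨r, hr0, hr⟩ := MatlisLib.exists_socle_multiple hT hx0
    obtain ⟨t, ht⟩ := h _ s hr hs hr0
    exact hgs (by rw [ht, ← smul_eq_mul, map_smul, map_smul, hx, smul_zero, smul_zero])
  have hfl : IsFiniteLength A A := isFiniteLength_iff_isNoetherian_isArtinian.2 ⟨inferInstance, inferInstance⟩
  have hlen : Module.length A E = Module.length A A := by
    rw [← MatlisLib.length_dual hf hfl hT]
    exact (LinearMap.ringLmapEquivSelf A A E).length_eq.symm
  have hb := MatlisLib.bijective_of_injective_of_length_eq g hinj hlen.symm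
    (hlen ▸ Module.length_ne_top_iff.2 hfl)
  haveI : Module.Injective A E := hf.isInjective
  haveI : Module.Injective A A :=
    (Module.Baer.of_equiv (LinearEquiv.ofBijective g hb).symm (Module.Baer.of_injective hf.isInjective)).injective
  have := Module.injective_object_of_injective_module (R := A) (M := A)
  exact { exists_hasInjectiveDimensionLT := ⟨1, injective_iff_hasInjectiveDimensionLT_one.1 this⟩ }

section Flat

theorem tensorQuot_tmul_one {R M : Type u} [CommRing R] [AddCommGroup M] [Module R M] (I : Ideal R) (y : M) :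
    TensorProduct.tensorQuotEquivQuotSMul M I (y ⊗ₜ[R] (1 : R ⧸ I)) = Submodule.Quotient.mk y :=
  TensorProduct.quotTensorEquivQuotSMul_mk_one_tmul I y

variable {R S : Type u} [CommRing R] [CommRing S] [Algebra R S] [Module.Flat R S]

/-- Kernels commute with flat extension. -/
theorem mem_map_ker_of_flat {M : Type u} [AddCommGroup M] [Module R M] (φ : R →ₗ[R] M) {y : S}
    (hy : y ⊗ₜ[R] φ 1 = 0) : y ∈ Ideal.map (algebraMap R S) (LinearMap.ker φ) := by
  let I : Ideal R := LinearMap.ker φ
  let φ' : (R ⧸ I) →ₗ[R] M := I.liftQ φ le_rfl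
  have hinj : Function.Injective φ' := LinearMap.ker_eq_bot.1 (Submodule.ker_liftQ_eq_bot _ _ _ le_rfl)
  have h0 : y ⊗ₜ[R] (Submodule.Quotient.mk 1 : R ⧸ I) = 0 :=
    Module.Flat.lTensor_preserves_injective_linearMap (M := S) φ' hinj (by
      rw [map_zero]
      exact hy)
  have h1 := congrArg (TensorProduct.tensorQuotEquivQuotSMul S I) h0
  rw [map_zero] at h1
  have h2 : (Submodule.Quotient.mk y : S ⧸ I • (⊤ : Submodule R S)) = 0 := by
    rw [← h1]
    exact (tensorQuot_tmul_one I y).symm
  rw [Submodule.Quotient.mk_eq_zero, Ideal.smul_top_eq_map] at h2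
  exact h2

theorem mem_map_colon_of_flat (J : Ideal R) (b : R) {y : S}
    (hy : algebraMap R S b * y ∈ J.map (algebraMap R S)) :
    y ∈ Ideal.map (algebraMap R S) (LinearMap.ker (J.mkQ.comp (LinearMap.toSpanSingleton R R b))) := by
  refine mem_map_ker_of_flat _ ((TensorProduct.tensorQuotEquivQuotSMul S J).injective ?_)
  rw [map_zero]
  have e : J.mkQ.comp (LinearMap.toSpanSingleton R R b) 1 = (Submodule.Quotient.mk b : R ⧸ J) := by simp
  rw [e, show (Submodule.Quotient.mk b : R ⧸ J) = b • Submodule.Quotient.mk (1 : R) by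
    rw [← Submodule.Quotient.mk_smul, smul_eq_mul, mul_one], TensorProduct.tmul_smul, TensorProduct.smul_tmul']
  refine (tensorQuot_tmul_one J (b • y)).trans ?_
  rw [Submodule.Quotient.mk_eq_zero, Ideal.smul_top_eq_map, Algebra.smul_def]
  exact hy

variable [IsLocalRing R] [IsLocalRing S] [IsLocalHom (algebraMap R S)]

theorem mem_map_of_socle_mul {s : R} (hs0 : s ≠ 0) {y : S} (hy : algebraMap R S s * y = 0) :
    y ∈ (maximalIdeal R).map (algebraMap R S) := by
  have h := mem_map_colon_of_flat ⊥ s (y := y) (by rw [hy]; exact zero_mem _)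
  refine Ideal.map_mono (IsLocalRing.le_maximalIdeal fun htop => hs0 ?_) h
  have : (1 : R) ∈ LinearMap.ker ((⊥ : Ideal R).mkQ.comp (LinearMap.toSpanSingleton R R s)) := htop ▸ Submodule.mem_top
  rw [LinearMap.mem_ker, LinearMap.comp_apply, LinearMap.toSpanSingleton_apply, one_smul, Submodule.mkQ_apply,
    Submodule.Quotient.mk_eq_zero] at this
  exact this

theorem algebraMap_socle_mul {s : R} (hs : IsSocle s) {y : S}
    (hy : y ∈ (maximalIdeal R).map (algebraMap R S)) : algebraMap R S s * y = 0 := by
  have h1 := Ideal.mul_mem_mul (Ideal.mem_map_of_mem (algebraMap R S) (Ideal.mem_span_singleton_self s)) hy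
  rw [← Ideal.map_mul] at h1
  have h2 : Ideal.span {s} * maximalIdeal R = ⊥ := by
    rw [eq_bot_iff, Ideal.mul_le]
    intro a ha x hx
    obtain ⟨c, rfl⟩ := Ideal.mem_span_singleton'.1 ha
    rw [Submodule.mem_bot, mul_assoc, mul_comm s x, hs x hx, mul_zero]
  rwa [h2, Ideal.map_bot, Ideal.mem_bot] at h1

/-- Lifts of socle elements of the closed fibre times socle elements of the base are socle elements. -/
theorem isSocle_mul [IsLocalRing (S ⧸ (maximalIdeal R).map (algebraMap R S))] {s : R} (hs : IsSocle s) {y : S}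
    (hy : IsSocle (Ideal.Quotient.mk ((maximalIdeal R).map (algebraMap R S)) y)) :
    IsSocle (algebraMap R S s * y) := by
  intro x hx
  have hx' : Ideal.Quotient.mk ((maximalIdeal R).map (algebraMap R S)) x ∈
      maximalIdeal (S ⧸ (maximalIdeal R).map (algebraMap R S)) := by
    rw [← IsLocalRing.map_maximalIdeal_of_surjective _ Ideal.Quotient.mk_surjective]
    exact Ideal.mem_map_of_mem _ hx
  have h := hy _ hx'
  rw [← map_mul, Ideal.Quotient.eq_zero_iff_mem] at h
  rw [mul_left_comm]
  exact algebraMap_socle_mul hs h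

variable [IsArtinianRing R] [IsArtinianRing S]

theorem socleCyclic_of_base_fibre [IsLocalRing (S ⧸ (maximalIdeal R).map (algebraMap R S))]
    (hR : SocleCyclic R) (hF : SocleCyclic (S ⧸ (maximalIdeal R).map (algebraMap R S))) : SocleCyclic S := by
  obtain ⟨s, hs, hs0⟩ := exists_socle_ne_zero R
  have key : ∀ b : S, IsSocle b → ∃ y : S, b = algebraMap R S s * y ∧
      IsSocle (Ideal.Quotient.mk ((maximalIdeal R).map (algebraMap R S)) y) := by
    intro b hb
    obtain ⟨n, x, hx⟩ := Submodule.fg_iff_exists_fin_generating_family.1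
      (IsNoetherian.noetherian (maximalIdeal R))
    let φ : R →ₗ[R] (Fin n → R) := LinearMap.toSpanSingleton R (Fin n → R) x
    have hφ : b ⊗ₜ[R] φ 1 = 0 := by
      refine (TensorProduct.piScalarRight R R S (Fin n)).injective ?_
      rw [map_zero]
      funext i
      have hxi : x i ∈ maximalIdeal R := hx ▸ Submodule.subset_span ⟨i, rfl⟩
      have := hb (algebraMap R S (x i)) ((map_nonunit (algebraMap R S) _ hxi))
      simpa [φ, Algebra.smul_def] using this
    have hker : LinearMap.ker φ ≤ Ideal.span {s} := fun a ha => by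
      have ha' : IsSocle a := fun z hz => by
        rw [← hx] at hz
        induction hz using Submodule.span_induction with
        | mem w hw =>
          obtain ⟨i, rfl⟩ := hw
          have := congrFun ha i
          simpa [φ, mul_comm] using this
        | zero => rw [zero_mul]
        | add p q _ _ hp hq => rw [add_mul, hp, hq, add_zero]
        | smul c p _ hp => rw [smul_eq_mul, mul_assoc, hp, mul_zero]
      obtain ⟨r, rfl⟩ := hR s a hs ha' hs0
      exact Ideal.mem_span_singleton'.2 ⟨r, rfl⟩
    have h1 := Ideal.map_mono hker (mem_map_ker_of_flat φ hφ)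
    rw [Ideal.map_span, Set.image_singleton, Ideal.mem_span_singleton] at h1
    obtain ⟨y, rfl⟩ := h1
    refine ⟨y, rfl, fun z hz => ?_⟩
    obtain ⟨z, rfl⟩ := Ideal.Quotient.mk_surjective z
    have hzm : z ∈ maximalIdeal S := by
      by_contra hnu
      exact (maximalIdeal.isMaximal _).ne_top (Ideal.eq_top_of_isUnit_mem _ hz
        ((IsLocalRing.notMem_maximalIdeal.1 hnu).map _))
    rw [← map_mul, Ideal.Quotient.eq_zero_iff_mem]
    refine mem_map_of_socle_mul hs0 ?_
    rw [mul_left_comm]
    exact hb z hzm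
  intro a b ha hb ha0
  obtain ⟨ya, rfl, hya⟩ := key a ha
  obtain ⟨yb, rfl, hyb⟩ := key b hb
  obtain ⟨r, hr⟩ := hF _ _ hya hyb (fun h => ha0 (algebraMap_socle_mul hs (Ideal.Quotient.eq_zero_iff_mem.1 h)))
  obtain ⟨r, rfl⟩ := Ideal.Quotient.mk_surjective r
  rw [← map_mul, Ideal.Quotient.eq] at hr
  refine ⟨r, ?_⟩
  have h0 := algebraMap_socle_mul hs hr
  linear_combination h0

theorem socleCyclic_fibre [IsLocalRing (S ⧸ (maximalIdeal R).map (algebraMap R S))]
    (hS : SocleCyclic S) : SocleCyclic (S ⧸ (maximalIdeal R).map (algebraMap R S)) := by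
  obtain ⟨s, hs, hs0⟩ := exists_socle_ne_zero R
  intro a b ha hb ha0
  obtain ⟨a, rfl⟩ := Ideal.Quotient.mk_surjective a
  obtain ⟨b, rfl⟩ := Ideal.Quotient.mk_surjective b
  obtain ⟨r, hr⟩ := hS _ _ (isSocle_mul hs ha) (isSocle_mul hs hb)
    (fun h => ha0 (Ideal.Quotient.eq_zero_iff_mem.2 (mem_map_of_socle_mul hs0 h)))
  refine ⟨Ideal.Quotient.mk _ r, ?_⟩
  rw [← map_mul, Ideal.Quotient.eq]
  refine mem_map_of_socle_mul hs0 ?_
  linear_combination hr

theorem socleCyclic_base [IsLocalRing (S ⧸ (maximalIdeal R).map (algebraMap R S))]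
    (hS : SocleCyclic S) : SocleCyclic R := by
  intro a b ha hb ha0
  by_contra hne
  push Not at hne
  haveI : IsArtinianRing (S ⧸ (maximalIdeal R).map (algebraMap R S)) :=
    Ideal.Quotient.mk_surjective.isArtinianRing
  obtain ⟨y, hy, hy0⟩ := exists_socle_ne_zero (S ⧸ (maximalIdeal R).map (algebraMap R S))
  obtain ⟨y, rfl⟩ := Ideal.Quotient.mk_surjective y
  have hy0' : y ∉ (maximalIdeal R).map (algebraMap R S) := fun h => hy0 (Ideal.Quotient.eq_zero_iff_mem.2 h)
  obtain ⟨r, hr⟩ := hS _ _ (isSocle_mul ha hy) (isSocle_mul hb hy)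
    (fun h => hy0' (mem_map_of_socle_mul ha0 h))
  refine hy0' (Ideal.map_mono (IsLocalRing.le_maximalIdeal fun htop => ?_)
    (mem_map_colon_of_flat (Ideal.span {a}) b (y := y) ?_))
  · have h1 : (1 : R) ∈ LinearMap.ker ((Ideal.span {a}).mkQ.comp (LinearMap.toSpanSingleton R R b)) :=
      htop ▸ Submodule.mem_top
    rw [LinearMap.mem_ker, LinearMap.comp_apply, LinearMap.toSpanSingleton_apply, one_smul, Submodule.mkQ_apply,
      Submodule.Quotient.mk_eq_zero, Ideal.mem_span_singleton'] at h1
    obtain ⟨c, hc⟩ := h1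
    exact hne c hc.symm
  · rw [Ideal.map_span, Set.image_singleton, Ideal.mem_span_singleton']
    exact ⟨r * y, by linear_combination -hr⟩

end Flat

end Groth.Agent.GorLib
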