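import Groth.Agent.GorLib.LinkageGorRing
import Groth.Agent.SemiGor.General

/-!
A complete intersection in a regular ring is Gorenstein.
-/

set_option autoImplicit false
set_option linter.style.haveILetI false
set_option linter.unusedVariables false
universe u

open LocCoh

namespace Groth.Agent.GorLib

theorem isGorensteinRing_quotient_span_range {S : Type u} [CommRing S] [IsRegularRing S] {c : ℕ} (g : Fin c → S)
    (hc : (Ideal.span (Set.range g)).height = c) : IsGorensteinRing (S ⧸ Ideal.span (Set.range g)) where
  isGorensteinLocalRing_localization P' _ := by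
    let I : Ideal S := Ideal.span (Set.range g)
    let P : Ideal S := P'.comap (Ideal.Quotient.mk I)
    haveI : P.IsPrime := Ideal.IsPrime.comap _
    have hIP : I ≤ P := fun x hx => by
      show Ideal.Quotient.mk I x ∈ P'
      rw [Ideal.Quotient.eq_zero_iff_mem.2 hx]
      exact zero_mem _
    refine gorenstein_atPrime_quotient I P hIP P'
      (Ideal.map_comap_of_surjective _ Ideal.Quotient.mk_surjective _).symm ?_
    let B := Localization.AtPrime P
    haveI := IsRegularRing.isRegularLocalRing_localization (R := S) P
    haveI := DepthLib.isCohenMacaulayLocalRing_of_isRegularLocalRing B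
    let rs : List B := (List.ofFn g).map (algebraMap S B)
    have hrs : Ideal.ofList rs = I.map (algebraMap S B) := by
      rw [← Ideal.map_ofList]
      congr 1
      show Ideal.span _ = Ideal.span _
      congr 1
      ext x
      rw [Set.mem_setOf_eq, List.mem_ofFn]
      exact Iff.rfl
    have hmem : ∀ r ∈ rs, r ∈ IsLocalRing.maximalIdeal B := fun r hr => by
      rw [← Localization.AtPrime.map_eq_maximalIdeal]
      exact Ideal.map_mono hIP (hrs ▸ Ideal.subset_span hr)
    haveI := isLocalRing_quotient (ofList_le hmem)
    have hreg : RingTheory.Sequence.IsWeaklyRegular B rs := by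
      refine DepthLib.isWeaklyRegular_of_supportDim_drop rs B DepthLib.isCohenMacaulayModule_self hmem ?_
      rw [Module.supportDim_eq_of_equiv (Submodule.quotEquivOfEq (Ideal.ofList rs • ⊤ : Submodule B B) (Ideal.ofList rs)
        (by rw [smul_eq_mul, Ideal.mul_top]))]
      obtain ⟨q, hq, hqd⟩ := DepthLib.exists_mem_support_ringKrullDim_eq (R := B) (M := B ⧸ Ideal.ofList rs)
      have hIq : Ideal.ofList rs ≤ q.asIdeal := by
        have h0 := Module.mem_support_iff_of_finite.1 hq
        rwa [Ideal.annihilator_quotient] at h0
      have hqB : q ∈ Module.support B B := by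
        rw [Module.mem_support_iff']
        exact ⟨1, fun r hr => by rw [smul_eq_mul, mul_one]; exact fun h0 => hr (h0 ▸ Submodule.zero_mem _)⟩
      have h1 := DepthLib.supportDim_localization_add_le q hqB
      rw [DepthLib.supportDim_localization_self, hqd] at h1
      have h2 : (c : ℕ∞) ≤ q.asIdeal.height := by
        rw [← hc, ← IsLocalization.height_under P.primeCompl q.asIdeal]
        exact Ideal.height_mono (Ideal.map_le_iff_le_comap.1 (hrs ▸ hIq))
      refine le_trans ?_ h1
      rw [add_comm, show rs.length = c by simp [rs]]
      exact add_le_add (WithBot.coe_le_coe.2 h2) le_rfl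
    haveI := SemiGor.isGorensteinLocalRing_of_isRegularLocalRing B
    have h := (isGorensteinLocalRing_quotient_ofList_iff _ rs rfl hreg hmem).1 inferInstance
    exact SegreOne.isGorensteinLocalRing_of_ringEquiv (A := B ⧸ Ideal.ofList rs) (B := B ⧸ I.map (algebraMap S B))
      (Ideal.quotEquivOfEq hrs)

end Groth.Agent.GorLib
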