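import Groth.Agent.GorLib.RingLevel
import Groth.Agent.GorLib.LocalInjDim
import Mathlib

/-!
# Torsionless modules over Gorenstein rings of dimension at most one
-/

universe u

open CategoryTheory

namespace Groth.Agent.GorLib

variable {S : Type u} [CommRing S]

theorem injDimLT_two [LocCoh.IsGorensteinRing S] (hdim : ringKrullDim S ≤ 1) :
    HasInjectiveDimensionLT (ModuleCat.of S S) 2 := by
  refine (ModuleCat.hasInjectiveDimensionLE_iff_forall_primeSpectrum 1 (ModuleCat.of S S)).2 fun p => ?_
  haveI := LocCoh.IsGorensteinRing.isGorensteinLocalRing_localization (A := S) p.asIdeal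
  obtain ⟨d, hd⟩ := ENat.ne_top_iff_exists.1 (Ideal.height_ne_top (I := p.asIdeal) (Ideal.IsPrime.ne_top'))
  refine (hasInjDimLT_self_iff p.asIdeal.primeCompl 1).1 (injDim_le_of_dim
    ((IsLocalization.AtPrime.ringKrullDim_eq_height p.asIdeal (Localization.AtPrime p.asIdeal)).trans (by rw [← hd]; rfl)) ?_)
  have h1 := (ringKrullDim_le_iff_height_le _).1 hdim (p := p.asIdeal) p.isPrime
  rw [← hd] at h1
  exact_mod_cast h1

/-- Submodules of finite free modules have no higher extensions by the ring. -/
theorem subsingleton_ext_one [LocCoh.IsGorensteinRing S] (hdim : ringKrullDim S ≤ 1) (M : Type u) [AddCommGroup M]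
    [Module S M] {n : ℕ} (ι : M →ₗ[S] (Fin n → S)) (hι : Function.Injective ι) :
    Subsingleton (Abelian.Ext (ModuleCat.of S M) (ModuleCat.of S S) 1) := by
  haveI := injDimLT_two hdim
  let T : ShortComplex (ModuleCat.{u} S) := ShortComplex.mk (ModuleCat.ofHom ι) (ModuleCat.ofHom (LinearMap.range ι).mkQ)
    (by ext x; exact (Submodule.Quotient.mk_eq_zero _).2 ⟨x, rfl⟩)
  have hT : T.ShortExact :=
    { exact := by
        rw [ShortComplex.ShortExact.moduleCat_exact_iff_function_exact]
        exact LinearMap.exact_map_mkQ_range ι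
      mono_f := (ModuleCat.mono_iff_injective _).2 hι
      epi_g := (ModuleCat.epi_iff_surjective _).2 (Submodule.mkQ_surjective _) }
  have key : ∀ x : Abelian.Ext (ModuleCat.of S M) (ModuleCat.of S S) 1, x = 0 := fun x => by
    haveI : Projective T.X₂ := by
      haveI : Module.Projective S (Fin n → S) := inferInstance
      exact (IsProjective.iff_projective _).1 inferInstance
    obtain ⟨y, hy⟩ := Abelian.Ext.contravariant_sequence_exact₁ hT (ModuleCat.of S S) x (n₁ := 2) rfl
      ((HasInjectiveDimensionLT.subsingleton (ModuleCat.of S S) 2 2 le_rfl T.X₃).elim _ _)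
    rw [← hy, Abelian.Ext.eq_zero_of_projective y, Abelian.Ext.comp_zero]
  exact ⟨fun a b => (key a).trans (key b).symm⟩

/-- Functionals extend when the cokernel is torsionless. -/
theorem exists_extend_dual [LocCoh.IsGorensteinRing S] (hdim : ringKrullDim S ≤ 1) {A B C : Type u} [AddCommGroup A]
    [Module S A] [AddCommGroup B] [Module S B] [AddCommGroup C] [Module S C] (f : A →ₗ[S] B) (g : B →ₗ[S] C)
    (hf : Function.Injective f) (hg : Function.Surjective g) (hfg : Function.Exact f g) {n : ℕ}
    (ι : C →ₗ[S] (Fin n → S)) (hι : Function.Injective ι) (φ : A →ₗ[S] S) : ∃ ψ : B →ₗ[S] S, ψ.comp f = φ := by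
  let T : ShortComplex (ModuleCat.{u} S) := ShortComplex.mk (ModuleCat.ofHom f) (ModuleCat.ofHom g)
    (by ext x; exact hfg.apply_apply_eq_zero x)
  have hT : T.ShortExact :=
    { exact := by
        rw [ShortComplex.ShortExact.moduleCat_exact_iff_function_exact]
        exact hfg
      mono_f := (ModuleCat.mono_iff_injective _).2 hf
      epi_g := (ModuleCat.epi_iff_surjective _).2 hg }
  obtain ⟨y, hy⟩ := Abelian.Ext.contravariant_sequence_exact₁ hT (ModuleCat.of S S) (Abelian.Ext.mk₀ (ModuleCat.ofHom φ))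
    (n₁ := 1) rfl ((subsingleton_ext_one hdim C ι hι).elim _ _)
  obtain ⟨ψ, rfl⟩ : ∃ ψ, Abelian.Ext.mk₀ ψ = y := (Abelian.Ext.mk₀_bijective _ _).2 y
  rw [Abelian.Ext.mk₀_comp_mk₀] at hy
  exact ⟨ψ.hom, congrArg ModuleCat.Hom.hom ((Abelian.Ext.mk₀_bijective _ _).1 hy)⟩

theorem exists_embedding [IsNoetherianRing S] (M : Type u) [AddCommGroup M] [Module S M] [Module.Finite S M]
    (h : Function.Injective (Module.Dual.eval S M)) :
    ∃ (n : ℕ) (ι : M →ₗ[S] (Fin n → S)), Function.Injective ι := by
  obtain ⟨n, π, hπ⟩ := Module.Finite.exists_fin' S (Module.Dual S M)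
  refine ⟨n, LinearMap.pi fun i => π (Pi.single i 1), fun a b hab => h (LinearMap.ext fun φ => ?_)⟩
  obtain ⟨c, rfl⟩ := hπ φ
  have e : π c = ∑ i, c i • π (Pi.single i 1) := by
    conv_lhs => rw [pi_eq_sum_univ c]
    rw [map_sum]
    refine Finset.sum_congr rfl fun i _ => ?_
    rw [map_smul]
    congr 2
    funext j
    simp [Pi.single_apply, eq_comm]
  simp only [Module.Dual.eval_apply, e, LinearMap.sum_apply, LinearMap.smul_apply]
  exact Finset.sum_congr rfl fun i _ => congrArg (c i • ·) (congrFun hab i)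

/-- Torsionless finite modules are reflexive. -/
theorem bijective_eval [LocCoh.IsGorensteinRing S] (hdim : ringKrullDim S ≤ 1) (M : Type u) [AddCommGroup M]
    [Module S M] [Module.Finite S M] (h : Function.Injective (Module.Dual.eval S M)) :
    Function.Bijective (Module.Dual.eval S M) := by
  refine ⟨h, fun ξ => ?_⟩
  obtain ⟨n, ι, hι⟩ := exists_embedding M h
  obtain ⟨m, π, hπ⟩ := Module.Finite.exists_fin' S M
  let L := LinearMap.ker π
  have hL : Function.Exact L.subtype π := LinearMap.exact_subtype_ker_map π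
  let res : Module.Dual S (Fin m → S) →ₗ[S] Module.Dual S L := LinearMap.lcomp S S L.subtype
  have hres : Function.Surjective res := fun φ =>
    exists_extend_dual hdim L.subtype π L.subtype_injective hπ hL ι hι φ
  have hex : Function.Exact π.dualMap res := by
    intro φ
    constructor
    · intro hφ
      have hle : LinearMap.ker π ≤ LinearMap.ker φ := fun x hx => LinearMap.congr_fun hφ ⟨x, hx⟩
      exact ⟨((LinearMap.ker π).liftQ φ hle).comp (π.quotKerEquivOfSurjective hπ).symm.toLinearMap,
        LinearMap.ext fun x => by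
          rw [LinearMap.dualMap_apply, LinearMap.comp_apply, LinearEquiv.coe_coe,
            show (π.quotKerEquivOfSurjective hπ).symm (π x) = Submodule.Quotient.mk x from
              (LinearEquiv.symm_apply_eq _).2 rfl]
          rfl⟩
    · rintro ⟨α, rfl⟩
      exact LinearMap.ext fun x => by
        show α (π x.1) = 0
        rw [LinearMap.mem_ker.1 x.2, map_zero]
  obtain ⟨n', ι', hι'⟩ : ∃ (n' : ℕ) (ι' : Module.Dual S L →ₗ[S] (Fin n' → S)), Function.Injective ι' := by
    haveI : Module.Finite S L := Module.Finite.of_fg (IsNoetherian.noetherian L)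
    obtain ⟨k, p, hp⟩ := Module.Finite.exists_fin' S L
    exact ⟨k, ((Pi.basisFun S (Fin k)).toDualEquiv.symm.toLinearMap).comp p.dualMap, fun a b hab =>
      LinearMap.dualMap_injective_of_surjective hp ((Pi.basisFun S (Fin k)).toDualEquiv.symm.injective hab)⟩
  obtain ⟨Ξ, hΞ⟩ := exists_extend_dual hdim π.dualMap res (LinearMap.dualMap_injective_of_surjective hπ) hres hex
    ι' hι' ξ
  obtain ⟨v, rfl⟩ := (Module.bijective_dual_eval S (Fin m → S)).2 Ξ
  exact ⟨π v, LinearMap.ext fun α => LinearMap.congr_fun hΞ α⟩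

end Groth.Agent.GorLib
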