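import Mathlib

/-!
# Reflexive modules with scalar endomorphisms in dimension at most one
-/

universe u

namespace Groth.Agent.GorLib

variable {S : Type u} [CommRing S]

/-- The trace ideal of a reflexive module with scalar endomorphisms is the unit ideal in dimension at most one. -/
theorem exists_trace_notMem [IsNoetherianRing S] (hdim : ringKrullDim S ≤ 1) (M : Type u) [AddCommGroup M]
    [Module S M] [Module.IsReflexive S M] (hb : Function.Bijective (algebraMap S (Module.End S M)))
    (m : Ideal S) [m.IsPrime] : ∃ (φ : M →ₗ[S] S) (x : M), φ x ∉ m := by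
  classical
  let I : Ideal S := Ideal.span {s | ∃ (φ : M →ₗ[S] S) (x : M), φ x = s}
  suffices hI : I = ⊤ by
    by_contra hall
    push Not at hall
    refine (Ideal.IsPrime.ne_top ‹m.IsPrime›) (top_le_iff.1 (hI ▸ Ideal.span_le.2 ?_))
    rintro _ ⟨φ, x, rfl⟩
    exact hall φ x
  have heval := Module.IsReflexive.bijective_dual_eval' (R := S) (M := M)
  have hinj : ∀ c : S, (∀ i ∈ I, c * i = 0) → c = 0 := by
    intro c hc
    refine hb.1 (LinearMap.ext fun x => heval.1 (LinearMap.ext fun φ => ?_))
    rw [map_zero, LinearMap.zero_apply, map_zero, LinearMap.zero_apply, Module.algebraMap_end_apply,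
      Module.Dual.eval_apply, map_smul]
    exact hc _ (Ideal.subset_span ⟨φ, x, rfl⟩)
  have hsurj : ∀ h : I →ₗ[S] S, ∃ c : S, ∀ i : I, h i = c * i := by
    intro h
    let e := LinearEquiv.ofBijective (Module.Dual.eval S M) heval
    let θ : M →ₗ[S] Module.Dual S (Module.Dual S M) :=
      LinearMap.mk₂ S (fun (x : M) (φ : Module.Dual S M) => h ⟨φ x, Ideal.subset_span ⟨φ, x, rfl⟩⟩)
        (fun x y φ => by rw [← map_add]; exact congrArg h (Subtype.ext (map_add φ x y)))
        (fun c x φ => by rw [← map_smul]; exact congrArg h (Subtype.ext (map_smul φ c x)))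
        (fun x φ ψ => by rw [← map_add]; rfl)
        (fun c x φ => by rw [← map_smul]; rfl)
    obtain ⟨c, hc⟩ := hb.2 (e.symm.toLinearMap.comp θ)
    refine ⟨c, ?_⟩
    have key : ∀ (φ : M →ₗ[S] S) (x : M), h ⟨φ x, Ideal.subset_span ⟨φ, x, rfl⟩⟩ = c * φ x := by
      intro φ x
      have h1 := LinearMap.congr_fun hc x
      rw [Module.algebraMap_end_apply] at h1
      have h2 : Module.Dual.eval S M (c • x) = θ x := by
        rw [h1]
        exact e.apply_symm_apply (θ x)
      have h3 := LinearMap.congr_fun h2 φ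
      rw [Module.Dual.eval_apply, map_smul, smul_eq_mul] at h3
      exact h3.symm
    rintro ⟨i, hi⟩
    induction hi using Submodule.span_induction with
    | mem z hz =>
      obtain ⟨φ, x, rfl⟩ := hz
      exact key φ x
    | zero => exact (map_zero h).trans (mul_zero c).symm
    | add a b ha hb iha ihb =>
      show h (⟨a, ha⟩ + ⟨b, hb⟩) = c * (a + b)
      rw [map_add, iha, ihb, mul_add]
    | smul r a ha iha =>
      show h (r • ⟨a, ha⟩) = c * (r • a)
      rw [map_smul, iha, smul_eq_mul, smul_eq_mul]
      ring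
  by_contra hI
  obtain ⟨a, haI, ha⟩ : ∃ a ∈ I, IsSMulRegular S a := by
    by_contra hno
    push Not at hno
    have hsub : (I : Set S) ⊆ ⋃ p ∈ (associatedPrimes.finite S S).toFinset, (p : Ideal S) := by
      intro i hi
      have h1 : i ∈ ({ r : S | IsSMulRegular S r }ᶜ : Set S) := hno i hi
      rw [← biUnion_associatedPrimes_eq_compl_regular S S] at h1
      simpa using h1
    obtain ⟨p, hp, hle⟩ := (Ideal.subset_union_prime ⊥ ⊥ fun p hp _ _ =>
      (show IsAssociatedPrime p S from (associatedPrimes.finite S S).mem_toFinset.1 hp).isPrime).1 hsub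
    obtain ⟨hp', c, hc⟩ := isAssociatedPrime_iff.1 (show IsAssociatedPrime p S from (associatedPrimes.finite S S).mem_toFinset.1 hp)
    have hc0 : c = 0 := hinj c fun i hi => by
      have := hle hi
      rw [hc, Submodule.mem_colon_singleton, Submodule.mem_bot, smul_eq_mul] at this
      rw [mul_comm]; exact this
    apply hp'.ne_top
    rw [hc, hc0, Ideal.eq_top_iff_one, Submodule.mem_colon_singleton, smul_zero]
    exact zero_mem _
  obtain ⟨n, hn, hIn⟩ := Ideal.exists_le_maximal I hI
  have hmin : n ∈ (Ideal.span {a}).minimalPrimes := by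
    refine ⟨⟨hn.isPrime, (Ideal.span_singleton_le_iff_mem _).2 (hIn haI)⟩, fun q hq hqn => ?_⟩
    by_contra hne
    have hlt : q < n := lt_of_le_not_ge hqn hne
    haveI := hq.1
    haveI := hn.isPrime
    have h1 : 1 ≤ q.height := (Ideal.one_le_height_span_singleton_of_mem_nonZeroDivisors
      (mem_nonZeroDivisors_iff_right.2 fun z hz => ha (show a • z = a • (0 : S) by rw [smul_zero, smul_eq_mul, mul_comm]; exact hz))).trans
        (Ideal.height_mono hq.2)
    have h2 := Ideal.height_add_one_le_of_lt_of_isPrime hlt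
    have h3 : (n.height : WithBot ℕ∞) ≤ 1 :=
      (Ideal.height_le_ringKrullDim_of_ne_top hn.ne_top).trans hdim
    have h4 : (1 : ℕ∞) + 1 ≤ 1 := ((add_le_add_left h1 1).trans h2).trans (by exact_mod_cast h3)
    exact absurd h4 (by norm_num)
  have hass : n ∈ associatedPrimes S (S ⧸ Ideal.span {a}) := by
    refine Module.associatedPrimes.minimalPrimes_annihilator_subset_associatedPrimes S _ ?_
    rwa [Ideal.annihilator_quotient]
  obtain ⟨-, b, hb'⟩ := isAssociatedPrime_iff.1 hass
  obtain ⟨b, rfl⟩ := Ideal.Quotient.mk_surjective b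
  have hdiv : ∀ i : I, ∃ z, a * z = b * i := by
    intro i
    have h1 := hIn i.2
    rw [hb', Submodule.mem_colon_singleton, Submodule.mem_bot] at h1
    change Ideal.Quotient.mk _ ((i : S) * b) = 0 at h1
    rw [Ideal.Quotient.eq_zero_iff_mem, Ideal.mem_span_singleton'] at h1
    obtain ⟨z, hz⟩ := h1
    exact ⟨z, by rw [mul_comm a z, hz, mul_comm]⟩
  choose z hz using hdiv
  let h : I →ₗ[S] S :=
    { toFun := z
      map_add' := fun i j => ha (by simp only [smul_eq_mul, mul_add, hz, Submodule.coe_add])
      map_smul' := fun r i => ha (by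
        simp only [smul_eq_mul, RingHom.id_apply, hz, SetLike.val_smul]
        rw [mul_left_comm a r, hz]; ring) }
  obtain ⟨c, hc⟩ := hsurj h
  have hbc : b - a * c = 0 := hinj _ fun i hi => by
    have h1 := hz ⟨i, hi⟩
    have h2 : z ⟨i, hi⟩ = c * i := hc ⟨i, hi⟩
    rw [h2] at h1
    rw [sub_mul, ← h1]; ring
  apply hn.ne_top
  rw [hb', Ideal.eq_top_iff_one, Submodule.mem_colon_singleton, one_smul, Submodule.mem_bot,
    Ideal.Quotient.eq_zero_iff_mem, Ideal.mem_span_singleton]
  exact ⟨c, sub_eq_zero.1 hbc⟩

/-- Such modules are locally free of rank one. -/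
theorem nonempty_localized_equiv [IsNoetherianRing S] (hdim : ringKrullDim S ≤ 1) (M : Type u) [AddCommGroup M]
    [Module S M] [Module.IsReflexive S M] (hb : Function.Bijective (algebraMap S (Module.End S M)))
    (P : Ideal S) [P.IsPrime] :
    Nonempty (LocalizedModule P.primeCompl M ≃ₗ[Localization.AtPrime P] Localization.AtPrime P) := by
  obtain ⟨φ, x, hx⟩ := exists_trace_notMem hdim M hb P
  let u : P.primeCompl := ⟨φ x, hx⟩
  let Φ : LocalizedModule P.primeCompl M →ₗ[Localization.AtPrime P] Localization.AtPrime P :=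
    (IsLocalizedModule.map P.primeCompl (LocalizedModule.mkLinearMap P.primeCompl M)
      (Algebra.linearMap S (Localization.AtPrime P)) φ).extendScalarsOfIsLocalization P.primeCompl (Localization.AtPrime P)
  have hΦ : ∀ m, Φ (LocalizedModule.mkLinearMap P.primeCompl M m) = algebraMap S (Localization.AtPrime P) (φ m) :=
    fun m => IsLocalizedModule.map_apply P.primeCompl _ _ φ m
  have key : ∀ m : M, (u : S) • ((u : S) • m) = (u : S) • (φ m • x) := by
    intro m
    obtain ⟨c, hc⟩ := hb.2 (φ.smulRight x)
    have h1 := LinearMap.congr_fun hc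
    simp only [Module.algebraMap_end_apply, LinearMap.smulRight_apply] at h1
    have h2 : c * φ x = φ x * φ x := by
      have := congrArg φ (h1 x)
      rwa [map_smul, map_smul, smul_eq_mul, smul_eq_mul] at this
    show φ x • φ x • m = φ x • φ m • x
    rw [← h1 m, smul_smul, smul_smul, mul_comm (φ x) c, h2]
  have huinj : ∀ w : LocalizedModule P.primeCompl M, (u : S) • w = 0 → w = 0 := fun w hw =>
    IsLocalizedModule.smul_injective (LocalizedModule.mkLinearMap P.primeCompl M) u
      (show u • w = u • 0 by rw [smul_zero]; exact hw)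
  refine ⟨LinearEquiv.ofBijective Φ ⟨?_, fun y => ?_⟩⟩
  · rw [injective_iff_map_eq_zero]
    intro w hw
    obtain ⟨⟨m, t⟩, ht⟩ := IsLocalizedModule.surj P.primeCompl (LocalizedModule.mkLinearMap P.primeCompl M) w
    have h1 : algebraMap S (Localization.AtPrime P) (φ m) = 0 := by
      rw [← hΦ, ← ht, LinearMap.map_smul_of_tower, hw, smul_zero]
    obtain ⟨v, hv⟩ := (IsLocalization.map_eq_zero_iff P.primeCompl _ _).1 h1
    have h2 : (v : S) • ((u : S) • ((u : S) • m)) = 0 := by
      rw [key, smul_comm (v : S), smul_smul (v : S), hv, zero_smul, smul_zero]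
    refine IsLocalizedModule.smul_injective (LocalizedModule.mkLinearMap P.primeCompl M) (v * u * u * t) ?_
    show ((v : S) * u * u * t) • w = ((v : S) * u * u * t) • (0 : LocalizedModule P.primeCompl M)
    rw [smul_zero, mul_smul, show (t : S) • w = LocalizedModule.mkLinearMap P.primeCompl M m from ht, ← map_smul,
      mul_smul, mul_smul, h2, map_zero]
  · refine ⟨(y * IsLocalization.mk' (Localization.AtPrime P) 1 u) • LocalizedModule.mkLinearMap P.primeCompl M x, ?_⟩
    rw [map_smul, hΦ, smul_eq_mul, mul_assoc, show IsLocalization.mk' (Localization.AtPrime P) 1 u *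
      algebraMap S (Localization.AtPrime P) (φ x) = 1 by
        rw [IsLocalization.mk'_spec (Localization.AtPrime P) 1 u, map_one], mul_one]

/-- Locally free modules of rank one have only scalar endomorphisms. -/
theorem bijective_algebraMap_end (M : Type u) [AddCommGroup M] [Module S M] [Module.Finite S M]
    (h : ∀ (P : Ideal S) (_ : P.IsPrime),
      Nonempty (LocalizedModule P.primeCompl M ≃ₗ[Localization.AtPrime P] Localization.AtPrime P)) :
    Function.Bijective (algebraMap S (Module.End S M)) := by
  classical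
  refine ⟨?_, fun F => ?_⟩
  · rw [injective_iff_map_eq_zero]
    intro c hc
    refine eq_zero_of_localization _ fun P hP => ?_
    obtain ⟨e⟩ := h P hP.isPrime
    obtain ⟨w, hw⟩ := e.surjective 1
    obtain ⟨⟨m, t⟩, ht⟩ := IsLocalizedModule.surj P.primeCompl (LocalizedModule.mkLinearMap P.primeCompl M) w
    have h1 : c • (t • w) = 0 := by
      rw [ht, ← map_smul, show c • m = 0 from LinearMap.congr_fun hc m, map_zero]
    have h2 := congrArg e h1
    rw [map_zero, Submonoid.smul_def, ← IsScalarTower.algebraMap_smul (Localization.AtPrime P) c,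
      ← IsScalarTower.algebraMap_smul (Localization.AtPrime P) (t : S) w, map_smul, map_smul, hw,
      smul_eq_mul, smul_eq_mul, mul_one] at h2
    exact (IsLocalization.map_units (Localization.AtPrime P) t).mul_left_eq_zero.1 h2
  · let K : Ideal S :=
      { carrier := {s | ∃ c, ∀ m, s • F m = c • m}
        zero_mem' := ⟨0, fun m => by simp⟩
        add_mem' := fun {a b} ⟨c, hc⟩ ⟨d, hd⟩ => ⟨c + d, fun m => by rw [add_smul, add_smul, hc, hd]⟩
        smul_mem' := fun r a ⟨c, hc⟩ => ⟨r * c, fun m => by rw [smul_eq_mul, mul_smul, mul_smul, hc]⟩ }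
    suffices hK : K = ⊤ by
      obtain ⟨c, hc⟩ : (1 : S) ∈ K := hK ▸ Submodule.mem_top
      exact ⟨c, LinearMap.ext fun m => by rw [Module.algebraMap_end_apply, ← hc, one_smul]⟩
    by_contra hK
    obtain ⟨P, hP, hKP⟩ := Ideal.exists_le_maximal K hK
    obtain ⟨e⟩ := h P hP.isPrime
    let f := LocalizedModule.mkLinearMap P.primeCompl M
    let G : LocalizedModule P.primeCompl M →ₗ[Localization.AtPrime P] LocalizedModule P.primeCompl M :=
      (IsLocalizedModule.map P.primeCompl f f F).extendScalarsOfIsLocalization P.primeCompl (Localization.AtPrime P)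
    have hG : ∀ m, G (f m) = f (F m) := fun m => IsLocalizedModule.map_apply P.primeCompl f f F m
    obtain ⟨q, hq⟩ : ∃ q, q = e (G (e.symm 1)) := ⟨_, rfl⟩
    obtain ⟨⟨a, s⟩, has⟩ := IsLocalization.surj P.primeCompl q
    have hscal : ∀ w, e (G w) = e w * q := fun w => by
      conv_lhs => rw [← e.symm_apply_apply w, show e w = e w • (1 : Localization.AtPrime P) by rw [smul_eq_mul, mul_one]]
      rw [map_smul, map_smul, map_smul, ← hq, smul_eq_mul]
    have hgen : ∀ m, ∃ t : P.primeCompl, (t : S) • ((s : S) • F m - a • m) = 0 := fun m => by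
      have h1 : f ((s : S) • F m - a • m) = 0 := by
        refine e.injective ?_
        rw [map_zero, map_sub, map_smul, map_smul, ← hG, map_sub, ← IsScalarTower.algebraMap_smul (Localization.AtPrime P) (s : S),
          ← IsScalarTower.algebraMap_smul (Localization.AtPrime P) a, map_smul, map_smul, hscal, smul_eq_mul, smul_eq_mul, ← has]
        ring
      obtain ⟨t, ht⟩ := (IsLocalizedModule.eq_zero_iff P.primeCompl f).1 h1
      exact ⟨t, ht⟩
    choose t ht using hgen
    obtain ⟨B, hB⟩ := (Module.Finite.fg_top : (⊤ : Submodule S M).FG)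
    let T : P.primeCompl := ∏ m ∈ B, t m
    have hlin : ((T : S) • ((s : S) • F - a • LinearMap.id) : M →ₗ[S] M) = 0 :=
      LinearMap.ext_on hB fun m hm => by
        rw [LinearMap.smul_apply, LinearMap.sub_apply, LinearMap.smul_apply, LinearMap.smul_apply, LinearMap.id_apply,
          LinearMap.zero_apply, show (T : S) = (∏ x ∈ B.erase m, t x : P.primeCompl) * (t m : S) by
            rw [← Submonoid.coe_mul, Finset.prod_erase_mul _ _ hm], mul_smul, ht, smul_zero]
    have hmem : (T : S) * s ∈ K := ⟨(T : S) * a, fun m => by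
      have := LinearMap.congr_fun hlin m
      rw [LinearMap.smul_apply, LinearMap.sub_apply, LinearMap.smul_apply, LinearMap.smul_apply, LinearMap.id_apply,
        LinearMap.zero_apply, smul_sub, sub_eq_zero] at this
      rw [mul_smul, mul_smul, this]⟩
    exact (T * s).2 (hKP hmem)

end Groth.Agent.GorLib
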