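import Groth.Agent.GorLib.Linkage
import Groth.Agent.GrLinkage.Linkage

/-!
Linkage in a Gorenstein ring, and for homogeneous ideals of a polynomial ring.
-/

set_option autoImplicit false
set_option linter.style.haveILetI false
set_option linter.unusedVariables false
universe u

open LocCoh

namespace Groth.Agent.GorLib

theorem annihilator_map_localization {A : Type u} [CommRing A] [IsNoetherianRing A] (M : Submonoid A)
    (B : Type u) [CommRing B] [Algebra A B] [IsLocalization M B] (I : Ideal A) :
    Submodule.annihilator (I.map (algebraMap A B)) = (Submodule.annihilator I).map (algebraMap A B) := by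
  classical
  refine le_antisymm (fun b hb => ?_) ?_
  · obtain ⟨⟨a, s⟩, hab⟩ := IsLocalization.surj M b
    obtain ⟨T, hT⟩ : I.FG := IsNoetherian.noetherian I
    have h1 : ∀ g ∈ T, ∃ t ∈ M, t * (a * g) = 0 := fun g hg => by
      have h2 : algebraMap A B (a * g) = 0 := by
        rw [map_mul, ← hab, mul_right_comm]
        have h3 := Submodule.mem_annihilator.1 hb _ (Ideal.mem_map_of_mem _ (hT ▸ Ideal.subset_span hg))
        rw [smul_eq_mul] at h3
        rw [h3, zero_mul]
      obtain ⟨⟨t, ht⟩, h⟩ := (IsLocalization.map_eq_zero_iff M B _).1 h2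
      exact ⟨t, ht, h⟩
    choose t ht1 ht2 using h1
    let t' : A := ∏ g ∈ T.attach, t g.1 g.2
    have ht' : t' ∈ M := Submonoid.prod_mem _ fun g _ => ht1 _ _
    have hta : t' * a ∈ Submodule.annihilator I := by
      rw [Submodule.mem_annihilator, ← hT]
      intro i hi
      refine Submodule.span_induction (fun g hg => ?_) (by simp) (fun y z _ _ hy hz => ?_) (fun r y _ hy => ?_) hi
      · obtain ⟨w, hw⟩ : t g hg ∣ t' := Finset.dvd_prod_of_mem (fun g : T => t g.1 g.2) (Finset.mem_attach T ⟨g, hg⟩)
        rw [smul_eq_mul, hw, show t g hg * w * a * g = w * (t g hg * (a * g)) by ring, ht2, mul_zero]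
      · rw [smul_add, hy, hz, add_zero]
      · rw [smul_comm, hy, smul_zero]
    rw [IsLocalization.mem_map_algebraMap_iff M]
    refine ⟨⟨⟨_, hta⟩, ⟨t' * s, M.mul_mem ht' s.2⟩⟩, ?_⟩
    simp only [map_mul]
    rw [← hab]
    ring
  · rw [Ideal.map_le_iff_le_comap]
    intro a ha
    rw [Ideal.mem_comap, Submodule.mem_annihilator]
    intro b hb
    rw [IsLocalization.mem_map_algebraMap_iff M] at hb
    obtain ⟨⟨⟨i, hi⟩, s⟩, hb⟩ := hb
    refine (IsLocalization.map_units B s).mul_left_eq_zero.1 ?_
    rw [smul_eq_mul, mul_assoc, hb, ← map_mul,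
      show a * i = 0 from Submodule.mem_annihilator.1 ha i hi, map_zero]

/-- The residual of a Cohen–Macaulay quotient of full dimension everywhere. -/
theorem isCohenMacaulayRing_quotient_annihilator {A : Type u} [CommRing A] [IsGorensteinRing A] (I : Ideal A)
    [IsCohenMacaulayRing (A ⧸ I)]
    (h : ∀ (P : Ideal A) [P.IsPrime], I ≤ P → (P.map (Ideal.Quotient.mk I)).height = P.height) :
    IsCohenMacaulayRing (A ⧸ Submodule.annihilator I) where
  isCohenMacaulayLocalRing_localization P' _ := by
    let J := Submodule.annihilator I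
    let P : Ideal A := P'.comap (Ideal.Quotient.mk J)
    haveI : P.IsPrime := Ideal.IsPrime.comap _
    have hJP : J ≤ P := fun x hx => by
      show Ideal.Quotient.mk J x ∈ P'
      rw [Ideal.Quotient.eq_zero_iff_mem.2 hx]
      exact zero_mem _
    have hP' : P' = P.map (Ideal.Quotient.mk J) :=
      (Ideal.map_comap_of_surjective _ Ideal.Quotient.mk_surjective _).symm
    let B := Localization.AtPrime P
    haveI : IsGorensteinLocalRing B := IsGorensteinRing.isGorensteinLocalRing_localization P
    let IB : Ideal B := I.map (algebraMap A B)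
    let JB : Ideal B := J.map (algebraMap A B)
    have hJB : JB = Submodule.annihilator IB := (annihilator_map_localization P.primeCompl B I).symm
    obtain ⟨d, hd⟩ : ∃ d : ℕ, ringKrullDim B = d := by
      obtain ⟨d, hd⟩ := DepthLib.exists_nat_supportDim (R := B) B
      exact ⟨d, (Module.supportDim_self_eq_ringKrullDim (R := B)).symm.trans hd⟩
    haveI := GorLib.isCohenMacaulayLocalRing d B (GorLib.depth_eq_dim hd)
    have hCM : IsCohenMacaulayModule B (B ⧸ JB) := by
      have hne : IB ≠ ⊥ := fun h0 => by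
        have h1 : JB = ⊤ := by rw [hJB, h0, Submodule.annihilator_bot]
        have h2 : JB ≤ IsLocalRing.maximalIdeal B := by
          rw [← Localization.AtPrime.map_eq_maximalIdeal]
          exact Ideal.map_mono hJP
        exact (IsLocalRing.maximalIdeal.isMaximal B).ne_top (top_le_iff.1 (h1 ▸ h2))
      by_cases hIP : I ≤ P
      · haveI : (P.map (Ideal.Quotient.mk I)).IsPrime :=
          Ideal.map_isPrime_of_surjective Ideal.Quotient.mk_surjective (by rwa [Ideal.mk_ker])
        haveI := IsCohenMacaulayRing.isCohenMacaulayLocalRing_localization (R := A ⧸ I) (P.map (Ideal.Quotient.mk I))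
        have hdim : Module.supportDim B (B ⧸ IB) = d := by
          rw [Module.supportDim_quotient_eq_ringKrullDim,
            ← DepthLib.height_map_quotient_eq_supportDim I P hIP _ rfl, h P hIP, ← hd,
            IsLocalization.AtPrime.ringKrullDim_eq_height P]
        have hCMI : IsCohenMacaulayModule B (B ⧸ IB) := by
          show Module.supportDim B (B ⧸ IB) = _
          rw [Module.supportDim_quotient_eq_ringKrullDim,
            ← DepthLib.height_map_quotient_eq_supportDim I P hIP _ rfl,
            ← DepthLib.depth_quotient_localization I P hIP _ rfl, ← DepthLib.ringKrullDim_eq_depth,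
            IsLocalization.AtPrime.ringKrullDim_eq_height (P.map (Ideal.Quotient.mk I))]
        haveI := isCohenMacaulayLocalRing_quotient_of_module hCMI
        rw [hJB]
        exact (isCohenMacaulayModule_quotient_annihilator hd
          (by rw [← Module.supportDim_quotient_eq_ringKrullDim, hdim]) hne).1
      · have h1 : IB = ⊤ := by
          obtain ⟨x, hxI, hxP⟩ := SetLike.not_le_iff_exists.1 hIP
          exact Ideal.eq_top_of_isUnit_mem _ (Ideal.mem_map_of_mem _ hxI)
            (IsLocalization.map_units B (⟨x, hxP⟩ : P.primeCompl))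
        have h2 : JB = ⊥ := by
          rw [hJB, h1, eq_bot_iff]
          intro x hx
          simpa using Submodule.mem_annihilator.1 hx 1 trivial
        rw [h2]
        exact (DepthLib.isCohenMacaulayModule_congr (Submodule.quotEquivOfEqBot ⊥ rfl)).2
          DepthLib.isCohenMacaulayModule_self
    haveI : IsLocalRing (Localization.AtPrime P') := inferInstance
    rw [DepthLib.isCohenMacaulayLocalRing_iff, IsLocalization.AtPrime.ringKrullDim_eq_height P',
      DepthLib.height_map_quotient_eq_supportDim J P hJP P' hP',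
      DepthLib.depth_quotient_localization J P hJP P' hP', ← Module.supportDim_quotient_eq_ringKrullDim]
    exact hCM.le

variable {K : Type u} [Field K] {n : ℕ}

local notation "Pol" => MvPolynomial (Fin (n + 1)) K

theorem annihilator_map_mk {S : Type u} [CommRing S] {c I : Ideal S} :
    (Submodule.annihilator (I.map (Ideal.Quotient.mk c))).comap (Ideal.Quotient.mk c) = c.colon (I : Set S) := by
  ext a
  rw [Ideal.mem_comap, Submodule.mem_annihilator, Submodule.mem_colon]
  constructor
  · intro h i hi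
    have h1 := h _ (Ideal.mem_map_of_mem _ hi)
    rw [smul_eq_mul, ← map_mul] at h1
    exact Ideal.Quotient.eq_zero_iff_mem.1 h1
  · intro h x hx
    obtain ⟨i, hi, rfl⟩ := (Ideal.mem_map_iff_of_surjective _ Ideal.Quotient.mk_surjective).1 hx
    rw [smul_eq_mul, ← map_mul]
    exact Ideal.Quotient.eq_zero_iff_mem.2 (h i hi)

/-- Height in `R/c` and in `R/I` for unmixed ideals of the same height. -/
theorem height_map_eq {c I : Ideal Pol} [IsCohenMacaulayRing (Pol ⧸ c)] [IsCohenMacaulayRing (Pol ⧸ I)]
    (hle : c ≤ I) {h : ℕ∞} (hI : ∀ Q ∈ I.minimalPrimes, Q.height = h) (hc : ∀ Q ∈ c.minimalPrimes, Q.height = h)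
    (Q : Ideal (Pol ⧸ c)) [Q.IsPrime] (hQ : I.map (Ideal.Quotient.mk c) ≤ Q) :
    (Q.map (Ideal.Quotient.mk (I.map (Ideal.Quotient.mk c)))).height = Q.height := by
  haveI : IsCohenMacaulayRing K :=
    haveI := DepthLib.CMPoly.isRegularRing_field K
    Catenary.isCohenMacaulayRing_of_isRegularRing K
  haveI := Catenary.isCohenMacaulayRing_mvPolynomial K (n + 1)
  let q := Ideal.Quotient.mk c
  let eI : ((Pol ⧸ c) ⧸ I.map q) ≃+* (Pol ⧸ I) := DoubleQuot.quotQuotEquivQuotOfLE hle
  let P : Ideal Pol := Q.comap q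
  haveI : P.IsPrime := Ideal.IsPrime.comap _
  have hQP : Q = P.map q := (Ideal.map_comap_of_surjective _ Ideal.Quotient.mk_surjective _).symm
  have hIP : I ≤ P := Ideal.map_le_iff_le_comap.1 hQ
  obtain ⟨Q₁, hQ₁, hQ₁P⟩ := Ideal.exists_minimalPrimes_le hIP
  obtain ⟨Q₂, hQ₂, hQ₂P⟩ := Ideal.exists_minimalPrimes_le (hle.trans hIP)
  haveI : (P.map (Ideal.Quotient.mk I)).IsPrime :=
    Ideal.map_isPrime_of_surjective Ideal.Quotient.mk_surjective (by rwa [Ideal.mk_ker])
  have h1 := GrLinkage.height_eq_add hQ₁ hQ₁P (P.map (Ideal.Quotient.mk I)) rfl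
  have h2 := GrLinkage.height_eq_add hQ₂ hQ₂P Q hQP
  rw [hI Q₁ hQ₁] at h1
  rw [hc Q₂ hQ₂] at h2
  have hh : (Q.map (Ideal.Quotient.mk (I.map q))).map eI = P.map (Ideal.Quotient.mk I) := by
    rw [hQP, Ideal.map_map]
    show Ideal.map (eI : ((Pol ⧸ c) ⧸ I.map q) →+* (Pol ⧸ I)) _ = _
    rw [Ideal.map_map]
    rfl
  rw [← RingEquiv.height_map eI, hh]
  rw [h1] at h2
  have hfin : h ≠ ⊤ := (hI Q₁ hQ₁).symm.trans_ne (Ideal.height_ne_top hQ₁.isPrime.ne_top)
  have h3 : h + (P.map (Ideal.Quotient.mk I)).height = h + Q.height := by exact_mod_cast h2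
  exact ENat.add_right_injective_of_ne_top hfin h3

/-- A quotient `R/(c : I)` is Cohen–Macaulay when `R/c` is Gorenstein and `R/I` is Cohen–Macaulay of the same
dimension. -/
theorem isCohenMacaulayRing_quotient_colon {c I : Ideal Pol} (hc : c.IsHomogeneous (GrSyz.stdGr K (Fin (n + 1))))
    (hI : I.IsHomogeneous (GrSyz.stdGr K (Fin (n + 1)))) [IsGorensteinRing (Pol ⧸ c)]
    [IsCohenMacaulayRing (Pol ⧸ I)] (hle : c ≤ I) (hht : I.height = c.height) :
    IsCohenMacaulayRing (Pol ⧸ c.colon (I : Set Pol)) := by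
  haveI : IsCohenMacaulayRing K :=
    haveI := DepthLib.CMPoly.isRegularRing_field K
    Catenary.isCohenMacaulayRing_of_isRegularRing K
  haveI := Catenary.isCohenMacaulayRing_mvPolynomial K (n + 1)
  let q := Ideal.Quotient.mk c
  let eI : ((Pol ⧸ c) ⧸ I.map q) ≃+* (Pol ⧸ I) := DoubleQuot.quotQuotEquivQuotOfLE hle
  haveI : IsCohenMacaulayRing ((Pol ⧸ c) ⧸ I.map q) :=
    Catenary.isCohenMacaulayRing_of_ringEquiv (A := Pol ⧸ I) (B := (Pol ⧸ c) ⧸ I.map q) eI.symm
  haveI : IsCohenMacaulayRing (Pol ⧸ c) := GrLinkage.isCohenMacaulayRing_of_gorenstein _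
  have h := isCohenMacaulayRing_quotient_annihilator (I.map q) fun Q _ hQ =>
    height_map_eq hle (h := c.height)
      (fun Q₁ hQ₁ => (GrLinkage.height_eq_of_mem_associatedPrimes hI
        (GrLinkage.mem_associatedPrimes_of_mem_minimalPrimes hQ₁)).trans hht)
      (fun Q₂ hQ₂ => GrLinkage.height_eq_of_mem_associatedPrimes hc
        (GrLinkage.mem_associatedPrimes_of_mem_minimalPrimes hQ₂)) Q hQ
  let J := Submodule.annihilator (I.map q)
  have hJ : c.colon (I : Set Pol) = RingHom.ker ((Ideal.Quotient.mk J).comp q) := by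
    rw [← RingHom.comap_ker, Ideal.mk_ker]
    exact annihilator_map_mk.symm
  exact Catenary.isCohenMacaulayRing_of_ringEquiv (A := (Pol ⧸ c) ⧸ J) (B := Pol ⧸ c.colon (I : Set Pol)) ((Ideal.quotEquivOfEq hJ).trans
    (RingHom.quotientKerEquivOfSurjective (f := (Ideal.Quotient.mk J).comp q)
      (Ideal.Quotient.mk_surjective.comp Ideal.Quotient.mk_surjective))).symm

theorem isCohenMacaulayRing_of_linked {c I J : Ideal Pol} (hc : c.IsHomogeneous (GrSyz.stdGr K (Fin (n + 1))))
    (hI : I.IsHomogeneous (GrSyz.stdGr K (Fin (n + 1)))) [IsGorensteinRing (Pol ⧸ c)]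
    [IsCohenMacaulayRing (Pol ⧸ I)] (hIJ : c.colon (I : Set Pol) = J) (hJI : c.colon (J : Set Pol) = I) :
    IsCohenMacaulayRing (Pol ⧸ J) := by
  haveI : IsCohenMacaulayRing (Pol ⧸ c) := GrLinkage.isCohenMacaulayRing_of_gorenstein _
  by_cases hJc : J ≤ c
  · have h1 : I = ⊤ := by
      rw [← hJI, Submodule.colon_eq_top_iff_subset]
      exact hJc
    have h2 : J = c := by
      rw [← hIJ, h1]
      exact Submodule.colon_univ
    rw [h2]
    infer_instance
  have hcI : c ≤ I := hJI ▸ Ideal.le_colon
  have hht : I.height = c.height := hJI ▸ (GrLinkage.colon_unmixed hc hJc).1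
  rw [← hIJ]
  exact isCohenMacaulayRing_quotient_colon hc hI hcI hht

end Groth.Agent.GorLib
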