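import Groth.Agent.GorLib.LinkageGor
import Groth.Agent.GorLib.LinkageRing

/-!
Gorenstein quotients produced by linkage in a Gorenstein ring.
-/

set_option autoImplicit false
set_option linter.style.haveILetI false
set_option linter.unusedVariables false
universe u

open LocCoh

namespace Groth.Agent.GorLib

section

variable {A : Type u} [CommRing A]

/-- The local ring of `A/K` at `P/K` is `A_P/KA_P`. -/
theorem gorenstein_atPrime_quotient (K P : Ideal A) [P.IsPrime] (hKP : K ≤ P) (P' : Ideal (A ⧸ K)) [P'.IsPrime]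
    (hP' : P' = P.map (Ideal.Quotient.mk K))
    (h : IsGorensteinLocalRing (Localization.AtPrime P ⧸ K.map (algebraMap A (Localization.AtPrime P)))) :
    IsGorensteinLocalRing (Localization.AtPrime P') := by
  haveI := h
  have hmem : ∀ x, Ideal.Quotient.mk K x ∈ P' ↔ x ∈ P := fun x => by
    rw [hP']; exact Ideal.mem_quotient_iff_mem hKP
  have hM : Algebra.algebraMapSubmonoid (A ⧸ K) P.primeCompl = P'.primeCompl := by
    ext y
    constructor
    · rintro ⟨x, hx, rfl⟩
      exact fun h => hx ((hmem x).mp h)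
    · intro hy
      obtain ⟨x, rfl⟩ := Ideal.Quotient.mk_surjective y
      exact ⟨x, fun h => hy ((hmem x).mpr h), rfl⟩
  haveI : IsLocalization.AtPrime
      (Localization.AtPrime P ⧸ K.map (algebraMap A (Localization.AtPrime P))) P' := by
    unfold IsLocalization.AtPrime
    rw [← hM]
    infer_instance
  exact SegreOne.isGorensteinLocalRing_of_ringEquiv
    (A := Localization.AtPrime P ⧸ K.map (algebraMap A (Localization.AtPrime P))) (B := Localization.AtPrime P')
    (IsLocalization.algEquiv P'.primeCompl _ _).toRingEquiv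

/-- The local data of a Cohen–Macaulay quotient of full dimension. -/
theorem local_data [IsNoetherianRing A] (I P : Ideal A) [IsCohenMacaulayRing (A ⧸ I)] [P.IsPrime] (hIP : I ≤ P)
    (h : (P.map (Ideal.Quotient.mk I)).height = P.height) :
    IsCohenMacaulayLocalRing (Localization.AtPrime P ⧸ I.map (algebraMap A (Localization.AtPrime P))) ∧
      ringKrullDim (Localization.AtPrime P ⧸ I.map (algebraMap A (Localization.AtPrime P))) =
        ringKrullDim (Localization.AtPrime P) := by
  haveI : (P.map (Ideal.Quotient.mk I)).IsPrime :=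
    Ideal.map_isPrime_of_surjective Ideal.Quotient.mk_surjective (by rwa [Ideal.mk_ker])
  haveI := IsCohenMacaulayRing.isCohenMacaulayLocalRing_localization (R := A ⧸ I) (P.map (Ideal.Quotient.mk I))
  refine ⟨isCohenMacaulayLocalRing_quotient_of_module ?_, ?_⟩
  · show Module.supportDim _ _ = _
    rw [Module.supportDim_quotient_eq_ringKrullDim,
      ← DepthLib.height_map_quotient_eq_supportDim I P hIP _ rfl,
      ← DepthLib.depth_quotient_localization I P hIP _ rfl, ← DepthLib.ringKrullDim_eq_depth,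
      IsLocalization.AtPrime.ringKrullDim_eq_height (P.map (Ideal.Quotient.mk I))]
  · rw [← DepthLib.height_map_quotient_eq_supportDim I P hIP _ rfl, h,
      IsLocalization.AtPrime.ringKrullDim_eq_height P]

variable [IsGorensteinRing A]

theorem isGorensteinRing_of_annihilator_eq_span (J : Ideal A) [IsCohenMacaulayRing (A ⧸ J)]
    (h : ∀ (P : Ideal A) [P.IsPrime], J ≤ P → (P.map (Ideal.Quotient.mk J)).height = P.height)
    {g : A} (hg : Submodule.annihilator J = Ideal.span {g}) : IsGorensteinRing (A ⧸ J) where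
  isGorensteinLocalRing_localization P' _ := by
    let P : Ideal A := P'.comap (Ideal.Quotient.mk J)
    haveI : P.IsPrime := Ideal.IsPrime.comap _
    have hJP : J ≤ P := fun x hx => by
      show Ideal.Quotient.mk J x ∈ P'
      rw [Ideal.Quotient.eq_zero_iff_mem.2 hx]
      exact zero_mem _
    refine gorenstein_atPrime_quotient J P hJP P'
      (Ideal.map_comap_of_surjective _ Ideal.Quotient.mk_surjective _).symm ?_
    haveI := IsGorensteinRing.isGorensteinLocalRing_localization (A := A) P
    obtain ⟨h1, h2⟩ := local_data J P hJP (h P hJP)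
    obtain ⟨d, hd⟩ := DepthLib.exists_nat_supportDim (R := Localization.AtPrime P) (Localization.AtPrime P)
    rw [Module.supportDim_self_eq_ringKrullDim] at hd
    refine gorenstein_of_annihilator_eq_span hd _ (h2.trans hd) (g := algebraMap A _ g) ?_
    rw [annihilator_map_localization P.primeCompl, hg, Ideal.map_span, Set.image_singleton]

theorem gorenstein_atPrime_sup (I₁ I₂ : Ideal A) [IsCohenMacaulayRing (A ⧸ I₁)] [IsCohenMacaulayRing (A ⧸ I₂)]
    (hbot : I₁ ⊓ I₂ = ⊥)
    (h₁ : ∀ (P : Ideal A) [P.IsPrime], I₁ ≤ P → (P.map (Ideal.Quotient.mk I₁)).height = P.height)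
    (h₂ : ∀ (P : Ideal A) [P.IsPrime], I₂ ≤ P → (P.map (Ideal.Quotient.mk I₂)).height = P.height)
    (hmin : ∀ (P : Ideal A) [P.IsPrime], P.height = 0 → ¬ I₁ ⊔ I₂ ≤ P)
    (P' : Ideal (A ⧸ (I₁ ⊔ I₂))) [P'.IsPrime] :
    IsGorensteinLocalRing (Localization.AtPrime P') ∧
      P'.height + 1 = (P'.comap (Ideal.Quotient.mk (I₁ ⊔ I₂))).height := by
  classical
  let P : Ideal A := P'.comap (Ideal.Quotient.mk (I₁ ⊔ I₂))
  haveI : P.IsPrime := Ideal.IsPrime.comap _
  have hKP : I₁ ⊔ I₂ ≤ P := fun x hx => by
    show Ideal.Quotient.mk _ x ∈ P'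
    rw [Ideal.Quotient.eq_zero_iff_mem.2 hx]
    exact zero_mem _
  have hP' : P' = P.map (Ideal.Quotient.mk (I₁ ⊔ I₂)) :=
    (Ideal.map_comap_of_surjective _ Ideal.Quotient.mk_surjective _).symm
  let B := Localization.AtPrime P
  haveI : IsGorensteinLocalRing B := IsGorensteinRing.isGorensteinLocalRing_localization (A := A) P
  obtain ⟨a1, b1⟩ := local_data I₁ P (le_sup_left.trans hKP) (h₁ P (le_sup_left.trans hKP))
  obtain ⟨a2, b2⟩ := local_data I₂ P (le_sup_right.trans hKP) (h₂ P (le_sup_right.trans hKP))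
  obtain ⟨d, hd⟩ := DepthLib.exists_nat_supportDim (R := B) B
  rw [Module.supportDim_self_eq_ringKrullDim] at hd
  haveI := GorLib.isCohenMacaulayLocalRing d B (GorLib.depth_eq_dim hd)
  haveI := DepthLib.isCohenMacaulayRing_of_isCohenMacaulayLocalRing (R := B)
  let KB : Ideal B := I₁.map (algebraMap A B) ⊔ I₂.map (algebraMap A B)
  have hKB : KB = (I₁ ⊔ I₂).map (algebraMap A B) := (Ideal.map_sup _ _ _).symm
  have hne : KB ≠ ⊤ := by
    rw [hKB]
    refine ne_top_of_le_ne_top (IsLocalRing.maximalIdeal.isMaximal B).ne_top ?_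
    rw [← Localization.AtPrime.map_eq_maximalIdeal]
    exact Ideal.map_mono hKP
  have hgrade : (1 : ℕ∞) ≤ idealDepth KB B := by
    rw [DepthLib.one_le_idealDepth_iff_forall_associatedPrimes]
    intro q hq hle
    haveI := IsAssociatedPrime.isPrime hq
    have hq' := SegreOne.mem_minimalPrimes_of_mem_associatedPrimes hq
    refine hmin (q.comap (algebraMap A B)) ?_ (Ideal.map_le_iff_le_comap.1 (hKB ▸ hle))
    rw [show (q.comap (algebraMap A B)).height = q.height from IsLocalization.height_under P.primeCompl q]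
    exact Ideal.height_eq_zero_iff.2 hq'
  have hlt : ringKrullDim (B ⧸ KB) < d := by
    haveI : IsLocalRing (B ⧸ KB) :=
      haveI : Nontrivial (B ⧸ KB) := Ideal.Quotient.nontrivial_iff.2 hne
      .of_surjective' (Ideal.Quotient.mk _) Ideal.Quotient.mk_surjective
    have h := DepthLib.supportDim_quotient_add_idealDepth (R := B) (M := B) DepthLib.isCohenMacaulayModule_self hne
    rw [Module.supportDim_self_eq_ringKrullDim, hd,
      Module.supportDim_eq_of_equiv (Submodule.quotEquivOfEq (KB • ⊤ : Submodule B B) KB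
        (by rw [smul_eq_mul, Ideal.mul_top])), Module.supportDim_quotient_eq_ringKrullDim] at h
    obtain ⟨e, he⟩ := DepthLib.exists_nat_supportDim (R := B ⧸ KB) (B ⧸ KB)
    rw [Module.supportDim_self_eq_ringKrullDim] at he
    rw [he] at h ⊢
    cases hg : idealDepth KB B with
    | top => rw [hg] at h; exact absurd (WithBot.coe_injective (a₁ := ((e : ℕ∞) + ⊤)) (a₂ := (d : ℕ∞)) h) (by simp)
    | coe g =>
      rw [hg] at hgrade h
      norm_cast at hgrade h ⊢
      omega
  obtain ⟨h3, h4⟩ := gorenstein_sup_of_linked hd (I₁.map (algebraMap A B)) (I₂.map (algebraMap A B))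
    (b1.trans hd) (b2.trans hd)
    (by rw [← IsLocalization.map_inf P.primeCompl B, hbot, Ideal.map_bot]) hne hlt
  refine ⟨gorenstein_atPrime_quotient _ P hKP P' hP' ?_, ?_⟩
  · exact SegreOne.isGorensteinLocalRing_of_ringEquiv (A := B ⧸ KB)
      (B := B ⧸ (I₁ ⊔ I₂).map (algebraMap A B)) (Ideal.quotEquivOfEq hKB)
  · have h5 : ringKrullDim (B ⧸ (I₁ ⊔ I₂).map (algebraMap A B)) + 1 = d :=
      (ringKrullDim_eq_of_ringEquiv (Ideal.quotEquivOfEq hKB)) ▸ h4
    rw [← DepthLib.height_map_quotient_eq_supportDim (I₁ ⊔ I₂) P hKP P' hP', ← hd,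
      IsLocalization.AtPrime.ringKrullDim_eq_height P] at h5
    exact_mod_cast h5

end

end Groth.Agent.GorLib
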