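import Groth.Prelude.Def_W4c2filtblowupsingRees
import Groth.Agent.GorLib.RingLevel
import Groth.Agent.GorLib.FieldExt
import Groth.Agent.GorLib.LinkageGorRing
import Groth.Agent.Catenary.CM
import Groth.Agent.ProjCM.UnitDegOne
import Groth.Agent.StdMon.CMQuot

/-!
The extended Rees algebra against the associated graded ring.
-/

set_option autoImplicit false
set_option linter.style.haveILetI false
set_option linter.unusedVariables false
universe u

open LaurentPolynomial LocCoh
open scoped Pointwise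

namespace Groth.Agent.GorLib.ExtRees

variable {A : Type u} [CommRing A] (𝓕 : FiltBl.IdealFiltration A)

set_option quotPrecheck false in
local notation "R'" => (↥(FiltBl.IdealFiltration.extRees 𝓕))

noncomputable local instance instAlg : Algebra R' A[T;T⁻¹] :=
  (FiltBl.IdealFiltration.extRees 𝓕).toAlgebra

theorem algebraMap_eq (x : R') : algebraMap R' A[T;T⁻¹] x = (x : A[T;T⁻¹]) := rfl

theorem isUnit_u : IsUnit ((𝓕.u : R') : A[T;T⁻¹]) := isUnit_T (-1)

theorem mem_T_mul {n : ℤ} (hn : n ≤ 0) : (T n : A[T;T⁻¹]) ∈ 𝓕.extRees := fun k => by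
  rw [LaurentPolynomial.T_apply]
  split_ifs with h
  · subst h
    rw [Int.toNat_eq_zero.2 hn, 𝓕.zero_eq]
    exact Submodule.mem_top
  · exact Ideal.zero_mem _

theorem exists_T_mul_mem (f : A[T;T⁻¹]) : ∃ N : ℕ, f * T (-(N : ℤ)) ∈ 𝓕.extRees := by
  induction f using LaurentPolynomial.induction_on' with
  | add p q hp hq =>
    obtain ⟨N, hN⟩ := hp
    obtain ⟨M, hM⟩ := hq
    refine ⟨N + M, ?_⟩
    have e1 : p * T (-((N + M : ℕ) : ℤ)) = (p * T (-(N : ℤ))) * T (-(M : ℤ)) := by
      rw [mul_assoc, ← T_add]; congr 2; push_cast; ring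
    have e2 : q * T (-((N + M : ℕ) : ℤ)) = (q * T (-(M : ℤ))) * T (-(N : ℤ)) := by
      rw [mul_assoc, ← T_add]; congr 2; push_cast; ring
    rw [add_mul, e1, e2]
    exact add_mem (mul_mem hN (mem_T_mul 𝓕 (by omega))) (mul_mem hM (mem_T_mul 𝓕 (by omega)))
  | C_mul_T n a =>
    refine ⟨n.toNat, ?_⟩
    rw [mul_assoc, ← T_add]
    exact mul_mem (𝓕.extRees.algebraMap_mem a) (mem_T_mul 𝓕 (by omega))

theorem coe_u_pow (n : ℕ) : ((𝓕.u ^ n : R') : A[T;T⁻¹]) = T (-(n : ℤ)) := by
  rw [Subalgebra.coe_pow]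
  show (T (-1) : A[T;T⁻¹]) ^ n = _
  rw [T_pow]
  congr 1
  ring

theorem isLocalization : IsLocalization.Away (𝓕.u : R') A[T;T⁻¹] := by
  unfold IsLocalization.Away
  rw [isLocalization_iff]
  refine ⟨?_, fun z => ?_, fun {x y} h => ⟨1, ?_⟩⟩
  · rintro ⟨_, n, rfl⟩
    rw [algebraMap_eq, Subalgebra.coe_pow]
    exact (isUnit_u 𝓕).pow n
  · obtain ⟨N, hN⟩ := exists_T_mul_mem 𝓕 z
    refine ⟨⟨⟨_, hN⟩, ⟨𝓕.u ^ N, N, rfl⟩⟩, ?_⟩
    show z * ((𝓕.u ^ N : R') : A[T;T⁻¹]) = z * T (-(N : ℤ))
    rw [coe_u_pow]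
  · rw [Subtype.ext h]

theorem regular_u : IsSMulRegular R' (𝓕.u : R') := fun a b h => by
  have h' : (T (-1) : A[T;T⁻¹]) * (a : A[T;T⁻¹]) = T (-1) * (b : A[T;T⁻¹]) := congrArg Subtype.val h
  exact Subtype.ext ((isUnit_T (-1)).mul_left_cancel h')

theorem mem_nonZeroDivisors_u : (𝓕.u : R') ∈ nonZeroDivisors R' := by
  rw [mem_nonZeroDivisors_iff_right]
  intro x hx
  exact regular_u 𝓕 (show 𝓕.u * x = 𝓕.u * 0 by rw [mul_zero, mul_comm, hx])

theorem isNoetherianRing_extRees [IsNoetherianRing A] (hfg : Algebra.FiniteType A 𝓕.rees) :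
    IsNoetherianRing R' := by
  let ι : (↥𝓕.rees) →ₐ[A] R' := (Polynomial.toLaurentAlg.comp 𝓕.rees.val).codRestrict _ fun x n => by
    show (Polynomial.toLaurent (x : Polynomial A)).coeff n ∈ _
    rcases lt_or_ge n 0 with hn | hn
    · rw [show n.toNat = 0 from Int.toNat_eq_zero.2 hn.le, 𝓕.zero_eq]
      exact Submodule.mem_top
    · obtain ⟨k, rfl⟩ := Int.eq_ofNat_of_zero_le hn
      rw [LaurentPolynomial.coeff_toLaurent, Int.toNat_natCast,
        show (k : ℤ) = Nat.castEmbedding k from rfl, Finsupp.mapDomain_apply Nat.castEmbedding.injective]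
      exact x.2 k
  haveI : IsNoetherianRing (↥𝓕.rees) := Algebra.FiniteType.isNoetherianRing A _
  refine isNoetherianRing_of_surjective (Polynomial ↥𝓕.rees) R' (Polynomial.eval₂RingHom ι.toRingHom 𝓕.u) fun z => ?_
  let S := (Polynomial.eval₂RingHom ι.toRingHom (𝓕.u : R')).rangeS
  obtain ⟨z, hz⟩ := z
  have key : ∀ (n : ℤ) (a : A), a ∈ 𝓕.F n.toNat → ∀ h, (⟨C a * T n, h⟩ : R') ∈ S := fun n a ha h => by
    rcases lt_or_ge n 0 with hn | hn
    · refine ⟨Polynomial.C (algebraMap A _ a) * Polynomial.X ^ (-n).toNat, Subtype.ext ?_⟩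
      rw [map_mul, map_pow, Polynomial.coe_eval₂RingHom, Polynomial.eval₂_C, Polynomial.eval₂_X, Subalgebra.coe_mul,
        coe_u_pow]
      congr 1
      · show ((ι (algebraMap A _ a) : R') : A[T;T⁻¹]) = _
        rw [AlgHom.commutes]
        rfl
      · congr 1; omega
    · obtain ⟨k, rfl⟩ := Int.eq_ofNat_of_zero_le hn
      refine ⟨Polynomial.C ⟨Polynomial.monomial k a, fun j => ?_⟩, Subtype.ext ?_⟩
      · rw [Polynomial.coeff_monomial]
        split_ifs with hj
        · subst hj; simpa using ha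
        · exact Ideal.zero_mem _
      · rw [Polynomial.coe_eval₂RingHom, Polynomial.eval₂_C]
        show Polynomial.toLaurent (Polynomial.monomial k a) = _
        rw [← Polynomial.C_mul_X_pow_eq_monomial, Polynomial.toLaurent_C_mul_X_pow]
  have hsum : (⟨z, hz⟩ : R') = ∑ n ∈ z.coeff.support, (⟨C (z.coeff n) * T n, fun k => by
      rw [← LaurentPolynomial.single_eq_C_mul_T, AddMonoidAlgebra.coeff_single, Finsupp.single_apply]
      split_ifs with hk
      · subst hk; exact hz _
      · exact Ideal.zero_mem _⟩ : R') := by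
    refine Subtype.ext ?_
    rw [AddSubmonoidClass.coe_finsetSum]
    simp only [← LaurentPolynomial.single_eq_C_mul_T]
    exact (AddMonoidAlgebra.sum_single z).symm
  show (⟨z, hz⟩ : R') ∈ S
  rw [hsum]
  exact Subsemiring.sum_mem _ fun n _ => key n _ (hz n) _

section Local

variable [IsLocalRing A]

theorem F_one_le (hsep : ⨅ n, 𝓕.F n = ⊥) : 𝓕.F 1 ≤ IsLocalRing.maximalIdeal A := by
  refine IsLocalRing.le_maximalIdeal fun h1 => ?_
  have hall : ∀ n, 𝓕.F n = ⊤ := by
    intro n
    induction n with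
    | zero => exact 𝓕.zero_eq
    | succ n ih =>
      refine top_le_iff.1 ?_
      have h2 := 𝓕.mul_le n 1
      rw [ih, h1, Ideal.top_mul] at h2
      exact h2
  simp [hall] at hsep

/-- A prime of the extended Rees algebra containing `u` and lying above the closed point of the base. -/
theorem exists_prime (hsep : ⨅ n, 𝓕.F n = ⊥) :
    ∃ (P₁ : Ideal A[T;T⁻¹]) (_ : P₁.IsPrime) (M : Ideal R') (_ : M.IsPrime),
      P₁.comap (algebraMap A A[T;T⁻¹]) = IsLocalRing.maximalIdeal A ∧
      P₁.comap (algebraMap R' A[T;T⁻¹]) ≤ M ∧ (𝓕.u : R') ∈ M := by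
  let ρ : A[T;T⁻¹] →+* (IsLocalRing.ResidueField A)[T;T⁻¹] :=
    AddMonoidAlgebra.mapRingHom ℤ (IsLocalRing.residue A)
  haveI : (RingHom.ker ρ).IsPrime := RingHom.ker_isPrime ρ
  have hρ : ∀ (z : A[T;T⁻¹]) (n : ℤ), (ρ z).coeff n = IsLocalRing.residue A (z.coeff n) := fun z n => by
    simp [ρ]
  refine ⟨RingHom.ker ρ, inferInstance, ?_⟩
  have hne : (RingHom.ker ρ).comap (algebraMap R' A[T;T⁻¹]) ⊔ Ideal.span {(𝓕.u : R')} ≠ ⊤ := fun h => by
    obtain ⟨p, hp, q, hq, hpq⟩ := Submodule.mem_sup.1 ((Ideal.eq_top_iff_one _).1 h)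
    obtain ⟨w, rfl⟩ := Ideal.mem_span_singleton'.1 hq
    have h0 := congrArg (fun z : R' => (z : A[T;T⁻¹]).coeff 0) hpq
    simp only [Subalgebra.coe_add, Subalgebra.coe_mul, Subalgebra.coe_one] at h0
    have hu : ((𝓕.u : R') : A[T;T⁻¹]) = AddMonoidAlgebra.single (-1 : ℤ) (1 : A) := rfl
    rw [hu, AddMonoidAlgebra.coeff_add, Finsupp.add_apply] at h0
    have hw : ((w : A[T;T⁻¹]) * AddMonoidAlgebra.single (-1 : ℤ) (1 : A)).coeff 0 = (w : A[T;T⁻¹]).coeff 1 := by
      rw [AddMonoidAlgebra.coeff_mul_single_eq_coeff_mul (1 : ℤ) (fun m _ => by omega), mul_one]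
    rw [hw, AddMonoidAlgebra.one_def, AddMonoidAlgebra.coeff_single, Finsupp.single_eq_same] at h0
    have h1 : (w : A[T;T⁻¹]).coeff 1 ∈ IsLocalRing.maximalIdeal A := F_one_le 𝓕 hsep (w.2 1)
    have h2 : (p : A[T;T⁻¹]).coeff 0 ∈ IsLocalRing.maximalIdeal A := by
      rw [← IsLocalRing.residue_eq_zero_iff, ← hρ, show ρ (p : A[T;T⁻¹]) = 0 from hp]
      simp
    exact (IsLocalRing.maximalIdeal.isMaximal A).ne_top ((Ideal.eq_top_iff_one _).2 (h0 ▸ add_mem h2 h1))
  obtain ⟨M, hM, hle⟩ := Ideal.exists_le_maximal _ hne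
  refine ⟨M, hM.isPrime, ?_, le_sup_left.trans hle, hle (Submodule.mem_sup_right (Ideal.mem_span_singleton_self _))⟩
  ext a
  rw [Ideal.mem_comap, RingHom.mem_ker]
  constructor
  · intro h
    have h3 := hρ (algebraMap A A[T;T⁻¹] a) 0
    rw [h] at h3
    rw [← IsLocalRing.residue_eq_zero_iff]
    simpa using h3.symm
  · intro h
    refine LaurentPolynomial.ext fun n => ?_
    rw [hρ, LaurentPolynomial.algebraMap_apply, Algebra.algebraMap_self, RingHom.id_apply, LaurentPolynomial.C_apply]
    split_ifs with hn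
    · rw [IsLocalRing.residue_eq_zero_iff _ |>.2 h]; rfl
    · simp

end Local

section Generic

variable {R L : Type u} [CommRing R] [CommRing L] [Algebra R L] (u : R) [IsLocalization.Away u L]

include u in
/-- Localizations at primes of `R[u⁻¹]` are localizations of `R`. -/
theorem nonempty_atPrime_equiv (Q : Ideal L) [Q.IsPrime] :
    Nonempty (Localization.AtPrime Q ≃+* Localization.AtPrime (Q.comap (algebraMap R L))) := by
  haveI := IsLocalization.isLocalization_isLocalization_atPrime_isLocalization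
    (Submonoid.powers u) (Localization.AtPrime Q) Q
  exact ⟨(IsLocalization.algEquiv (Q.comap (algebraMap R L)).primeCompl (Localization.AtPrime Q)
    (Localization.AtPrime (Q.comap (algebraMap R L)))).toRingEquiv⟩

include u in
/-- A prime not containing `u` comes from `R[u⁻¹]`. -/
theorem exists_eq_comap (P : Ideal R) [P.IsPrime] (hu : u ∉ P) :
    ∃ (Q : Ideal L) (_ : Q.IsPrime), Q.comap (algebraMap R L) = P := by
  have hd : Disjoint (Submonoid.powers u : Set R) (P : Set R) :=
    Set.disjoint_left.2 fun x ⟨n, hn⟩ hx => hu (Ideal.IsPrime.mem_of_pow_mem ‹_› n (by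
      rw [show u ^ n = x from hn]; exact hx))
  exact ⟨_, IsLocalization.isPrime_of_isPrime_disjoint (Submonoid.powers u) _ P inferInstance hd,
    IsLocalization.under_map_of_isPrime_disjoint (Submonoid.powers u) _ inferInstance hd⟩

omit [Algebra R L] [IsLocalization.Away u L] in
/-- The local ring of the quotient by `u`. -/
theorem nonempty_quotient_equiv (P : Ideal R) [P.IsPrime] (hu : u ∈ P) :
    ∃ (P' : Ideal (R ⧸ Ideal.span {u})) (_ : P'.IsPrime), Nonempty ((Localization.AtPrime P ⧸
      Ideal.ofList [algebraMap R (Localization.AtPrime P) u]) ≃+* Localization.AtPrime P') := by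
  let K : Ideal R := Ideal.span {u}
  have hKP : K ≤ P := (Ideal.span_singleton_le_iff_mem _).2 hu
  let P' : Ideal (R ⧸ K) := P.map (Ideal.Quotient.mk K)
  haveI : P'.IsPrime := Ideal.map_isPrime_of_surjective Ideal.Quotient.mk_surjective (by rwa [Ideal.mk_ker])
  refine ⟨P', inferInstance, ?_⟩
  have hM : Algebra.algebraMapSubmonoid (R ⧸ K) P.primeCompl = P'.primeCompl := by
    ext y
    constructor
    · rintro ⟨x, hx, rfl⟩
      exact fun h => hx ((Ideal.mem_quotient_iff_mem hKP).1 h)
    · intro hy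
      obtain ⟨x, rfl⟩ := Ideal.Quotient.mk_surjective y
      exact ⟨x, fun h => hy (Ideal.mem_map_of_mem _ h), rfl⟩
  haveI : IsLocalization.AtPrime
      (Localization.AtPrime P ⧸ K.map (algebraMap R (Localization.AtPrime P))) P' := by
    unfold IsLocalization.AtPrime
    rw [← hM]
    infer_instance
  exact ⟨(Ideal.quotEquivOfEq (by rw [Ideal.ofList_singleton, Ideal.map_span, Set.image_singleton])).trans
    (IsLocalization.algEquiv P'.primeCompl (Localization.AtPrime P ⧸ K.map (algebraMap R (Localization.AtPrime P)))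
      (Localization.AtPrime P')).toRingEquiv⟩

omit [Algebra R L] [IsLocalization.Away u L] in
theorem weaklyRegular_u (hu : IsSMulRegular R u) (P : Ideal R) [P.IsPrime] :
    RingTheory.Sequence.IsWeaklyRegular (Localization.AtPrime P) [algebraMap R (Localization.AtPrime P) u] :=
  RingTheory.Sequence.IsWeaklyRegular.of_isLocalization (R := R) (S := Localization.AtPrime P) P.primeCompl
    (rs := [u]) ((RingTheory.Sequence.isWeaklyRegular_singleton_iff R _).2 hu)

/-- Gorensteinness at the primes containing `u`. -/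
theorem gorenstein_at [IsNoetherianRing R] (hreg : IsSMulRegular R u) [IsGorensteinRing (R ⧸ Ideal.span {u})]
    (P : Ideal R) [P.IsPrime] (hu : u ∈ P) : IsGorensteinLocalRing (Localization.AtPrime P) := by
  obtain ⟨P', _, ⟨e⟩⟩ := nonempty_quotient_equiv u P hu
  haveI := IsGorensteinRing.isGorensteinLocalRing_localization (A := R ⧸ Ideal.span {u}) P'
  have hm : ∀ a ∈ [algebraMap R (Localization.AtPrime P) u], a ∈ IsLocalRing.maximalIdeal (Localization.AtPrime P) :=
    fun a ha => by
    rw [List.mem_singleton.1 ha, ← Localization.AtPrime.map_eq_maximalIdeal]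
    exact Ideal.mem_map_of_mem _ hu
  refine (isGorensteinLocalRing_quotient_ofList_iff _ _ rfl (weaklyRegular_u u hreg P) hm).2 ?_
  exact SegreOne.isGorensteinLocalRing_of_ringEquiv (A := Localization.AtPrime P')
    (B := Localization.AtPrime P ⧸ Ideal.ofList [algebraMap R (Localization.AtPrime P) u]) e.symm

/-- Cohen--Macaulayness at the primes containing `u`. -/
theorem cm_at [IsNoetherianRing R] (hreg : IsSMulRegular R u) [IsCohenMacaulayRing (R ⧸ Ideal.span {u})]
    (P : Ideal R) [P.IsPrime] (hu : u ∈ P) : IsCohenMacaulayLocalRing (Localization.AtPrime P) := by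
  obtain ⟨P', _, ⟨e⟩⟩ := nonempty_quotient_equiv u P hu
  haveI := IsCohenMacaulayRing.isCohenMacaulayLocalRing_localization (R := R ⧸ Ideal.span {u}) P'
  let L := Localization.AtPrime P
  let x := algebraMap R L u
  have hx : x ∈ IsLocalRing.maximalIdeal L := by
    rw [← Localization.AtPrime.map_eq_maximalIdeal]
    exact Ideal.mem_map_of_mem _ hu
  have hrx : IsSMulRegular L x := (RingTheory.Sequence.isWeaklyRegular_singleton_iff L x).1 (weaklyRegular_u u hreg P)
  haveI hq : IsCohenMacaulayLocalRing (L ⧸ Ideal.ofList [x]) :=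
    Catenary.isCohenMacaulayLocalRing_of_ringEquiv (A := Localization.AtPrime P') (B := L ⧸ Ideal.ofList [x]) e.symm
  haveI : IsLocalRing (L ⧸ Ideal.ofList [x]) := hq.toIsLocalRing
  have hmod : IsCohenMacaulayModule L (QuotSMulTop x L) := by
    rw [DepthLib.isCohenMacaulayModule_congr (Submodule.quotEquivOfEq (x • (⊤ : Submodule L L)) (Ideal.ofList [x])
      (by rw [Ideal.ofList_singleton, ← Submodule.ideal_span_singleton_smul, smul_eq_mul, Ideal.mul_top]))]
    show Module.supportDim L (L ⧸ Ideal.ofList [x]) = _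
    rw [Module.supportDim_quotient_eq_ringKrullDim, DepthLib.ringKrullDim_eq_depth,
      DepthLib.depth_eq_of_surjective (R := L) (S := L ⧸ Ideal.ofList [x]) (M := L ⧸ Ideal.ofList [x])
        Ideal.Quotient.mk_surjective]
  rw [DepthLib.isCohenMacaulayLocalRing_iff, ← Module.supportDim_self_eq_ringKrullDim]
  exact ((DepthLib.isCohenMacaulayModule_quotSMulTop_iff hx hrx).1 hmod).le

end Generic

theorem cm_generization {R : Type u} [CommRing R] [IsNoetherianRing R] {p M : Ideal R} [p.IsPrime] [M.IsPrime]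
    (hle : p ≤ M) [IsCohenMacaulayLocalRing (Localization.AtPrime M)] :
    IsCohenMacaulayLocalRing (Localization.AtPrime p) := by
    have hd : Disjoint (M.primeCompl : Set R) (p : Set R) := Set.disjoint_left.2 fun x hx hx' => hx (hle hx')
    let Q := p.map (algebraMap R (Localization.AtPrime M))
    haveI : Q.IsPrime := IsLocalization.isPrime_of_isPrime_disjoint M.primeCompl _ p inferInstance hd
    have hc : Q.comap (algebraMap R (Localization.AtPrime M)) = p :=
      IsLocalization.under_map_of_isPrime_disjoint M.primeCompl _ inferInstance hd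
    haveI := IsLocalization.isLocalization_isLocalization_atPrime_isLocalization M.primeCompl
      (Localization.AtPrime Q) Q
    haveI : IsLocalization.AtPrime (Localization.AtPrime Q) p := by
      convert (inferInstance : IsLocalization.AtPrime (Localization.AtPrime Q)
        (Q.comap (algebraMap R (Localization.AtPrime M)))) using 1
      exact hc.symm
    haveI := DepthLib.isCohenMacaulayLocalRing_localization (R := Localization.AtPrime M) Q
    exact Catenary.isCohenMacaulayLocalRing_of_ringEquiv (A := Localization.AtPrime Q) (B := Localization.AtPrime p)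
      (IsLocalization.algEquiv p.primeCompl (Localization.AtPrime Q) (Localization.AtPrime p)).toRingEquiv

theorem gorenstein_iff [IsNoetherianRing A] [IsLocalRing A] (hsep : ⨅ n, 𝓕.F n = ⊥)
    (hfg : Algebra.FiniteType A 𝓕.rees) : IsGorensteinRing R' ↔ IsGorensteinRing 𝓕.Gr := by
  haveI := isNoetherianRing_extRees 𝓕 hfg
  refine ⟨fun h => ProjCM.isGorensteinRing_quotient_regular (regular_u 𝓕), fun h => ?_⟩
  have hV : ∀ (P : Ideal R') [P.IsPrime], (𝓕.u : R') ∈ P → IsGorensteinLocalRing (Localization.AtPrime P) :=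
    fun P _ hu => gorenstein_at _ (regular_u 𝓕) P hu
  haveI := isLocalization 𝓕
  obtain ⟨P₁, _, M, _, hP₁, hle, huM⟩ := exists_prime 𝓕 hsep
  obtain ⟨e₁⟩ := nonempty_atPrime_equiv 𝓕.u P₁
  haveI := gorenstein_of_generization hle (hV M huM)
  haveI hL1 : IsGorensteinLocalRing (Localization.AtPrime P₁) :=
    SegreOne.isGorensteinLocalRing_of_ringEquiv
      (A := Localization.AtPrime (P₁.comap (algebraMap R' A[T;T⁻¹]))) (B := Localization.AtPrime P₁) e₁.symm
  haveI : Module.Flat A (Localization.AtPrime P₁) := Module.Flat.trans A A[T;T⁻¹] _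
  haveI : IsLocalHom (algebraMap A (Localization.AtPrime P₁)) := by
    refine ((IsLocalRing.local_hom_TFAE (algebraMap A (Localization.AtPrime P₁))).out 0 2 rfl rfl).mpr ?_
    rw [IsScalarTower.algebraMap_eq A A[T;T⁻¹] (Localization.AtPrime P₁), ← Ideal.map_map,
      ← Localization.AtPrime.map_eq_maximalIdeal, ← hP₁]
    exact Ideal.map_mono Ideal.map_comap_le
  haveI := ((gorenstein_iff_of_flat A (Localization.AtPrime P₁)).1 hL1).1
  haveI := isGorensteinRing_of_local A
  haveI := isGorensteinRing_mvPolynomial A 1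
  haveI : IsGorensteinRing (Polynomial A) :=
    SegreOne.isGorensteinRing_of_ringEquiv (MvPolynomial.uniqueAlgEquiv A (Fin 1)).toRingEquiv
  haveI : IsGorensteinRing A[T;T⁻¹] :=
    isGorensteinRing_of_isLocalization (S := Polynomial A) (Submonoid.powers (Polynomial.X : Polynomial A))
  refine { isGorensteinLocalRing_localization := fun P _ => ?_ }
  by_cases hu : (𝓕.u : R') ∈ P
  · exact hV P hu
  obtain ⟨Q, _, rfl⟩ := exists_eq_comap 𝓕.u (L := A[T;T⁻¹]) P hu
  obtain ⟨e⟩ := nonempty_atPrime_equiv 𝓕.u Q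
  haveI := IsGorensteinRing.isGorensteinLocalRing_localization (A := A[T;T⁻¹]) Q
  exact SegreOne.isGorensteinLocalRing_of_ringEquiv (A := Localization.AtPrime Q)
    (B := Localization.AtPrime (Q.comap (algebraMap R' A[T;T⁻¹]))) e

theorem cm_iff [IsNoetherianRing A] [IsLocalRing A] (hsep : ⨅ n, 𝓕.F n = ⊥)
    (hfg : Algebra.FiniteType A 𝓕.rees) : IsCohenMacaulayRing R' ↔ IsCohenMacaulayRing 𝓕.Gr := by
  haveI := isNoetherianRing_extRees 𝓕 hfg
  refine ⟨fun h => StdMon.isCohenMacaulayRing_quotient_of_regular (mem_nonZeroDivisors_u 𝓕), fun h => ?_⟩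
  have hV : ∀ (P : Ideal R') [P.IsPrime], (𝓕.u : R') ∈ P → IsCohenMacaulayLocalRing (Localization.AtPrime P) :=
    fun P _ hu => cm_at _ (regular_u 𝓕) P hu
  haveI := isLocalization 𝓕
  obtain ⟨P₁, _, M, _, hP₁, hle, huM⟩ := exists_prime 𝓕 hsep
  obtain ⟨e₁⟩ := nonempty_atPrime_equiv 𝓕.u P₁
  haveI := hV M huM
  haveI : IsCohenMacaulayLocalRing (Localization.AtPrime (P₁.comap (algebraMap R' A[T;T⁻¹]))) :=
    cm_generization hle
  haveI hL1 : IsCohenMacaulayLocalRing (Localization.AtPrime P₁) :=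
    Catenary.isCohenMacaulayLocalRing_of_ringEquiv
      (A := Localization.AtPrime (P₁.comap (algebraMap R' A[T;T⁻¹]))) (B := Localization.AtPrime P₁) e₁.symm
  haveI : Module.Flat A (Localization.AtPrime P₁) := Module.Flat.trans A A[T;T⁻¹] _
  haveI : IsLocalHom (algebraMap A (Localization.AtPrime P₁)) := by
    refine ((IsLocalRing.local_hom_TFAE (algebraMap A (Localization.AtPrime P₁))).out 0 2 rfl rfl).mpr ?_
    rw [IsScalarTower.algebraMap_eq A A[T;T⁻¹] (Localization.AtPrime P₁), ← Ideal.map_map,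
      ← Localization.AtPrime.map_eq_maximalIdeal, ← hP₁]
    exact Ideal.map_mono Ideal.map_comap_le
  haveI := FlatAscent.isLocalRing_fibre A (Localization.AtPrime P₁)
  haveI := (cm_of_flat A (Localization.AtPrime P₁) hL1).1
  haveI := DepthLib.isCohenMacaulayRing_of_isCohenMacaulayLocalRing (R := A)
  haveI := Catenary.isCohenMacaulayRing_polynomial A
  refine { isCohenMacaulayLocalRing_localization := fun P _ => ?_ }
  by_cases hu : (𝓕.u : R') ∈ P
  · exact hV P hu
  obtain ⟨Q, _, rfl⟩ := exists_eq_comap 𝓕.u (L := A[T;T⁻¹]) P hu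
  obtain ⟨e⟩ := nonempty_atPrime_equiv 𝓕.u Q
  haveI := IsLocalization.isLocalization_isLocalization_atPrime_isLocalization
    (Submonoid.powers (Polynomial.X : Polynomial A)) (Localization.AtPrime Q) Q
  haveI := IsCohenMacaulayRing.isCohenMacaulayLocalRing_localization
    (R := Polynomial A) (Q.comap (algebraMap (Polynomial A) A[T;T⁻¹]))
  haveI : IsCohenMacaulayLocalRing (Localization.AtPrime Q) :=
    Catenary.isCohenMacaulayLocalRing_of_ringEquiv
      (A := Localization.AtPrime (Q.comap (algebraMap (Polynomial A) A[T;T⁻¹]))) (B := Localization.AtPrime Q)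
      (IsLocalization.algEquiv (Q.comap (algebraMap (Polynomial A) A[T;T⁻¹])).primeCompl
        (Localization.AtPrime (Q.comap (algebraMap (Polynomial A) A[T;T⁻¹]))) (Localization.AtPrime Q)).toRingEquiv
  exact Catenary.isCohenMacaulayLocalRing_of_ringEquiv (A := Localization.AtPrime Q)
    (B := Localization.AtPrime (Q.comap (algebraMap R' A[T;T⁻¹]))) e

end Groth.Agent.GorLib.ExtRees
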