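import Groth.Agent.GorLib.ExtRees

/-!
Cohen--Macaulayness of the extended Rees algebra away from the irrelevant ideal.
-/

set_option autoImplicit false
set_option linter.style.haveILetI false
universe u

open LaurentPolynomial LocCoh
open scoped Pointwise

namespace Groth.Agent.GorLib.ExtReesOff

theorem cm_quotient_iff {L : Type u} [CommRing L] [IsLocalRing L] [IsNoetherianRing L] {x : L}
    (hx : x ∈ IsLocalRing.maximalIdeal L) (hrx : IsSMulRegular L x) :
    IsCohenMacaulayLocalRing (L ⧸ Ideal.ofList [x]) ↔ IsCohenMacaulayLocalRing L := by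
  haveI : Nontrivial (L ⧸ Ideal.ofList [x]) := Ideal.Quotient.nontrivial_iff.2 fun h => by
    have : Ideal.ofList [x] ≤ IsLocalRing.maximalIdeal L := by
      rw [Ideal.ofList_singleton, Ideal.span_singleton_le_iff_mem]; exact hx
    exact (IsLocalRing.maximalIdeal.isMaximal L).ne_top (top_le_iff.1 (h ▸ this))
  haveI : IsLocalRing (L ⧸ Ideal.ofList [x]) := .of_surjective' _ Ideal.Quotient.mk_surjective
  have e := Submodule.quotEquivOfEq (x • (⊤ : Submodule L L)) (Ideal.ofList [x])
    (by rw [Ideal.ofList_singleton, ← Submodule.ideal_span_singleton_smul, smul_eq_mul, Ideal.mul_top])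
  have hd : depth (L ⧸ Ideal.ofList [x]) (L ⧸ Ideal.ofList [x]) = depth L (L ⧸ Ideal.ofList [x]) :=
    DepthLib.depth_eq_of_surjective (R := L) (S := L ⧸ Ideal.ofList [x]) (M := L ⧸ Ideal.ofList [x])
      Ideal.Quotient.mk_surjective
  rw [DepthLib.isCohenMacaulayLocalRing_iff (R := L), ← Module.supportDim_self_eq_ringKrullDim]
  constructor
  · intro h
    have hmod : IsCohenMacaulayModule L (QuotSMulTop x L) := by
      rw [DepthLib.isCohenMacaulayModule_congr e]
      show Module.supportDim L (L ⧸ Ideal.ofList [x]) = _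
      rw [Module.supportDim_quotient_eq_ringKrullDim, DepthLib.ringKrullDim_eq_depth, hd]
    exact ((DepthLib.isCohenMacaulayModule_quotSMulTop_iff hx hrx).1 hmod).le
  · intro h
    have hL : IsCohenMacaulayLocalRing L :=
      DepthLib.isCohenMacaulayLocalRing_iff.2 (by rwa [← Module.supportDim_self_eq_ringKrullDim])
    have hm : IsCohenMacaulayModule L (QuotSMulTop x L) :=
      (DepthLib.isCohenMacaulayModule_quotSMulTop_iff hx hrx).2 hL.supportDim_eq_depth
    rw [DepthLib.isCohenMacaulayModule_congr e] at hm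
    rw [DepthLib.isCohenMacaulayLocalRing_iff, hd, ← Module.supportDim_quotient_eq_ringKrullDim]
    exact le_of_eq hm

/-- Cohen--Macaulayness at a prime containing a regular element, in terms of the quotient. -/
theorem cm_quot_iff {R G : Type u} [CommRing R] [IsNoetherianRing R] [CommRing G] (u : R) (hreg : IsSMulRegular R u)
    (φ : R →+* G) (hφ : Function.Surjective φ) (hker : RingHom.ker φ = Ideal.span {u}) (p : Ideal G) [p.IsPrime] :
    IsCohenMacaulayLocalRing (Localization.AtPrime (p.comap φ)) ↔
      IsCohenMacaulayLocalRing (Localization.AtPrime p) := by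
  let P := p.comap φ
  let L := Localization.AtPrime P
  let K : Ideal R := Ideal.span {u}
  let e : (R ⧸ K) ≃+* G := (Ideal.quotEquivOfEq hker.symm).trans (RingHom.quotientKerEquivOfSurjective hφ)
  have he : ∀ x, e (Ideal.Quotient.mk K x) = φ x := fun x => rfl
  let P' : Ideal (R ⧸ K) := p.comap e.toRingHom
  have hM : Algebra.algebraMapSubmonoid (R ⧸ K) P.primeCompl = P'.primeCompl := by
    ext y
    constructor
    · rintro ⟨x, hx, rfl⟩
      exact fun h => hx (show φ x ∈ p by rw [← he]; exact h)
    · intro hy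
      obtain ⟨x, rfl⟩ := Ideal.Quotient.mk_surjective y
      exact ⟨x, fun h => hy (show e (Ideal.Quotient.mk K x) ∈ p by rw [he]; exact h), rfl⟩
  haveI : IsLocalization.AtPrime (L ⧸ K.map (algebraMap R L)) P' := by
    unfold IsLocalization.AtPrime
    rw [← hM]
    infer_instance
  have hmap : P'.primeCompl.map e.toMonoidHom = p.primeCompl := by
    ext y
    constructor
    · rintro ⟨x, hx, rfl⟩
      exact hx
    · intro hy
      exact ⟨e.symm y, fun h => hy (by simpa [P'] using h), e.apply_symm_apply y⟩
  let e₂ : (L ⧸ Ideal.ofList [algebraMap R L u]) ≃+* Localization.AtPrime p :=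
    (Ideal.quotEquivOfEq (by rw [Ideal.ofList_singleton, Ideal.map_span, Set.image_singleton])).trans
      (IsLocalization.ringEquivOfRingEquiv (L ⧸ K.map (algebraMap R L)) (Localization.AtPrime p) e hmap)
  have huP : u ∈ P := by
    show φ u ∈ p
    rw [show φ u = 0 from RingHom.mem_ker.1 (hker ▸ Ideal.mem_span_singleton_self u)]
    exact zero_mem p
  have hx : algebraMap R L u ∈ IsLocalRing.maximalIdeal L := by
    rw [← Localization.AtPrime.map_eq_maximalIdeal]
    exact Ideal.mem_map_of_mem _ huP
  have hrx : IsSMulRegular L (algebraMap R L u) :=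
    (RingTheory.Sequence.isWeaklyRegular_singleton_iff L _).1 (ExtRees.weaklyRegular_u u hreg P)
  refine (cm_quotient_iff hx hrx).symm.trans ⟨fun h => ?_, fun h => ?_⟩
  · exact Catenary.isCohenMacaulayLocalRing_of_ringEquiv (A := L ⧸ Ideal.ofList [algebraMap R L u])
      (B := Localization.AtPrime p) e₂
  · exact Catenary.isCohenMacaulayLocalRing_of_ringEquiv (A := Localization.AtPrime p)
      (B := L ⧸ Ideal.ofList [algebraMap R L u]) e₂.symm

open Polynomial in
/-- Pointwise ascent to the polynomial ring. -/
theorem cm_polynomial_at {R : Type u} [CommRing R] [IsNoetherianRing R] (p : Ideal R[X]) [hp : p.IsPrime]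
    [IsCohenMacaulayLocalRing (Localization.AtPrime (p.comap Polynomial.C))] :
    IsCohenMacaulayLocalRing (Localization.AtPrime p) := by
    let q := p.comap Polynomial.C
    let A := Localization.AtPrime q
    let S := A[X]
    let pc : Submonoid R[X] := q.primeCompl.map (Polynomial.C : R →+* R[X])
    let _ : Algebra R[X] S := Polynomial.algebra R A
    have : IsLocalization pc S := Polynomial.isLocalization _ _
    let pS := p.map (algebraMap R[X] S)
    have disj : Disjoint (pc : Set R[X]) (p : Set R[X]) := by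
      refine Set.disjoint_left.mpr ?_
      rintro _ ⟨b, hb, rfl⟩ hQ
      exact hb hQ
    have : pS.IsPrime := IsLocalization.isPrime_of_isPrime_disjoint pc _ _ hp disj
    have : IsLocalization.AtPrime (Localization.AtPrime pS) p := by
      convert IsLocalization.isLocalization_isLocalization_atPrime_isLocalization pc
        (Localization.AtPrime pS) pS
      exact (IsLocalization.under_map_of_isPrime_disjoint pc _ hp disj).symm
    have hle : IsLocalRing.maximalIdeal A ≤ pS.comap Polynomial.C := by
      rw [← Localization.AtPrime.map_eq_maximalIdeal, Ideal.map_le_iff_le_comap]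
      intro a ha
      change Polynomial.C (algebraMap R A a) ∈ pS
      have : algebraMap R[X] S (Polynomial.C a) ∈ pS := Ideal.mem_map_of_mem _ ha
      rwa [RingHom.algebraMap_toAlgebra, Polynomial.coe_mapRingHom, Polynomial.map_C] at this
    have eq : pS.comap Polynomial.C = IsLocalRing.maximalIdeal A :=
      ((IsLocalRing.maximalIdeal.isMaximal A).eq_of_le (Ideal.comap_ne_top _ Ideal.IsPrime.ne_top') hle).symm
    have := Catenary.cm_localization_polynomial A pS eq
    exact Catenary.isCohenMacaulayLocalRing_of_ringEquiv (A := Localization.AtPrime pS) (B := Localization.AtPrime p)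
      (IsLocalization.algEquiv p.primeCompl (Localization.AtPrime pS) (Localization.AtPrime p)).toRingEquiv

section Laurent

variable {A : Type u} [CommRing A] [IsNoetherianRing A]

theorem cm_laurent_at (Q : Ideal A[T;T⁻¹]) [Q.IsPrime] (q : Ideal A) [q.IsPrime]
    (hq : Q.comap (algebraMap A A[T;T⁻¹]) = q) (h : IsCohenMacaulayLocalRing (Localization.AtPrime q)) :
    IsCohenMacaulayLocalRing (Localization.AtPrime Q) := by
  haveI := IsLocalization.isLocalization_isLocalization_atPrime_isLocalization
    (Submonoid.powers (Polynomial.X : Polynomial A)) (Localization.AtPrime Q) Q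
  let Q' := Q.comap (algebraMap (Polynomial A) A[T;T⁻¹])
  haveI : IsCohenMacaulayLocalRing (Localization.AtPrime (Q'.comap Polynomial.C)) := by
    have hc : Q'.comap Polynomial.C = q := by
      rw [← hq]
      ext a
      simp [Q', LaurentPolynomial.algebraMap_apply, LaurentPolynomial.algebraMap_eq_toLaurent]
    exact Catenary.isCohenMacaulayLocalRing_of_ringEquiv (A := Localization.AtPrime q)
      (B := Localization.AtPrime (Q'.comap Polynomial.C))
      (IsLocalization.ringEquivOfRingEquiv (M := q.primeCompl) (T := (Q'.comap Polynomial.C).primeCompl)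
        (Localization.AtPrime q) (Localization.AtPrime (Q'.comap Polynomial.C)) (RingEquiv.refl A) (by
          ext y; subst hc; simp))
  haveI := cm_polynomial_at Q'
  exact Catenary.isCohenMacaulayLocalRing_of_ringEquiv
    (A := Localization.AtPrime Q') (B := Localization.AtPrime Q)
    (IsLocalization.algEquiv Q'.primeCompl (Localization.AtPrime Q') (Localization.AtPrime Q)).toRingEquiv

theorem cm_laurent_descend (Q : Ideal A[T;T⁻¹]) [Q.IsPrime] (q : Ideal A) [q.IsPrime]
    (hq : Q.comap (algebraMap A A[T;T⁻¹]) = q) (h : IsCohenMacaulayLocalRing (Localization.AtPrime Q)) :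
    IsCohenMacaulayLocalRing (Localization.AtPrime q) := by
  let g := Localization.localRingHom q Q (algebraMap A A[T;T⁻¹]) hq.symm
  letI := g.toAlgebra
  haveI : IsLocalHom (algebraMap (Localization.AtPrime q) (Localization.AtPrime Q)) :=
    Localization.isLocalHom_localRingHom q Q _ hq.symm
  haveI : IsScalarTower A (Localization.AtPrime q) (Localization.AtPrime Q) := .of_algebraMap_eq fun x => by
    rw [RingHom.algebraMap_toAlgebra, Localization.localRingHom_to_map, ← IsScalarTower.algebraMap_apply]
  haveI : Module.Flat A (Localization.AtPrime Q) := Module.Flat.trans A A[T;T⁻¹] _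
  haveI : Module.Flat (Localization.AtPrime q) (Localization.AtPrime Q) :=
    (Module.flat_iff_of_isLocalization (Localization.AtPrime q) q.primeCompl (M := Localization.AtPrime Q)).2
      inferInstance
  haveI := FlatAscent.isLocalRing_fibre (Localization.AtPrime q) (Localization.AtPrime Q)
  exact (cm_of_flat (Localization.AtPrime q) (Localization.AtPrime Q) h).1

end Laurent

variable {A : Type u} [CommRing A] [IsNoetherianRing A] (𝓕 : FiltBl.IdealFiltration A)

noncomputable local instance instAlg : Algebra (↥𝓕.extRees) A[T;T⁻¹] := ExtRees.instAlg 𝓕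

/-- The statement away from the irrelevant ideal. -/
theorem cm_off_iff (hfg : Algebra.FiniteType A 𝓕.rees) (G : Type u) [CommRing G] (φ : 𝓕.extRees →+* G)
    (hφ : Function.Surjective φ) (hker : RingHom.ker φ = Ideal.span {𝓕.u}) (Rp : Ideal 𝓕.extRees)
    (hRp : Rp = Ideal.span {x : 𝓕.extRees | ∃ n : ℕ, 0 < n ∧ ∃ a ∈ 𝓕.F n,
      (x : LaurentPolynomial A) = LaurentPolynomial.C a * LaurentPolynomial.T (n : ℤ)}) :
    (∀ (P : Ideal 𝓕.extRees) [P.IsPrime], ¬ Rp ≤ P →
        LocCoh.IsCohenMacaulayLocalRing (Localization.AtPrime P)) ↔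
      ((∀ (p : Ideal G) [p.IsPrime], ¬ Ideal.map φ Rp ≤ p →
          LocCoh.IsCohenMacaulayLocalRing (Localization.AtPrime p)) ∧
        (∀ (q : Ideal A) [q.IsPrime], ¬ 𝓕.F 1 ≤ q →
            LocCoh.IsCohenMacaulayLocalRing (Localization.AtPrime q))) := by
  haveI := ExtRees.isNoetherianRing_extRees 𝓕 hfg
  haveI := ExtRees.isLocalization 𝓕
  constructor
  · intro h
    refine ⟨fun p _ hp => ?_, fun q _ hq => ?_⟩
    · refine (cm_quot_iff _ (ExtRees.regular_u 𝓕) φ hφ hker p).1 (h _ fun hle => hp ?_)
      exact Ideal.map_le_iff_le_comap.2 hle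
    · let ρ : A[T;T⁻¹] →+* (A ⧸ q)[T;T⁻¹] := AddMonoidAlgebra.mapRingHom ℤ (Ideal.Quotient.mk q)
      haveI : (RingHom.ker ρ).IsPrime := RingHom.ker_isPrime ρ
      have hρ : ∀ (z : A[T;T⁻¹]) (n : ℤ), (ρ z).coeff n = Ideal.Quotient.mk q (z.coeff n) := fun z n => by
        simp [ρ]
      obtain ⟨a, ha, haq⟩ := SetLike.not_le_iff_exists.1 hq
      let x : ↥𝓕.extRees := ⟨C a * T (1 : ℤ), fun k => by
        rw [← LaurentPolynomial.single_eq_C_mul_T, AddMonoidAlgebra.coeff_single, Finsupp.single_apply]
        split_ifs with hk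
        · subst hk; exact ha
        · exact Ideal.zero_mem _⟩
      have hxR : x ∈ Rp := hRp ▸ Ideal.subset_span ⟨1, one_pos, a, ha, rfl⟩
      have hxP : x ∉ (RingHom.ker ρ).comap (algebraMap (↥𝓕.extRees) A[T;T⁻¹]) := fun hx => by
        have h1 := hρ (x : A[T;T⁻¹]) 1
        rw [show ρ (x : A[T;T⁻¹]) = 0 from hx] at h1
        refine haq (Ideal.Quotient.eq_zero_iff_mem.1 ?_)
        simpa [x, ← LaurentPolynomial.single_eq_C_mul_T] using h1.symm
      haveI := h ((RingHom.ker ρ).comap (algebraMap (↥𝓕.extRees) A[T;T⁻¹])) (fun hle => hxP (hle hxR))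
      obtain ⟨e⟩ := ExtRees.nonempty_atPrime_equiv 𝓕.u (RingHom.ker ρ)
      refine cm_laurent_descend (RingHom.ker ρ) q ?_ (Catenary.isCohenMacaulayLocalRing_of_ringEquiv
        (A := Localization.AtPrime ((RingHom.ker ρ).comap (algebraMap (↥𝓕.extRees) A[T;T⁻¹])))
        (B := Localization.AtPrime (RingHom.ker ρ)) e.symm)
      ext b
      rw [Ideal.mem_comap, RingHom.mem_ker]
      constructor
      · intro hb
        have h3 := hρ (algebraMap A A[T;T⁻¹] b) 0
        rw [hb] at h3
        rw [← Ideal.Quotient.eq_zero_iff_mem]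
        simpa using h3.symm
      · intro hb
        refine LaurentPolynomial.ext fun n => ?_
        rw [hρ, LaurentPolynomial.algebraMap_apply, Algebra.algebraMap_self, RingHom.id_apply,
          LaurentPolynomial.C_apply]
        split_ifs with hn
        · rw [Ideal.Quotient.eq_zero_iff_mem.2 hb]; rfl
        · simp
  · rintro ⟨hG, hA⟩ P _ hP
    by_cases hu : 𝓕.u ∈ P
    · haveI : (P.map φ).IsPrime := Ideal.map_isPrime_of_surjective hφ
        (by rw [hker]; exact (Ideal.span_singleton_le_iff_mem _).2 hu)
      have hc : (P.map φ).comap φ = P := by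
        rw [Ideal.comap_map_of_surjective φ hφ, ← RingHom.ker_eq_comap_bot, hker]
        exact sup_eq_left.2 ((Ideal.span_singleton_le_iff_mem _).2 hu)
      have := (cm_quot_iff _ (ExtRees.regular_u 𝓕) φ hφ hker (P.map φ)).2 (hG _ fun hle => hP ?_)
      · exact Catenary.isCohenMacaulayLocalRing_of_ringEquiv (A := Localization.AtPrime ((P.map φ).comap φ))
          (B := Localization.AtPrime P) (IsLocalization.ringEquivOfRingEquiv
            (M := ((P.map φ).comap φ).primeCompl) (T := P.primeCompl) _ _ (RingEquiv.refl _)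
            (by ext y; simp [Ideal.mem_primeCompl_iff, hc]))
      · rw [← hc]
        exact Ideal.map_le_iff_le_comap.1 hle
    obtain ⟨Q, _, rfl⟩ := ExtRees.exists_eq_comap 𝓕.u (L := A[T;T⁻¹]) P hu
    obtain ⟨e⟩ := ExtRees.nonempty_atPrime_equiv 𝓕.u Q
    haveI := cm_laurent_at Q (Q.comap (algebraMap A A[T;T⁻¹])) rfl (hA _ fun hle => hP ?_)
    · exact Catenary.isCohenMacaulayLocalRing_of_ringEquiv (A := Localization.AtPrime Q)
        (B := Localization.AtPrime (Q.comap (algebraMap (↥𝓕.extRees) A[T;T⁻¹]))) e
    · rw [hRp, Ideal.span_le]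
      rintro x ⟨n, hn, a, ha, hx⟩
      show (x : A[T;T⁻¹]) ∈ Q
      rw [hx]
      refine Q.mul_mem_right _ ?_
      exact hle (𝓕.antitone hn ha)

end Groth.Agent.GorLib.ExtReesOff
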