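import Groth.Agent.GorLib.ExtReesOff
import Groth.Agent.FlatSerre.Descent

/-!
Serre's conditions for the extended Rees algebra.
-/

set_option autoImplicit false
set_option linter.style.haveILetI false
universe u

open LaurentPolynomial LocCoh
open scoped Pointwise

namespace Groth.Agent.GorLib.ExtReesSk

open FlatSerre

theorem succ_min_iff {k : ℕ} {d : WithBot ℕ∞} {δ : ℕ∞} (hd : d ≠ ⊥) :
    min ((k + 1 : ℕ) : WithBot ℕ∞) (d + 1) ≤ (((δ + 1 : ℕ∞)) : WithBot ℕ∞) ↔
      min (k : WithBot ℕ∞) d ≤ (δ : WithBot ℕ∞) := by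
  obtain ⟨x, rfl⟩ := WithBot.ne_bot_iff_exists.mp hd
  rw [show ((k + 1 : ℕ) : WithBot ℕ∞) = (((k : ℕ∞) + 1 : ℕ∞) : WithBot ℕ∞) by push_cast; rfl,
    show ((x : WithBot ℕ∞) + 1) = ((x + 1 : ℕ∞) : WithBot ℕ∞) by push_cast; rfl,
    show (k : WithBot ℕ∞) = ((k : ℕ∞) : WithBot ℕ∞) from rfl]
  simp only [min_le_iff, WithBot.coe_le_coe]
  exact or_congr (WithTop.add_le_add_iff_right ENat.one_ne_top) (WithTop.add_le_add_iff_right ENat.one_ne_top)

theorem skLoc_quotient_iff {L : Type u} [CommRing L] [IsLocalRing L] [IsNoetherianRing L] {x : L}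
    [IsLocalRing (L ⧸ Ideal.ofList [x])]
    (hx : x ∈ IsLocalRing.maximalIdeal L) (hrx : IsSMulRegular L x) (k : ℕ) :
    SkLoc k (L ⧸ Ideal.ofList [x]) ↔ SkLoc (k + 1) L := by
  have e := Submodule.quotEquivOfEq (x • (⊤ : Submodule L L)) (Ideal.ofList [x])
    (by rw [Ideal.ofList_singleton, ← Submodule.ideal_span_singleton_smul, smul_eq_mul, Ideal.mul_top])
  have hd : depth (L ⧸ Ideal.ofList [x]) (L ⧸ Ideal.ofList [x]) = depth L (L ⧸ Ideal.ofList [x]) :=
    DepthLib.depth_eq_of_surjective (R := L) (S := L ⧸ Ideal.ofList [x]) (M := L ⧸ Ideal.ofList [x])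
      Ideal.Quotient.mk_surjective
  have h1 : depth L L = depth (L ⧸ Ideal.ofList [x]) (L ⧸ Ideal.ofList [x]) + 1 := by
    rw [hd, ← DepthLib.depth_congr e]
    exact (DepthLib.idealDepth_quotSMulTop_add_one hx hrx).symm
  have hnz : x ∈ nonZeroDivisors L := by
    rw [mem_nonZeroDivisors_iff_right]
    intro a ha
    exact hrx (show x • a = x • 0 by rw [smul_eq_mul, mul_comm, ha, smul_zero])
  have h2 : ringKrullDim L = ringKrullDim (L ⧸ Ideal.ofList [x]) + 1 := by
    rw [ringKrullDim_eq_of_ringEquiv (Ideal.quotEquivOfEq (Ideal.ofList_singleton x))]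
    exact (Module.ringKrullDim_quotient_add_one_of_mem_nonZeroDivisors hnz
      IsLocalRing.maximalIdeal_height_eq_ringKrullDim hx).symm
  unfold SkLoc
  rw [h1, h2, succ_min_iff ringKrullDim_ne_bot]

theorem skLoc_quot_iff {R G : Type u} [CommRing R] [IsNoetherianRing R] [CommRing G] (u : R) (hreg : IsSMulRegular R u)
    (φ : R →+* G) (hφ : Function.Surjective φ) (hker : RingHom.ker φ = Ideal.span {u}) (p : Ideal G) [p.IsPrime]
    (k : ℕ) : SkLoc (k + 1) (Localization.AtPrime (p.comap φ)) ↔ SkLoc k (Localization.AtPrime p) := by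
  let P := p.comap φ
  let L := Localization.AtPrime P
  let K : Ideal R := Ideal.span {u}
  let e : (R ⧸ K) ≃+* G := (Ideal.quotEquivOfEq hker.symm).trans (RingHom.quotientKerEquivOfSurjective hφ)
  have he : ∀ x, e (Ideal.Quotient.mk K x) = φ x := fun x => rfl
  let P' : Ideal (R ⧸ K) := p.comap e.toRingHom
  have hM : Algebra.algebraMapSubmonoid (R ⧸ K) P.primeCompl = P'.primeCompl := by
    ext y
    constructor
    · rintro ⟨x, hx, rfl⟩
      exact fun h => hx (show φ x ∈ p by rw [← he]; exact h)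
    · intro hy
      obtain ⟨x, rfl⟩ := Ideal.Quotient.mk_surjective y
      exact ⟨x, fun h => hy (show e (Ideal.Quotient.mk K x) ∈ p by rw [he]; exact h), rfl⟩
  haveI : IsLocalization.AtPrime (L ⧸ K.map (algebraMap R L)) P' := by
    unfold IsLocalization.AtPrime
    rw [← hM]
    infer_instance
  have hmap : P'.primeCompl.map e.toMonoidHom = p.primeCompl := by
    ext y
    constructor
    · rintro ⟨x, hx, rfl⟩
      exact hx
    · intro hy
      exact ⟨e.symm y, fun h => hy (by simpa [P'] using h), e.apply_symm_apply y⟩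
  let e₂ : (L ⧸ Ideal.ofList [algebraMap R L u]) ≃+* Localization.AtPrime p :=
    (Ideal.quotEquivOfEq (by rw [Ideal.ofList_singleton, Ideal.map_span, Set.image_singleton])).trans
      (IsLocalization.ringEquivOfRingEquiv (L ⧸ K.map (algebraMap R L)) (Localization.AtPrime p) e hmap)
  have huP : u ∈ P := by
    show φ u ∈ p
    rw [show φ u = 0 from RingHom.mem_ker.1 (hker ▸ Ideal.mem_span_singleton_self u)]
    exact zero_mem p
  have hx : algebraMap R L u ∈ IsLocalRing.maximalIdeal L := by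
    rw [← Localization.AtPrime.map_eq_maximalIdeal]
    exact Ideal.mem_map_of_mem _ huP
  have hrx : IsSMulRegular L (algebraMap R L u) :=
    (RingTheory.Sequence.isWeaklyRegular_singleton_iff L _).1 (ExtRees.weaklyRegular_u u hreg P)
  haveI : Nontrivial (L ⧸ Ideal.ofList [algebraMap R L u]) := e₂.toEquiv.nontrivial
  haveI : IsLocalRing (L ⧸ Ideal.ofList [algebraMap R L u]) := .of_surjective' _ Ideal.Quotient.mk_surjective
  exact (skLoc_quotient_iff hx hrx k).symm.trans ⟨fun h => h.congr e₂, fun h => h.congr e₂.symm⟩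

theorem hasSk_quot {R : Type u} [CommRing R] [IsNoetherianRing R] (u : R) (hreg : IsSMulRegular R u) {k : ℕ}
    (h : HasSk (k + 1) R R) : HasSk k (R ⧸ Ideal.span {u}) (R ⧸ Ideal.span {u}) := by
  rw [hasSk_iff_forall_skLoc] at h ⊢
  intro p _
  exact (skLoc_quot_iff u hreg (Ideal.Quotient.mk (Ideal.span {u})) Ideal.Quotient.mk_surjective Ideal.mk_ker p k).1
    (h _)

theorem skLoc_of_quot {R : Type u} [CommRing R] [IsNoetherianRing R] (u : R) (hreg : IsSMulRegular R u) {k : ℕ}
    (h : HasSk k (R ⧸ Ideal.span {u}) (R ⧸ Ideal.span {u})) (P : Ideal R) [P.IsPrime] (hu : u ∈ P) :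
    SkLoc (k + 1) (Localization.AtPrime P) := by
  let φ := Ideal.Quotient.mk (Ideal.span {u})
  haveI : (P.map φ).IsPrime := Ideal.map_isPrime_of_surjective Ideal.Quotient.mk_surjective
    (by rw [Ideal.mk_ker]; exact (Ideal.span_singleton_le_iff_mem _).2 hu)
  have hc : (P.map φ).comap φ = P := by
    rw [Ideal.comap_map_of_surjective φ Ideal.Quotient.mk_surjective, ← RingHom.ker_eq_comap_bot, Ideal.mk_ker]
    exact sup_eq_left.2 ((Ideal.span_singleton_le_iff_mem _).2 hu)
  exact ((skLoc_quot_iff u hreg φ Ideal.Quotient.mk_surjective Ideal.mk_ker (P.map φ) k).2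
    (hasSk_iff_forall_skLoc.1 h _)).congr (IsLocalization.ringEquivOfRingEquiv
        (M := ((P.map φ).comap φ).primeCompl) (T := P.primeCompl) _ _ (RingEquiv.refl _)
        (by ext y; simp [Ideal.mem_primeCompl_iff, hc]))

theorem hasSk_of_cm {k : ℕ} (R : Type u) [CommRing R] [IsCohenMacaulayRing R] : HasSk k R R := by
  rw [hasSk_iff_forall_skLoc]
  intro p _
  haveI := IsCohenMacaulayRing.isCohenMacaulayLocalRing_localization (R := R) p
  unfold SkLoc
  rw [DepthLib.ringKrullDim_eq_depth]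
  exact min_le_right _ _

theorem hasSk_of_isLocalization {R S : Type u} [CommRing R] [CommRing S] [Algebra R S] (M : Submonoid R)
    [IsLocalization M S] {k : ℕ} (h : HasSk k R R) : HasSk k S S := by
  rw [hasSk_iff_forall_skLoc] at h ⊢
  intro Q _
  haveI := IsLocalization.isLocalization_isLocalization_atPrime_isLocalization M (Localization.AtPrime Q) Q
  exact (h (Q.comap (algebraMap R S))).congr
    (IsLocalization.algEquiv (Q.comap (algebraMap R S)).primeCompl
      (Localization.AtPrime (Q.comap (algebraMap R S))) (Localization.AtPrime Q)).toRingEquiv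

variable (A : Type u) [CommRing A] [IsNoetherianRing A]

open Polynomial in
theorem hasSk_polynomial {k : ℕ} (h : HasSk k A A) : HasSk k A[X] A[X] := by
  refine hasSk_of_fibres h fun p _ => ?_
  haveI : IsCohenMacaulayRing p.ResidueField :=
    Catenary.isCohenMacaulayRing_of_isRegularRing _
  haveI := Catenary.isCohenMacaulayRing_polynomial p.ResidueField
  haveI : IsCohenMacaulayRing (p.Fiber A[X]) :=
    Catenary.isCohenMacaulayRing_of_ringEquiv (A := p.ResidueField[X]) (B := p.Fiber A[X])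
      (polyEquivTensor A p.ResidueField).toRingEquiv
  exact hasSk_of_cm _

theorem hasSk_laurent {k : ℕ} (h : HasSk k A A) : HasSk k A[T;T⁻¹] A[T;T⁻¹] :=
  hasSk_of_isLocalization (Submonoid.powers (Polynomial.X : Polynomial A)) (hasSk_polynomial A h)

variable {A} (𝓕 : FiltBl.IdealFiltration A)

noncomputable local instance instAlg : Algebra (↥𝓕.extRees) A[T;T⁻¹] := ExtRees.instAlg 𝓕

/-- `(S_{k+1})` for the extended Rees algebra. -/
theorem hasSk_succ_iff [Nontrivial A] (hfg : Algebra.FiniteType A 𝓕.rees) (k : ℕ) :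
    HasSk (k + 1) 𝓕.extRees 𝓕.extRees ↔ (HasSk k 𝓕.Gr 𝓕.Gr ∧ HasSk (k + 1) A A) := by
  haveI := ExtRees.isNoetherianRing_extRees 𝓕 hfg
  haveI := ExtRees.isLocalization 𝓕
  constructor
  · intro h
    refine ⟨hasSk_quot _ (ExtRees.regular_u 𝓕) h, ?_⟩
    haveI : IsNoetherianRing A[T;T⁻¹] :=
      IsLocalization.isNoetherianRing (Submonoid.powers (Polynomial.X : Polynomial A)) A[T;T⁻¹] inferInstance
    exact hasSk_descend (B := A[T;T⁻¹]) (hasSk_of_isLocalization (S := A[T;T⁻¹]) (Submonoid.powers 𝓕.u) h)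
  · rintro ⟨hG, hA⟩
    rw [hasSk_iff_forall_skLoc]
    intro P _
    by_cases hu : 𝓕.u ∈ P
    · exact skLoc_of_quot _ (ExtRees.regular_u 𝓕) hG P hu
    obtain ⟨Q, _, rfl⟩ := ExtRees.exists_eq_comap 𝓕.u (L := A[T;T⁻¹]) P hu
    obtain ⟨e⟩ := ExtRees.nonempty_atPrime_equiv 𝓕.u Q
    exact (hasSk_iff_forall_skLoc.1 (hasSk_laurent A hA) Q).congr e

end Groth.Agent.GorLib.ExtReesSk
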