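import Groth.Agent.GorLib.ExtRees
import Groth.Agent.UFDLib.Nagata

/-!
Factoriality of the extended Rees algebra.
-/

set_option autoImplicit false
set_option linter.style.haveILetI false
universe u

open LaurentPolynomial

namespace Groth.Agent.GorLib.ExtReesUFD

theorem ufm_of_laurent (A : Type u) [CommRing A] [IsDomain A] [UniqueFactorizationMonoid A[T;T⁻¹]] :
    UniqueFactorizationMonoid A := by
  rw [UniqueFactorizationMonoid.iff_exists_prime_mem_of_isPrime]
  intro p₀ hp₀ hp₀p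
  obtain ⟨a, ha, ha0⟩ := Submodule.exists_mem_ne_zero_of_ne_bot hp₀
  obtain ⟨p, hpmin, hple⟩ := Ideal.exists_minimalPrimes_le (I := Ideal.span {a}) (J := p₀)
    ((Ideal.span_singleton_le_iff_mem _).2 ha)
  haveI hpp : p.IsPrime := hpmin.1.1
  have hap : a ∈ p := hpmin.1.2 (Ideal.mem_span_singleton_self a)
  let ev : A[T;T⁻¹] →+* A := LaurentPolynomial.eval₂ (RingHom.id A) (1 : Aˣ)
  have hev : ∀ c, ev (algebraMap A A[T;T⁻¹] c) = c := fun c => by
    simp [ev, LaurentPolynomial.algebraMap_apply]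
  let ρ : A[T;T⁻¹] →+* (A ⧸ p)[T;T⁻¹] := AddMonoidAlgebra.mapRingHom ℤ (Ideal.Quotient.mk p)
  let P := RingHom.ker ρ
  haveI : P.IsPrime := RingHom.ker_isPrime ρ
  have hρ : ∀ (z : A[T;T⁻¹]) (n : ℤ), (ρ z).coeff n = Ideal.Quotient.mk p (z.coeff n) := fun z n => by
    simp [ρ]
  have hPle : P.comap (algebraMap A A[T;T⁻¹]) ≤ p := fun b hb => by
    have h3 := hρ (algebraMap A A[T;T⁻¹] b) 0
    rw [show ρ (algebraMap A A[T;T⁻¹] b) = 0 from hb] at h3
    rw [← Ideal.Quotient.eq_zero_iff_mem]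
    simpa using h3.symm
  have hmem : ∀ c ∈ p, algebraMap A A[T;T⁻¹] c ∈ P := fun c hc => by
    refine LaurentPolynomial.ext fun n => ?_
    rw [hρ, LaurentPolynomial.algebraMap_apply, Algebra.algebraMap_self, RingHom.id_apply, LaurentPolynomial.C_apply]
    split_ifs with hn
    · rw [Ideal.Quotient.eq_zero_iff_mem.2 hc]; rfl
    · simp
  have hinj : Function.Injective (algebraMap A A[T;T⁻¹]) := fun x y h => by
    have h' := congrArg ev h
    rwa [hev, hev] at h'
  have ha' : algebraMap A A[T;T⁻¹] a ≠ 0 := (map_ne_zero_iff _ hinj).2 ha0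
  obtain ⟨s, hs, hprod⟩ := UniqueFactorizationMonoid.exists_prime_factors _ ha'
  obtain ⟨π, hπs, hπP⟩ : ∃ π ∈ s, π ∈ P := by
    have h1 : s.prod ∈ P := by
      obtain ⟨v, hv⟩ := hprod.symm
      rw [← hv]
      exact P.mul_mem_right _ (hmem a hap)
    exact (‹P.IsPrime›.multiset_prod_mem_iff_exists_mem s).1 h1
  have hπ := hs π hπs
  haveI : (Ideal.span {π}).IsPrime := (Ideal.span_singleton_prime hπ.ne_zero).2 hπ
  have hle : (Ideal.span {π}).comap (algebraMap A A[T;T⁻¹]) ≤ p :=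
    (Ideal.comap_mono ((Ideal.span_singleton_le_iff_mem _).2 hπP)).trans hPle
  have hapi : a ∈ (Ideal.span {π}).comap (algebraMap A A[T;T⁻¹]) :=
    Ideal.mem_span_singleton.2 ((Multiset.dvd_prod hπs).trans hprod.dvd)
  have heq : p ≤ (Ideal.span {π}).comap (algebraMap A A[T;T⁻¹]) :=
    hpmin.2 ⟨inferInstance, (Ideal.span_singleton_le_iff_mem _).2 hapi⟩ hle
  have hpev : p = Ideal.span {ev π} := by
    refine le_antisymm (fun c hc => ?_) ((Ideal.span_singleton_le_iff_mem _).2 ?_)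
    · obtain ⟨d, hd⟩ := Ideal.mem_span_singleton'.1 (heq hc)
      refine Ideal.mem_span_singleton'.2 ⟨ev d, ?_⟩
      rw [← map_mul, hd, hev]
    · have h0 : ∀ n, π.coeff n ∈ p := fun n => by
        rw [← Ideal.Quotient.eq_zero_iff_mem, ← hρ, show ρ π = 0 from hπP]
        simp
      rw [← AddMonoidAlgebra.sum_coeff_single π, Finsupp.sum, map_sum]
      refine sum_mem fun n _ => ?_
      rw [LaurentPolynomial.single_eq_C_mul_T, map_mul]
      refine p.mul_mem_right _ ?_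
      simpa [ev] using h0 n
  have hne : ev π ≠ 0 := fun h => ha0 (by
    have := hap
    rwa [hpev, h, Ideal.span_singleton_eq_bot.2 rfl, Ideal.mem_bot] at this)
  exact ⟨ev π, hple (hpev ▸ Ideal.mem_span_singleton_self _), (Ideal.span_singleton_prime hne).1 (hpev ▸ hpp)⟩

theorem exists_monomial_of_mul_eq_T {A : Type u} [CommRing A] [IsDomain A] {x y : A[T;T⁻¹]} {k : ℤ}
    (h : x * y = T k) : ∃ (a : A) (n : ℤ), IsUnit a ∧ x = C a * T n := by
  obtain ⟨N, f, hf⟩ := LaurentPolynomial.exists_T_pow x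
  obtain ⟨M, g, hg⟩ := LaurentPolynomial.exists_T_pow (y * T (-k))
  have hfg : f * g = Polynomial.X ^ (N + M) := by
    refine Polynomial.toLaurent_injective ?_
    rw [map_mul, hf, hg, Polynomial.toLaurent_X_pow,
      show x * T (N : ℤ) * (y * T (-k) * T (M : ℤ)) = (x * y) * (T (N : ℤ) * T (-k) * T (M : ℤ)) by ring, h, ← T_add,
      ← T_add, ← T_add]
    congr 1
    push_cast
    ring
  obtain ⟨i, -, hi⟩ := (dvd_prime_pow Polynomial.prime_X _).1 (Dvd.intro g hfg)
  obtain ⟨v, hv⟩ := hi.symm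
  obtain ⟨a, ha, hav⟩ := Polynomial.isUnit_iff.1 v.isUnit
  refine ⟨a, (i : ℤ) - N, ha, ?_⟩
  rw [← hav] at hv
  have := hf
  rw [← hv, map_mul, Polynomial.toLaurent_X_pow, Polynomial.toLaurent_C] at this
  have h2 := congrArg (· * T (-(N : ℤ))) this
  simp only [mul_T_assoc, mul_assoc, ← T_add, add_neg_cancel, T_zero, mul_one] at h2
  rw [← h2, mul_left_comm, ← T_add, sub_eq_add_neg]

variable {A : Type u} [CommRing A] [IsDomain A] [IsNoetherianRing A] [IsLocalRing A]
  (𝓕 : FiltBl.IdealFiltration A)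

noncomputable local instance instAlg : Algebra (↥𝓕.extRees) A[T;T⁻¹] := ExtRees.instAlg 𝓕

theorem irreducible_u (hsep : ⨅ n, 𝓕.F n = ⊥) : Irreducible (𝓕.u) := by
  have hF : ∀ n, 𝓕.F n = ⊤ → n = 0 := fun n hn => by
    by_contra h0
    exact (IsLocalRing.maximalIdeal.isMaximal A).ne_top (top_le_iff.1
      (hn ▸ (𝓕.antitone (Nat.one_le_iff_ne_zero.2 h0)).trans (ExtRees.F_one_le 𝓕 hsep)))
  refine ⟨fun hu => ?_, fun x y hxy => ?_⟩
  · obtain ⟨v, hv⟩ := hu.exists_right_inv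
    have h1 : (T (-1) : A[T;T⁻¹]) * (v : A[T;T⁻¹]) = 1 := congrArg Subtype.val hv
    have h2 : (v : A[T;T⁻¹]) = T 1 := by
      have := congrArg (T 1 * ·) h1
      simpa [← mul_assoc, ← T_add] using this
    have h3 := v.2 1
    rw [h2, LaurentPolynomial.T_apply, if_pos rfl] at h3
    exact one_ne_zero (hF 1 ((Ideal.eq_top_iff_one _).2 h3))
  have h : (x : A[T;T⁻¹]) * (y : A[T;T⁻¹]) = T (-1) := (congrArg Subtype.val hxy).symm
  obtain ⟨a, n, ha, hx⟩ := exists_monomial_of_mul_eq_T h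
  obtain ⟨b, m, hb, hy⟩ := exists_monomial_of_mul_eq_T (show (y : A[T;T⁻¹]) * (x : A[T;T⁻¹]) = _ by rw [mul_comm, h])
  have hdeg : ∀ (z : ↥𝓕.extRees) (c : A) (j : ℤ), IsUnit c → (z : A[T;T⁻¹]) = C c * T j → j.toNat = 0 :=
    fun z c j hc hz => by
    have h4 := z.2 j
    rw [hz, ← LaurentPolynomial.single_eq_C_mul_T, AddMonoidAlgebra.coeff_single, Finsupp.single_eq_same] at h4
    exact hF _ (Ideal.eq_top_of_isUnit_mem _ h4 hc)
  have hn := hdeg x a n ha hx
  have hm := hdeg y b m hb hy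
  have hnm : n + m = -1 := by
    have h5 := h
    rw [hx, hy, show (C a * T n) * (C b * T m) = C (a * b) * T (n + m) by rw [map_mul, T_add]; ring] at h5
    have h6 := congrArg (fun z : A[T;T⁻¹] => z.coeff (n + m)) h5
    simp only [← LaurentPolynomial.single_eq_C_mul_T, AddMonoidAlgebra.coeff_single, Finsupp.single_eq_same,
      LaurentPolynomial.T_apply] at h6
    by_contra hne
    rw [if_neg (Ne.symm hne)] at h6
    exact (ha.mul hb).ne_zero h6
  have hunit : ∀ (z : ↥𝓕.extRees) (c : A), IsUnit c → (z : A[T;T⁻¹]) = C c * T 0 → IsUnit z := fun z c hc hz => by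
    have : z = algebraMap A _ c := Subtype.ext (by rw [hz, T_zero, mul_one]; rfl)
    exact this ▸ hc.map _
  rcases eq_or_ne n 0 with h0 | h0
  · exact Or.inl (hunit x a ha (by rw [hx, h0]))
  · exact Or.inr (hunit y b hb (by rw [hy, show m = 0 by omega]))

theorem ufm_iff [IsDomain 𝓕.extRees] (hsep : ⨅ n, 𝓕.F n = ⊥) (hfg : Algebra.FiniteType A 𝓕.rees) :
    UniqueFactorizationMonoid 𝓕.extRees ↔ (UniqueFactorizationMonoid A ∧ IsDomain 𝓕.Gr) := by
  haveI := ExtRees.isNoetherianRing_extRees 𝓕 hfg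
  haveI := ExtRees.isLocalization 𝓕
  have hu0 : (𝓕.u) ≠ 0 := (irreducible_u 𝓕 hsep).ne_zero
  constructor
  · intro h
    haveI : UniqueFactorizationMonoid A[T;T⁻¹] :=
      UFDLib.ufm_of_isLocalization (Submonoid.powers 𝓕.u) A[T;T⁻¹] (fun x y e => Subtype.ext e)
    refine ⟨ufm_of_laurent A, ?_⟩
    have hp : Prime (𝓕.u) := UniqueFactorizationMonoid.irreducible_iff_prime.1 (irreducible_u 𝓕 hsep)
    haveI := (Ideal.span_singleton_prime hu0).2 hp
    exact Ideal.Quotient.isDomain _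
  · rintro ⟨hA, hG⟩
    haveI : UniqueFactorizationMonoid A[T;T⁻¹] :=
      UFDLib.ufm_of_isLocalization (Submonoid.powers (Polynomial.X : Polynomial A)) A[T;T⁻¹]
        Polynomial.toLaurent_injective
    have hp : Prime (𝓕.u) := (Ideal.span_singleton_prime hu0).1 ((Ideal.Quotient.isDomain_iff_prime _).1 hG)
    exact UFDLib.ufm_of_away hp A[T;T⁻¹]

end Groth.Agent.GorLib.ExtReesUFD
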