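import Groth.Agent.GorLib.Artin
import Groth.Agent.GorLib.Rees
import Groth.Agent.SegreOne.Socle
import Groth.Agent.FlatSerre.Basic
import Groth.Agent.FlatSerre.Comp
import Groth.Agent.DepthLib.CohenMacaulay
import Groth.Agent.DepthLib.CMModule
import Mathlib

/-!
# The Gorenstein property along flat local homomorphisms
-/

universe u

open IsLocalRing RingTheory.Sequence TensorProduct

namespace Groth.Agent.GorLib

theorem isLocalRing_quotient {A : Type u} [CommRing A] [IsLocalRing A] {I : Ideal A} (hI : I ≤ maximalIdeal A) :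
    IsLocalRing (A ⧸ I) :=
  haveI : Nontrivial (A ⧸ I) := Ideal.Quotient.nontrivial_iff.2
    (ne_top_of_le_ne_top (maximalIdeal.isMaximal A).ne_top hI)
  IsLocalRing.of_surjective' (Ideal.Quotient.mk _) Ideal.Quotient.mk_surjective

theorem ofList_le {A : Type u} [CommRing A] {I : Ideal A} {rs : List A} (h : ∀ r ∈ rs, r ∈ I) :
    Ideal.ofList rs ≤ I := Ideal.span_le.2 h

theorem gorenstein_iff_of_ringEquiv {A B : Type u} [CommRing A] [CommRing B] (e : A ≃+* B) :
    LocCoh.IsGorensteinLocalRing A ↔ LocCoh.IsGorensteinLocalRing B :=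
  ⟨fun _ => SegreOne.isGorensteinLocalRing_of_ringEquiv e,
    fun _ => SegreOne.isGorensteinLocalRing_of_ringEquiv e.symm⟩

/-- Gorenstein passes to and from quotients by regular sequences. -/
theorem isGorensteinLocalRing_quotient_ofList_iff : ∀ (n : ℕ) {A : Type u} [CommRing A] [IsLocalRing A]
    [IsNoetherianRing A] (rs : List A), rs.length = n → IsWeaklyRegular A rs → (∀ r ∈ rs, r ∈ maximalIdeal A) →
    (LocCoh.IsGorensteinLocalRing A ↔ LocCoh.IsGorensteinLocalRing (A ⧸ Ideal.ofList rs))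
  | 0, A, _, _, _, rs, hl, _, _ => by
    obtain rfl := List.eq_nil_of_length_eq_zero hl
    exact gorenstein_iff_of_ringEquiv ((RingEquiv.quotientBot A).symm.trans
      (Ideal.quotEquivOfEq Ideal.ofList_nil.symm))
  | n + 1, A, _, _, _, [], hl, _, _ => by simp at hl
  | n + 1, A, _, _, _, r :: rs, hl, hreg, hm => by
    rw [isWeaklyRegular_cons_iff] at hreg
    have hrm : r ∈ maximalIdeal A := hm r List.mem_cons_self
    haveI := isLocalRing_quotient ((Ideal.span_singleton_le_iff_mem _).2 hrm)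
    let q := Ideal.Quotient.mk (Ideal.span {r})
    have hreg' : IsWeaklyRegular (A ⧸ Ideal.span {r}) (rs.map q) := by
      refine (isWeaklyRegular_map_algebraMap_iff (R := A) (S := A ⧸ Ideal.span {r}) (A ⧸ Ideal.span {r}) rs).2 ?_
      exact ((Submodule.quotEquivOfEq _ (Ideal.span {r})
        (by rw [← Submodule.ideal_span_singleton_smul, smul_eq_mul, Ideal.mul_top])).isWeaklyRegular_congr rs).1 hreg.2
    have hm' : ∀ x ∈ rs.map q, x ∈ maximalIdeal (A ⧸ Ideal.span {r}) := by
      intro x hx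
      obtain ⟨y, hy, rfl⟩ := List.mem_map.1 hx
      rw [← IsLocalRing.map_maximalIdeal_of_surjective q Ideal.Quotient.mk_surjective]
      exact Ideal.mem_map_of_mem _ (hm y (List.mem_cons_of_mem _ hy))
    rw [isGorensteinLocalRing_quotient_iff hrm hreg.1,
      isGorensteinLocalRing_quotient_ofList_iff n (rs.map q) (by simpa using hl) hreg' hm']
    exact gorenstein_iff_of_ringEquiv
      ((Ideal.quotEquivOfEq (Ideal.map_ofList q rs).symm).trans
        ((DoubleQuot.quotQuotEquivQuotSup (Ideal.span {r}) (Ideal.ofList rs)).trans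
          (Ideal.quotEquivOfEq (Ideal.ofList_cons r rs).symm)))

/-- A maximal regular sequence cuts a Cohen-Macaulay local ring down to dimension zero. -/
theorem exists_regular_artinian {A : Type u} [CommRing A] [IsLocalRing A] [IsNoetherianRing A]
    (hA : LocCoh.IsCohenMacaulayLocalRing A) :
    ∃ rs : List A, IsWeaklyRegular A rs ∧ (∀ r ∈ rs, r ∈ maximalIdeal A) ∧ IsArtinianRing (A ⧸ Ideal.ofList rs) := by
  obtain ⟨d, hd⟩ := DepthLib.exists_nat_depth (R := A) A
  obtain ⟨rs, hlen, hreg, hm⟩ := DepthLib.natCast_le_depth_iff.mp hd.ge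
  refine ⟨rs, hreg, hm, ?_⟩
  haveI := isLocalRing_quotient (ofList_le hm)
  have h1 := ringKrullDim_add_length_eq_ringKrullDim_of_isRegular rs
    ((IsLocalRing.isRegular_iff_isWeaklyRegular_of_subset_maximalIdeal hm).2 hreg)
  have h2 := DepthLib.isCohenMacaulayLocalRing_iff.1 hA
  rw [hlen] at h1
  rw [hd] at h2
  rw [← h1] at h2
  have h3 : ringKrullDim (A ⧸ Ideal.ofList rs) ≤ 0 := by
    obtain ⟨a, ha⟩ := WithBot.ne_bot_iff_exists.1 (ringKrullDim_ne_bot (R := A ⧸ Ideal.ofList rs))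
    rw [← ha] at h2 ⊢
    change ((a + d : ℕ∞) : WithBot ℕ∞) ≤ ((d : ℕ∞) : WithBot ℕ∞) at h2
    rw [WithBot.coe_le_coe] at h2
    induction a using ENat.recTopCoe with
    | top => simp at h2
    | coe m =>
      have : m = 0 := by
        norm_cast at h2
        omega
      subst this
      rfl
  haveI : Ring.KrullDimLE 0 (A ⧸ Ideal.ofList rs) := Ring.krullDimLE_iff.2 h3
  exact isArtinianRing_iff_krullDimLE_zero.2 inferInstance

theorem withBot_split {a b : ℕ∞} {r f : ℕ∞} (h : a + b ≤ r + f) (h1 : r ≤ a) (h2 : f ≤ b)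
    (ha : a ≠ ⊤) (hb : b ≠ ⊤) : a ≤ r ∧ b ≤ f := by
  lift a to ℕ using ha
  lift b to ℕ using hb
  lift r to ℕ using ne_top_of_le_ne_top (ENat.coe_ne_top a) h1
  lift f to ℕ using ne_top_of_le_ne_top (ENat.coe_ne_top b) h2
  norm_cast at *
  omega

variable (R S : Type u) [CommRing R] [CommRing S] [IsLocalRing R] [IsLocalRing S]
  [IsNoetherianRing R] [IsNoetherianRing S] [Algebra R S] [IsLocalHom (algebraMap R S)]
  [Module.Flat R S]

/-- Cohen-Macaulay descends to the base and to the closed fibre. -/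
theorem cm_of_flat [IsLocalRing (FlatAscent.Fib R S)] (hS : LocCoh.IsCohenMacaulayLocalRing S) :
    LocCoh.IsCohenMacaulayLocalRing R ∧ LocCoh.IsCohenMacaulayLocalRing (FlatAscent.Fib R S) := by
  have h := DepthLib.isCohenMacaulayLocalRing_iff.1 hS
  rw [FlatAscent.ringKrullDim_eq_add R S, FlatSerre.depth_self_eq_add R S] at h
  have key : ∀ (T : Type u) [CommRing T] [IsLocalRing T] [IsNoetherianRing T],
      ∃ a : ℕ∞, a ≠ ⊤ ∧ ringKrullDim T = a ∧ LocCoh.depth T T ≤ a := fun T _ _ _ => by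
    obtain ⟨a, ha⟩ := WithBot.ne_bot_iff_exists.1 (ringKrullDim_ne_bot (R := T))
    refine ⟨a, fun h => (ringKrullDim_lt_top (R := T)).ne (by rw [← ha, h]; rfl), ha.symm, ?_⟩
    have h1 := DepthLib.depth_le_supportDim (R := T) (M := T)
    rw [Module.supportDim_self_eq_ringKrullDim, ← ha] at h1
    exact WithBot.coe_le_coe.1 h1
  obtain ⟨a, ha, ea, hla⟩ := key R
  obtain ⟨b, hb, eb, hlb⟩ := key (FlatAscent.Fib R S)
  rw [ea, eb] at h
  have h' : a + b ≤ LocCoh.depth R R + LocCoh.depth (FlatAscent.Fib R S) (FlatAscent.Fib R S) :=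
    WithBot.coe_le_coe.1 h
  obtain ⟨p, q⟩ := withBot_split h' hla hlb ha hb
  rw [DepthLib.isCohenMacaulayLocalRing_iff, DepthLib.isCohenMacaulayLocalRing_iff, ea, eb]
  exact ⟨WithBot.coe_le_coe.2 p, WithBot.coe_le_coe.2 q⟩

/-- The Artinian case. -/
theorem gorenstein_iff_artinian [IsArtinianRing R] [IsArtinianRing S] :
    LocCoh.IsGorensteinLocalRing S ↔
      (LocCoh.IsGorensteinLocalRing R ∧ LocCoh.IsGorensteinLocalRing (FlatAscent.Fib R S)) := by
  haveI := FlatAscent.isLocalRing_fibre R S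
  haveI : IsArtinianRing (FlatAscent.Fib R S) := Ideal.Quotient.mk_surjective.isArtinianRing
  constructor
  · intro h
    exact ⟨gorenstein_of_socleCyclic (socleCyclic_base (socleCyclic_of_gorenstein (A := S))),
      gorenstein_of_socleCyclic (socleCyclic_fibre (R := R) (socleCyclic_of_gorenstein (A := S)))⟩
  · rintro ⟨h1, h2⟩
    exact gorenstein_of_socleCyclic (socleCyclic_of_base_fibre (socleCyclic_of_gorenstein (A := R))
      (socleCyclic_of_gorenstein (A := FlatAscent.Fib R S)))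

/-- A flat local extension is Gorenstein iff the base and the closed fibre are. -/
theorem gorenstein_iff_of_flat :
    LocCoh.IsGorensteinLocalRing S ↔
      (LocCoh.IsGorensteinLocalRing R ∧ LocCoh.IsGorensteinLocalRing (FlatAscent.Fib R S)) := by
  haveI := FlatAscent.isLocalRing_fibre R S
  let F := FlatAscent.Fib R S
  suffices H : LocCoh.IsCohenMacaulayLocalRing R → LocCoh.IsCohenMacaulayLocalRing F →
      (LocCoh.IsGorensteinLocalRing S ↔ (LocCoh.IsGorensteinLocalRing R ∧ LocCoh.IsGorensteinLocalRing F)) by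
    constructor
    · intro h
      obtain ⟨d, hd⟩ := DepthLib.exists_nat_depth (R := S) S
      obtain ⟨h1, h2⟩ := cm_of_flat R S (isCohenMacaulayLocalRing d S hd)
      exact (H h1 h2).1 h
    · rintro ⟨h1, h2⟩
      obtain ⟨d, hd⟩ := DepthLib.exists_nat_depth (R := R) R
      obtain ⟨e, he⟩ := DepthLib.exists_nat_depth (R := F) F
      exact (H (isCohenMacaulayLocalRing d R hd) (isCohenMacaulayLocalRing e F he)).2 ⟨h1, h2⟩
  intro hR hF
  obtain ⟨rs, hrs, hrm, hrA⟩ := exists_regular_artinian hR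
  obtain ⟨fs', hfs', hfm', hfA⟩ := exists_regular_artinian hF
  let π := Ideal.Quotient.mk ((maximalIdeal R).map (algebraMap R S))
  obtain ⟨fs, rfl⟩ : ∃ fs : List S, fs.map π = fs' :=
    ⟨fs'.map (Function.surjInv Ideal.Quotient.mk_surjective), by
      rw [List.map_map]
      exact (List.map_congr_left fun x _ => Function.surjInv_eq Ideal.Quotient.mk_surjective x).trans
        (List.map_id _)⟩
  have hfm : ∀ f ∈ fs, f ∈ maximalIdeal S := fun f hf => by
    by_contra hnu
    exact (maximalIdeal.isMaximal F).ne_top (Ideal.eq_top_of_isUnit_mem _ (hfm' _ (List.mem_map.2 ⟨f, hf, rfl⟩))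
      ((IsLocalRing.notMem_maximalIdeal.1 hnu).map π))
  have hfibre : IsWeaklyRegular (S ⊗[R] (R ⧸ maximalIdeal R)) fs := by
    refine (FlatDepthFormula.isWeaklyRegular_fibre_iff S fs).mpr ?_
    refine ((Submodule.quotEquivOfEq _ ((maximalIdeal R).map (algebraMap R S))
      (by rw [smul_eq_mul, Ideal.mul_top])).isWeaklyRegular_congr fs).mpr ?_
    exact (isWeaklyRegular_map_algebraMap_iff (R := S) (S := F) F fs).1 hfs'
  have hfsreg : IsWeaklyRegular S fs := FlatDepthFormula.isWeaklyRegular_self (A := R) fs hfibre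
  let S₁ := S ⧸ Ideal.ofList fs
  haveI : IsLocalRing S₁ := isLocalRing_quotient (ofList_le hfm)
  haveI : Module.Flat R S₁ := by
    have h := (FlatDepthFormula.main (A := R) (M := S) fs hfibre).1 fs.length le_rfl
    rw [List.take_length] at h
    exact Module.Flat.of_linearEquiv ((Submodule.quotEquivOfEq (Ideal.ofList fs • (⊤ : Submodule S S))
      (Ideal.ofList fs) (by rw [smul_eq_mul, Ideal.mul_top])).restrictScalars R).symm
  haveI : IsLocalHom (algebraMap R S₁) := by
    refine ⟨fun a ha => ?_⟩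
    by_contra hnu
    exact (maximalIdeal.isMaximal S₁).ne_top (Ideal.eq_top_of_isUnit_mem _
      (show algebraMap R S₁ a ∈ maximalIdeal S₁ by
        rw [← IsLocalRing.map_maximalIdeal_of_surjective (Ideal.Quotient.mk (Ideal.ofList fs))
          Ideal.Quotient.mk_surjective]
        exact Ideal.mem_map_of_mem _ (map_nonunit (algebraMap R S) a hnu)) ha)
  let J : Ideal R := Ideal.ofList rs
  let J₁ : Ideal S₁ := J.map (algebraMap R S₁)
  haveI : IsLocalRing (R ⧸ J) := isLocalRing_quotient (ofList_le hrm)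
  have hJ₁ : J₁ ≤ maximalIdeal S₁ :=
    (Ideal.map_mono (ofList_le hrm)).trans (FlatAscent.map_le R S₁)
  haveI : IsLocalRing (S₁ ⧸ J₁) := isLocalRing_quotient hJ₁
  letI : Algebra (R ⧸ J) (S₁ ⧸ J₁) := (Ideal.quotientMap J₁ (algebraMap R S₁) Ideal.le_comap_map).toAlgebra
  haveI : IsScalarTower R (R ⧸ J) (S₁ ⧸ J₁) := IsScalarTower.of_algebraMap_eq fun _ => rfl
  haveI : Module.Flat (R ⧸ J) (S₁ ⧸ J₁) := FlatSerre.flat_quotient_map J
  haveI : IsLocalHom (algebraMap (R ⧸ J) (S₁ ⧸ J₁)) := by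
    refine ⟨fun a ha => ?_⟩
    obtain ⟨a, rfl⟩ := Ideal.Quotient.mk_surjective a
    refine IsUnit.map _ ?_
    by_contra hnu
    exact (maximalIdeal.isMaximal (S₁ ⧸ J₁)).ne_top (Ideal.eq_top_of_isUnit_mem _
      (show algebraMap (R ⧸ J) (S₁ ⧸ J₁) (Ideal.Quotient.mk J a) ∈ maximalIdeal (S₁ ⧸ J₁) by
        rw [← IsLocalRing.map_maximalIdeal_of_surjective (Ideal.Quotient.mk J₁) Ideal.Quotient.mk_surjective]
        exact Ideal.mem_map_of_mem _ (map_nonunit (algebraMap R S₁) a hnu)) ha)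
  haveI := FlatAscent.isLocalRing_fibre (R ⧸ J) (S₁ ⧸ J₁)
  have e : FlatAscent.Fib (R ⧸ J) (S₁ ⧸ J₁) ≃+* F ⧸ Ideal.ofList (fs.map π) := by
    have hmap : (maximalIdeal (R ⧸ J)).map (algebraMap (R ⧸ J) (S₁ ⧸ J₁)) =
        ((maximalIdeal R).map (algebraMap R S)).map ((Ideal.Quotient.mk J₁).comp (Ideal.Quotient.mk (Ideal.ofList fs))) := by
      rw [← IsLocalRing.map_maximalIdeal_of_surjective (Ideal.Quotient.mk J) Ideal.Quotient.mk_surjective,
        Ideal.map_map, Ideal.map_map]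
      rfl
    refine (Ideal.quotEquivOfEq hmap).trans ((Ideal.quotEquivOfEq (Ideal.map_map _ _).symm).trans
      ((DoubleQuot.quotQuotEquivQuotSup J₁ _).trans ?_))
    refine (Ideal.quotEquivOfEq (sup_eq_right.2 ?_)).trans ((DoubleQuot.quotQuotEquivQuotSup _ _).trans
      ((Ideal.quotEquivOfEq (sup_comm _ _)).trans ((DoubleQuot.quotQuotEquivQuotSup _ _).symm.trans
        (Ideal.quotEquivOfEq (Ideal.map_ofList _ fs)))))
    rw [Ideal.map_map]
    exact Ideal.map_mono (ofList_le hrm)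
  haveI : IsArtinianRing (FlatAscent.Fib (R ⧸ J) (S₁ ⧸ J₁)) := e.symm.surjective.isArtinianRing (f := e.symm.toRingHom)
  haveI : IsArtinianRing (S₁ ⧸ J₁) := by
    have hz : ∀ (T : Type u) [CommRing T] [IsLocalRing T] [IsArtinianRing T], ringKrullDim T = 0 :=
      fun T _ _ _ => ringKrullDimZero_iff_ringKrullDim_eq_zero.1 inferInstance
    have hdim := FlatAscent.ringKrullDim_eq_add (R ⧸ J) (S₁ ⧸ J₁)
    rw [hz (R ⧸ J), hz (FlatAscent.Fib (R ⧸ J) (S₁ ⧸ J₁)), zero_add] at hdim
    haveI : Ring.KrullDimLE 0 (S₁ ⧸ J₁) := Ring.krullDimLE_iff.2 hdim.le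
    exact isArtinianRing_iff_krullDimLE_zero.2 inferInstance
  have hrs₁ : IsWeaklyRegular S₁ (rs.map (algebraMap R S₁)) := hrs.of_flat
  have hrm₁ : ∀ r ∈ rs.map (algebraMap R S₁), r ∈ maximalIdeal S₁ := fun r hr => by
    obtain ⟨a, ha, rfl⟩ := List.mem_map.1 hr
    exact map_nonunit (algebraMap R S₁) a (hrm a ha)
  rw [isGorensteinLocalRing_quotient_ofList_iff _ fs rfl hfsreg hfm,
    isGorensteinLocalRing_quotient_ofList_iff _ _ rfl hrs₁ hrm₁,
    gorenstein_iff_of_ringEquiv (Ideal.quotEquivOfEq (Ideal.map_ofList (algebraMap R S₁) rs).symm),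
    gorenstein_iff_artinian (R ⧸ J) (S₁ ⧸ J₁),
    isGorensteinLocalRing_quotient_ofList_iff _ rs rfl hrs hrm,
    isGorensteinLocalRing_quotient_ofList_iff _ _ rfl hfs' hfm', gorenstein_iff_of_ringEquiv e]

end Groth.Agent.GorLib
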