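import Groth.Agent.CanonMod.RegularSeq
import Groth.Agent.CanonMod.InjDim
import Groth.Agent.LocCohLib.DualityGor
import Groth.Agent.DepthLib.CMPoly
import Groth.Agent.DepthLib.RegularLocal
import Groth.Agent.DepthLib.Ext
import Groth.Agent.GorLib.InjDim

/-!
Linkage in a Gorenstein local ring: the residual of a maximal Cohen–Macaulay quotient is maximal
Cohen–Macaulay.
-/

set_option autoImplicit false
set_option linter.style.haveILetI false
set_option linter.unusedVariables false
universe u

open CategoryTheory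
open CategoryTheory.Abelian (Ext)
open LocCoh
open scoped Pointwise

namespace Groth.Agent.GorLib

variable {A : Type u} [CommRing A]

theorem depth_quotient_self [IsLocalRing A] (I : Ideal A) [IsLocalRing (A ⧸ I)] :
    depth A (A ⧸ I) = depth (A ⧸ I) (A ⧸ I) :=
  (DepthLib.depth_eq_of_surjective (R := A) (S := A ⧸ I) (M := A ⧸ I) Ideal.Quotient.mk_surjective).symm

theorem isCohenMacaulayLocalRing_quotient_of_module [IsLocalRing A] [IsNoetherianRing A] {I : Ideal A}
    (h : IsCohenMacaulayModule A (A ⧸ I)) : IsCohenMacaulayLocalRing (A ⧸ I) := by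
  haveI := DepthLib.nontrivial_of_isCohenMacaulayModule h
  haveI : IsLocalRing (A ⧸ I) := .of_surjective' (Ideal.Quotient.mk I) Ideal.Quotient.mk_surjective
  rw [DepthLib.isCohenMacaulayLocalRing_iff, ← Module.supportDim_quotient_eq_ringKrullDim, h, depth_quotient_self]

section

variable [IsGorensteinLocalRing A] {d : ℕ}

/-- Maps from an ideal with maximal Cohen–Macaulay quotient extend to the ring. -/
theorem exists_smul_subtype (hd : ringKrullDim A = d) {I : Ideal A}
    [IsCohenMacaulayLocalRing (A ⧸ I)] (hI : ringKrullDim (A ⧸ I) = d) :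
    ∀ φ : I →ₗ[A] A, ∃ a : A, LinearMap.toSpanSingleton A _ I.subtype a = φ := by
  have hdA : depth A A = d := GorLib.depth_eq_dim hd
  haveI := GorLib.isCohenMacaulayLocalRing d A hdA
  have hdQ : (d : ℕ∞) ≤ depth A (A ⧸ I) := by
    rw [depth_quotient_self I]
    refine WithBot.coe_le_coe.1 ?_
    rw [← DepthLib.ringKrullDim_eq_depth, hI]
    rfl
  have hexact : Function.Exact I.subtype (Submodule.mkQ I) := LinearMap.exact_subtype_mkQ I
  obtain ⟨f, hf⟩ := LocCohLib.Gor.exists_injectiveHull_H_top hdA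
  intro φ
  suffices h : ∃ ψ : A →ₗ[A] A, ψ ∘ₗ I.subtype = φ by
    obtain ⟨ψ, rfl⟩ := h
    refine ⟨ψ 1, LinearMap.ext fun x => ?_⟩
    show ψ 1 • (x : A) = ψ x
    rw [smul_eq_mul, mul_comm, ← smul_eq_mul, ← map_smul, smul_eq_mul, mul_one]
  cases d with
  | zero =>
    haveI := GorLib.injective_of_depth_eq_zero (by rw [hdA]; rfl : depth A A = 0)
    obtain ⟨ψ, hψ⟩ := Module.Injective.out (R := A) (Q := A) I.subtype Subtype.val_injective φ
    exact ⟨ψ, LinearMap.ext hψ⟩
  | succ m =>
    let C : ShortComplex (ModuleCat.{u} A) :=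
      ShortComplex.mk (X₁ := ModuleCat.of A I) (X₂ := ModuleCat.of A A) (X₃ := ModuleCat.of A (A ⧸ I))
        (ModuleCat.ofHom I.subtype) (ModuleCat.ofHom (Submodule.mkQ I))
        (ModuleCat.hom_ext (LinearMap.ext fun x => (Submodule.Quotient.mk_eq_zero _).2 x.2))
    have hC : C.ShortExact :=
      { exact := (ShortComplex.ShortExact.moduleCat_exact_iff_function_exact _).2 hexact
        mono_f := (ModuleCat.mono_iff_injective _).2 Subtype.val_injective
        epi_g := (ModuleCat.epi_iff_surjective _).2 (Submodule.mkQ_surjective I) }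
    haveI : Subsingleton (Ext C.X₃ (ModuleCat.of A A) 1) := by
      obtain ⟨e⟩ := LocCohLib.Gor.nonempty_duality hd 1 m rfl (ModuleCat.of A (A ⧸ I))
      haveI := (LocCohLib.natCast_le_idealDepth_iff_vanishing (IsLocalRing.maximalIdeal A) (A ⧸ I) (m + 1)).1 hdQ
        m m.lt_succ_self
      exact CanonMod.subsingleton_of_dual hf e.symm.injective.subsingleton
    obtain ⟨x₂, hx₂⟩ := Ext.contravariant_sequence_exact₁ hC (ModuleCat.of A A)
      (Ext.mk₀ (ModuleCat.ofHom φ : C.X₁ ⟶ ModuleCat.of A A)) (add_zero 1) (Subsingleton.elim _ _)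
    obtain ⟨ψ, rfl⟩ := (Ext.mk₀_bijective _ _).2 x₂
    rw [Ext.mk₀_comp_mk₀] at hx₂
    exact ⟨ψ.hom, congrArg ModuleCat.Hom.hom ((Ext.mk₀_bijective _ _).1 hx₂)⟩

/-- The residual ideal `0 : I` of a maximal Cohen–Macaulay quotient `A/I` of a Gorenstein local ring. -/
theorem isCohenMacaulayModule_quotient_annihilator (hd : ringKrullDim A = d) {I : Ideal A}
    [IsCohenMacaulayLocalRing (A ⧸ I)] (hI : ringKrullDim (A ⧸ I) = d) (hne : I ≠ ⊥) :
    IsCohenMacaulayModule A (A ⧸ Submodule.annihilator I) ∧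
      Module.supportDim A (A ⧸ Submodule.annihilator I) = d := by
  have hdA : depth A A = d := GorLib.depth_eq_dim hd
  haveI := GorLib.isCohenMacaulayLocalRing d A hdA
  have hdQ : (d : ℕ∞) ≤ depth A (A ⧸ I) := by
    rw [depth_quotient_self I]
    refine WithBot.coe_le_coe.1 ?_
    rw [← DepthLib.ringKrullDim_eq_depth, hI]
    rfl
  haveI : Nontrivial I := Submodule.nontrivial_iff_ne_bot.2 hne
  have hexact : Function.Exact I.subtype (Submodule.mkQ I) := LinearMap.exact_subtype_mkQ I
  have hdI : (d : ℕ∞) ≤ depth A I := by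
    cases d with
    | zero => exact zero_le
    | succ m =>
      exact DepthLib.natCast_le_idealDepth_left Subtype.val_injective (Submodule.mkQ_surjective I) hexact
        (hdA.symm.le) (le_trans (by exact_mod_cast m.le_succ) hdQ)
  have hsdI : Module.supportDim A I = d := by
    refine le_antisymm ((Module.supportDim_le_ringKrullDim A I).trans hd.le) ?_
    exact le_trans (WithBot.coe_le_coe.2 hdI) (DepthLib.depth_le_supportDim (R := A) I)
  obtain ⟨f, hf⟩ := LocCohLib.Gor.exists_injectiveHull_H_top hdA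
  -- the restriction map to `Hom(I, A)`
  let μ : A →ₗ[A] (I →ₗ[A] A) := LinearMap.toSpanSingleton A _ I.subtype
  have hμker : LinearMap.ker μ = Submodule.annihilator I := by
    ext a
    rw [LinearMap.mem_ker, Submodule.mem_annihilator]
    constructor
    · intro h x hx
      exact LinearMap.congr_fun h ⟨x, hx⟩
    · intro h
      exact LinearMap.ext fun x => h x.1 x.2
  have hμ : Function.Surjective μ := exists_smul_subtype hd hI
  let eJ : (A ⧸ Submodule.annihilator I) ≃ₗ[A] (I →ₗ[A] A) :=
    (Submodule.quotEquivOfEq _ _ hμker.symm).trans (LinearMap.quotKerEquivOfSurjective μ hμ)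
  -- duality with the top local cohomology of `I`
  obtain ⟨e0⟩ := LocCohLib.Gor.nonempty_duality hd 0 d (add_zero d) (ModuleCat.of A I)
  let c : Ext (ModuleCat.of A I) (ModuleCat.of A A) 0 ≃ₗ[A] (I →ₗ[A] A) :=
    (Ext.linearEquiv₀ (R := A) (X := ModuleCat.of A I) (Y := ModuleCat.of A A)).trans ModuleCat.homLinearEquiv
  let e : ((A ⧸ Submodule.annihilator I) →ₗ[A] LocCoh.H (IsLocalRing.maximalIdeal A) d A) ≃ₗ[A]
      CanonMod.Hm d (ModuleCat.of A I) :=
    ((eJ.trans c.symm).arrowCongr (LinearEquiv.refl A _)).trans e0.symm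
  have hHI : ∀ i < d, Subsingleton (CanonMod.Hm i (ModuleCat.of A I)) :=
    (LocCohLib.natCast_le_idealDepth_iff_vanishing (IsLocalRing.maximalIdeal A) I d).1 hdI
  obtain ⟨as, hlen, hreg, hmem⟩ := DepthLib.natCast_le_depth_iff.1 hdI
  have hregJ := ((CanonMod.seq_iff hf as hmem I _ d hsdI hHI e).1).1 hreg
  have hdJ : (d : ℕ∞) ≤ depth A (A ⧸ Submodule.annihilator I) :=
    DepthLib.natCast_le_depth_iff.2 ⟨as, hlen, hregJ, hmem⟩
  haveI : Nontrivial (A ⧸ Submodule.annihilator I) := by
    refine Ideal.Quotient.nontrivial_iff.2 fun h => hne ?_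
    exact Submodule.annihilator_eq_top_iff.1 h
  have hsd : Module.supportDim A (A ⧸ Submodule.annihilator I) = d := by
    refine le_antisymm ((Module.supportDim_le_ringKrullDim A _).trans hd.le) ?_
    exact le_trans (WithBot.coe_le_coe.2 hdJ) (DepthLib.depth_le_supportDim (R := A) _)
  refine ⟨DepthLib.isCohenMacaulayModule_iff.2 ?_, hsd⟩
  rw [hsd]
  exact WithBot.coe_le_coe.2 hdJ

end

end Groth.Agent.GorLib
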