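import Groth.Agent.GorLib.Linkage
import Groth.Agent.GorLib.FlatLocal
import Groth.Agent.GorLib.Artin

/-!
A Cohen–Macaulay quotient whose top local cohomology has a cyclic socle is Gorenstein.
-/

set_option autoImplicit false
set_option linter.style.haveILetI false
set_option linter.unusedVariables false
universe u

open CategoryTheory
open RingTheory.Sequence
open LocCoh
open scoped Pointwise

namespace Groth.Agent.GorLib

variable {A : Type u} [CommRing A] [IsLocalRing A] [IsNoetherianRing A]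

local notation "𝔪" => IsLocalRing.maximalIdeal A

/-- Two socle elements are proportional. -/
def SocleCyclicModule (N : Type u) [AddCommGroup N] [Module A N] : Prop :=
  ∀ z w : N, (∀ a ∈ IsLocalRing.maximalIdeal A, a • z = 0) → (∀ a ∈ IsLocalRing.maximalIdeal A, a • w = 0) →
    z ≠ 0 → ∃ r : A, w = r • z

theorem socleCyclicModule_of_injective {N N' : Type u} [AddCommGroup N] [Module A N] [AddCommGroup N']
    [Module A N'] (φ : N →ₗ[A] N') (hφ : Function.Injective φ) (h : SocleCyclicModule (A := A) N') :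
    SocleCyclicModule (A := A) N := fun z w hz hw h0 => by
  obtain ⟨r, hr⟩ := h (φ z) (φ w) (fun a ha => by rw [← map_smul, hz a ha, map_zero])
    (fun a ha => by rw [← map_smul, hw a ha, map_zero]) (fun e => h0 (hφ (e.trans (map_zero φ).symm)))
  exact ⟨r, hφ (hr.trans (map_smul φ r z).symm)⟩

/-- The socle of an injective hull of the residue field. -/
theorem socleCyclicModule_hull {E : Type u} [AddCommGroup E] [Module A E]
    {f : IsLocalRing.ResidueField A →ₗ[A] E} (hf : InjHull.IsInjectiveHull f) :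
    SocleCyclicModule (A := A) E := by
  have key : ∀ z : E, (∀ a ∈ 𝔪, a • z = 0) → ∃ r : A, z = r • f 1 := fun z hz => by
    by_cases hz0 : z = 0
    · exact ⟨0, by rw [hz0, zero_smul]⟩
    obtain ⟨c, hc0, y, hy⟩ := MatlisLib.exists_smul_mem_range hf.toIsEssentialInj hz0
    have hcm : c ∉ 𝔪 := fun h => hc0 (hz c h)
    obtain ⟨u, hu⟩ := (IsLocalRing.notMem_maximalIdeal.1 hcm).exists_left_inv
    obtain ⟨y, rfl⟩ := Submodule.Quotient.mk_surjective 𝔪 y
    refine ⟨u * y, ?_⟩
    have h1 : (Submodule.Quotient.mk y : IsLocalRing.ResidueField A) = y • (Submodule.Quotient.mk (1 : A) : A ⧸ 𝔪) := by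
      rw [← Submodule.Quotient.mk_smul, smul_eq_mul, mul_one]
    calc z = (u * c) • z := by rw [hu, one_smul]
      _ = u • f (Submodule.Quotient.mk y) := by rw [mul_smul, hy]
      _ = _ := by rw [mul_smul]; exact congrArg (u • ·) ((congrArg f h1).trans (map_smul f y _))
  intro z w hz hw h0
  obtain ⟨r, rfl⟩ := key z hz
  obtain ⟨s, rfl⟩ := key w hw
  have hr : IsUnit r := by
    by_contra hu
    exact h0 (by
      rw [← map_smul, show r • (1 : IsLocalRing.ResidueField A) = 0 from ?_, map_zero]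
      rw [Algebra.smul_def, mul_one]
      exact Ideal.Quotient.eq_zero_iff_mem.2 hu)
  obtain ⟨u, hu⟩ := hr.exists_left_inv
  exact ⟨s * u, by rw [← mul_smul, mul_assoc, hu, mul_one]⟩

/-- The socle of the dual of a cyclic module. -/
theorem socleCyclicModule_dual {E : Type u} [AddCommGroup E] [Module A E]
    {f : IsLocalRing.ResidueField A →ₗ[A] E} (hf : InjHull.IsInjectiveHull f) (K : Ideal A) :
    SocleCyclicModule (A := A) ((A ⧸ K) →ₗ[A] E) :=
  socleCyclicModule_of_injective (LinearMap.applyₗ (Submodule.Quotient.mk (1 : A) : A ⧸ K))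
    (fun φ ψ h => Submodule.linearMap_qext _ (LinearMap.ext_ring h)) (socleCyclicModule_hull hf)

/-- `H^0` of a quotient by a regular sequence embeds in the top local cohomology. -/
theorem exists_socle_embedding : ∀ (as : List A), (∀ a ∈ as, a ∈ 𝔪) →
    ∀ (M : Type u) [AddCommGroup M] [Module A M], IsWeaklyRegular M as →
    (∀ i < as.length, Subsingleton (CanonMod.Hm i (ModuleCat.of A M))) →
    ∃ φ : CanonMod.Hm 0 (ModuleCat.of A (M ⧸ Ideal.ofList as • (⊤ : Submodule A M))) →ₗ[A]
      CanonMod.Hm as.length (ModuleCat.of A M), Function.Injective φ := by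
  intro as
  induction as with
  | nil =>
    intro _ M _ _ _ _
    exact ⟨_, (((localCohomology 𝔪 0).mapIso (LinearEquiv.toModuleIso
      (Submodule.quotEquivOfEqBot (Ideal.ofList [] • (⊤ : Submodule A M))
        (by rw [Ideal.ofList_nil, Submodule.bot_smul])))).toLinearEquiv).injective⟩
  | cons a as ih =>
    intro has M _ _ hreg hM
    rw [isWeaklyRegular_cons_iff] at hreg
    let C : ShortComplex (ModuleCat.{u} A) := ShortComplex.mk (X₁ := ModuleCat.of A M) (X₂ := ModuleCat.of A M)
      (X₃ := ModuleCat.of A (QuotSMulTop a M))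
      (a • 𝟙 (ModuleCat.of A M)) (ModuleCat.ofHom (a • (⊤ : Submodule A M)).mkQ)
      (ModuleCat.hom_ext (LinearMap.ext fun z => (Submodule.Quotient.mk_eq_zero _).2
        (Submodule.smul_mem_pointwise_smul z a ⊤ trivial)))
    have hC : C.ShortExact :=
      { exact := (ShortComplex.moduleCat_exact_iff _).2 fun z hz => by
          obtain ⟨y, -, rfl⟩ := (Submodule.Quotient.mk_eq_zero _).1 hz
          exact ⟨y, rfl⟩
        mono_f := (ModuleCat.mono_iff_injective _).2 fun x y h => hreg.1 h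
        epi_g := (ModuleCat.epi_iff_surjective _).2 (Submodule.mkQ_surjective _) }
    have hM' : ∀ i < as.length, Subsingleton (CanonMod.Hm i (ModuleCat.of A (QuotSMulTop a M))) := fun i hi => by
      refine subsingleton_of_forall_eq 0 fun w => ?_
      haveI := hM (i + 1) (by simp only [List.length_cons]; omega)
      obtain ⟨v, rfl⟩ := LocCohLib.exact₃ hC w (Subsingleton.elim (α := CanonMod.Hm (i + 1) (ModuleCat.of A M)) _ _)
      haveI := hM i (by simp only [List.length_cons]; omega)
      exact (congrArg _ (Subsingleton.elim (α := CanonMod.Hm i (ModuleCat.of A M)) v 0)).trans (map_zero _)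
    obtain ⟨φ, hφ⟩ := ih (fun b hb => has b (List.mem_cons_of_mem _ hb)) _ hreg.2 hM'
    let e := ((localCohomology 𝔪 0).mapIso (LinearEquiv.toModuleIso
      (Submodule.quotOfListConsSMulTopEquivQuotSMulTopInner M a as))).toLinearEquiv
    refine ⟨(LocCohLib.δ hC 𝔪 as.length ∘ₗ φ) ∘ₗ e.toLinearMap,
      (Function.Injective.comp (g := LocCohLib.δ hC 𝔪 as.length) ?_ hφ).comp e.injective⟩
    refine (injective_iff_map_eq_zero (LocCohLib.δ hC 𝔪 as.length)).2 fun w hw => ?_
    obtain ⟨v, rfl⟩ := LocCohLib.exact₃ hC w hw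
    haveI := hM as.length (by simp)
    exact (congrArg _ (Subsingleton.elim (α := CanonMod.Hm as.length (ModuleCat.of A M)) v 0)).trans (map_zero _)

/-- A Cohen–Macaulay quotient with cyclic socle in the top local cohomology is Gorenstein. -/
theorem gorenstein_quotient_of_socle (K : Ideal A) [IsCohenMacaulayLocalRing (A ⧸ K)] {d : ℕ}
    (hd : ringKrullDim (A ⧸ K) = d)
    (hsoc : SocleCyclicModule (A := A) (CanonMod.Hm d (ModuleCat.of A (A ⧸ K)))) :
    IsGorensteinLocalRing (A ⧸ K) := by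
  have hdep : (d : ℕ∞) ≤ depth A (A ⧸ K) := by
    rw [depth_quotient_self K]
    refine WithBot.coe_le_coe.1 ?_
    rw [← DepthLib.ringKrullDim_eq_depth, hd]
    rfl
  obtain ⟨as, hlen, hreg, hmem⟩ := DepthLib.natCast_le_depth_iff.1 hdep
  have hvan := (LocCohLib.natCast_le_idealDepth_iff_vanishing 𝔪 (A ⧸ K) d).1 hdep
  subst hlen
  obtain ⟨φ, hφ⟩ := exists_socle_embedding as hmem (A ⧸ K) hreg hvan
  let bs := as.map (algebraMap A (A ⧸ K))
  have hbreg : IsWeaklyRegular (A ⧸ K) bs := (isWeaklyRegular_map_algebraMap_iff (A ⧸ K) (A ⧸ K) as).2 hreg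
  have hbm : ∀ b ∈ bs, b ∈ IsLocalRing.maximalIdeal (A ⧸ K) := fun b hb => by
    obtain ⟨a, ha, rfl⟩ := List.mem_map.1 hb
    rw [← IsLocalRing.map_maximalIdeal_of_surjective (algebraMap A (A ⧸ K)) Ideal.Quotient.mk_surjective]
    exact Ideal.mem_map_of_mem _ (hmem a ha)
  haveI := isLocalRing_quotient (ofList_le hbm)
  haveI : IsArtinianRing ((A ⧸ K) ⧸ Ideal.ofList bs) := by
    have h1 := ringKrullDim_add_length_eq_ringKrullDim_of_isRegular bs
      ((IsLocalRing.isRegular_iff_isWeaklyRegular_of_subset_maximalIdeal hbm).2 hbreg)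
    rw [hd, show bs.length = as.length from List.length_map _] at h1
    have h3 : ringKrullDim ((A ⧸ K) ⧸ Ideal.ofList bs) ≤ 0 := by
      obtain ⟨a, ha⟩ := WithBot.ne_bot_iff_exists.1 (ringKrullDim_ne_bot (R := (A ⧸ K) ⧸ Ideal.ofList bs))
      rw [← ha] at h1 ⊢
      change ((a + as.length : ℕ∞) : WithBot ℕ∞) = ((as.length : ℕ∞) : WithBot ℕ∞) at h1
      rw [WithBot.coe_inj] at h1
      induction a using ENat.recTopCoe with
      | top => simp at h1
      | coe m =>
        have : m = 0 := by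
          norm_cast at h1
          omega
        subst this
        rfl
    haveI : Ring.KrullDimLE 0 ((A ⧸ K) ⧸ Ideal.ofList bs) := Ring.krullDimLE_iff.2 h3
    exact isArtinianRing_iff_krullDimLE_zero.2 inferInstance
  rw [isGorensteinLocalRing_quotient_ofList_iff _ bs rfl hbreg hbm]
  refine gorenstein_of_socleCyclic ?_
  let CA := (A ⧸ K) ⧸ Ideal.ofList as • (⊤ : Submodule A (A ⧸ K))
  have hiff : ∀ b : A ⧸ K, b ∈ Ideal.ofList as • (⊤ : Submodule A (A ⧸ K)) ↔ b ∈ Ideal.ofList bs := fun b => by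
    rw [Ideal.smul_top_eq_map, Submodule.restrictScalars_mem, Ideal.map_ofList]
  have hlift : ∀ x : (A ⧸ K) ⧸ Ideal.ofList bs, IsSocle x →
      ∃ (b : A ⧸ K) (z : CanonMod.Hm 0 (ModuleCat.of A CA)), Ideal.Quotient.mk _ b = x ∧
        LocCohLib.h0 𝔪 (ModuleCat.of A CA) z = Submodule.Quotient.mk b ∧ ∀ a ∈ 𝔪, a • z = 0 := fun x hx => by
    obtain ⟨b, rfl⟩ := Ideal.Quotient.mk_surjective x
    have hb : ∀ a ∈ 𝔪, a • (Submodule.Quotient.mk b : CA) = 0 := fun a ha => by
      rw [← Submodule.Quotient.mk_smul, Submodule.Quotient.mk_eq_zero, hiff, ← Ideal.Quotient.eq_zero_iff_mem,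
        Algebra.smul_def, map_mul]
      refine hx _ ?_
      rw [← IsLocalRing.map_maximalIdeal_of_surjective (Ideal.Quotient.mk (Ideal.ofList bs)) Ideal.Quotient.mk_surjective]
      refine Ideal.mem_map_of_mem _ ?_
      rw [← IsLocalRing.map_maximalIdeal_of_surjective (algebraMap A (A ⧸ K)) Ideal.Quotient.mk_surjective]
      exact Ideal.mem_map_of_mem _ ha
    obtain ⟨z, hz⟩ := (LocCohLib.h0_mem_range (I := 𝔪) (M := ModuleCat.of A CA) (Submodule.Quotient.mk b)).2
      ⟨1, fun a ha => hb a (by rwa [pow_one] at ha)⟩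
    exact ⟨b, z, rfl, hz, fun a ha => LocCohLib.h0_injective (by rw [map_smul, hz, map_zero]; exact hb a ha)⟩
  intro x y hx hy hx0
  obtain ⟨b, z, rfl, hz, hzm⟩ := hlift x hx
  obtain ⟨c, w, rfl, hw, hwm⟩ := hlift y hy
  have hz0 : z ≠ 0 := fun h => hx0 (Ideal.Quotient.eq_zero_iff_mem.2 ((hiff b).1
    ((Submodule.Quotient.mk_eq_zero _).1 (by rw [← hz, h, map_zero]))))
  obtain ⟨r, rfl⟩ := socleCyclicModule_of_injective φ hφ hsoc z w hzm hwm hz0
  refine ⟨Ideal.Quotient.mk _ (algebraMap A (A ⧸ K) r), ?_⟩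
  rw [← map_mul, Ideal.Quotient.mk_eq_mk_iff_sub_mem, ← hiff, ← Submodule.Quotient.eq, ← hw, map_smul, hz,
    ← Algebra.smul_def, Submodule.Quotient.mk_smul]

end Groth.Agent.GorLib
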