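import Groth.Agent.GorLib.Linkage
import Groth.Agent.GorLib.SocleTop

/-!
Gorenstein quotients produced by linkage in a Gorenstein local ring: almost complete intersections
and geometric linkage.
-/

set_option autoImplicit false
set_option linter.style.haveILetI false
set_option linter.unusedVariables false
universe u

open CategoryTheory
open CategoryTheory.Abelian (Ext)
open LocCoh

namespace Groth.Agent.GorLib

variable {A : Type u} [CommRing A] [IsGorensteinLocalRing A] {d : ℕ}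

local notation "𝔪" => IsLocalRing.maximalIdeal A

/-- The top local cohomology of a module with cyclic dual has cyclic socle. -/
theorem socleCyclicModule_top (hd : ringKrullDim A = d) (M : Type u) [AddCommGroup M] [Module A M]
    [Module.Finite A M] (g : M →ₗ[A] A) (hg : ∀ φ : M →ₗ[A] A, ∃ a : A, φ = a • g) :
    SocleCyclicModule (A := A) (CanonMod.Hm d (ModuleCat.of A M)) := by
  obtain ⟨f, hf⟩ := LocCohLib.Gor.exists_injectiveHull_H_top (GorLib.depth_eq_dim hd)
  obtain ⟨e⟩ := LocCohLib.Gor.nonempty_duality hd 0 d (add_zero d) (ModuleCat.of A M)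
  let c : Ext (ModuleCat.of A M) (ModuleCat.of A A) 0 ≃ₗ[A] (M →ₗ[A] A) :=
    (Ext.linearEquiv₀ (R := A) (X := ModuleCat.of A M) (Y := ModuleCat.of A A)).trans ModuleCat.homLinearEquiv
  let E := LocCoh.H (IsLocalRing.maximalIdeal A) d A
  let ev : CanonMod.Hm d (ModuleCat.of A M) →ₗ[A] E :=
    LinearMap.applyₗ (c.symm g) ∘ₗ e.toLinearMap
  refine socleCyclicModule_of_injective ev ((injective_iff_map_eq_zero ev).2 fun z hz => ?_)
    (socleCyclicModule_hull hf)
  refine e.map_eq_zero_iff.1 (LinearMap.ext fun x => ?_)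
  obtain ⟨x, rfl⟩ := c.symm.surjective x
  obtain ⟨a, rfl⟩ := hg x
  rw [map_smul, map_smul, LinearMap.zero_apply, show e z (c.symm g) = 0 from hz, smul_zero]

/-- The link of an almost complete intersection is Gorenstein. -/
theorem gorenstein_of_annihilator_eq_span (hd : ringKrullDim A = d) (J : Ideal A)
    [IsCohenMacaulayLocalRing (A ⧸ J)] (hJ : ringKrullDim (A ⧸ J) = d) {g : A}
    (hg : Submodule.annihilator J = Ideal.span {g}) : IsGorensteinLocalRing (A ⧸ J) := by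
  refine gorenstein_quotient_of_socle J hJ ?_
  have hle : J ≤ LinearMap.ker (LinearMap.toSpanSingleton A A g) := fun j hj => by
    rw [LinearMap.mem_ker, LinearMap.toSpanSingleton_apply, smul_eq_mul, mul_comm]
    exact Submodule.mem_annihilator.1 (hg ▸ Ideal.mem_span_singleton_self g) j hj
  refine socleCyclicModule_top hd (A ⧸ J) (J.liftQ (LinearMap.toSpanSingleton A A g) hle) fun φ => ?_
  obtain ⟨a, ha⟩ : ∃ a : A, a * g = φ (Submodule.Quotient.mk (1 : A)) := by
    refine Ideal.mem_span_singleton'.1 ?_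
    rw [← hg, Submodule.mem_annihilator]
    intro j hj
    rw [smul_eq_mul, mul_comm, ← smul_eq_mul, ← map_smul, ← Submodule.Quotient.mk_smul, smul_eq_mul, mul_one,
      (Submodule.Quotient.mk_eq_zero J).2 hj, map_zero]
  refine ⟨a, Submodule.linearMap_qext _ (LinearMap.ext_ring ?_)⟩
  show φ (Submodule.Quotient.mk (1 : A)) = a • ((1 : A) • g)
  rw [one_smul, smul_eq_mul, ha]

/-- The intersection of two geometrically linked maximal Cohen–Macaulay quotients is Gorenstein. -/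
theorem gorenstein_sup_of_linked (hd : ringKrullDim A = d) (I₁ I₂ : Ideal A)
    [IsCohenMacaulayLocalRing (A ⧸ I₁)] [IsCohenMacaulayLocalRing (A ⧸ I₂)]
    (h₁ : ringKrullDim (A ⧸ I₁) = d) (h₂ : ringKrullDim (A ⧸ I₂) = d) (hbot : I₁ ⊓ I₂ = ⊥)
    (hne : I₁ ⊔ I₂ ≠ ⊤) (hlt : ringKrullDim (A ⧸ (I₁ ⊔ I₂)) < d) :
    IsGorensteinLocalRing (A ⧸ (I₁ ⊔ I₂)) ∧ ringKrullDim (A ⧸ (I₁ ⊔ I₂)) + 1 = d := by
  haveI : Nontrivial (A ⧸ (I₁ ⊔ I₂)) := Ideal.Quotient.nontrivial_iff.2 hne
  let j : I₂ →ₗ[A] A ⧸ I₁ := I₁.mkQ ∘ₗ I₂.subtype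
  let π : A ⧸ I₁ →ₗ[A] A ⧸ (I₁ ⊔ I₂) := Submodule.factor le_sup_left
  have hj : Function.Injective j := (injective_iff_map_eq_zero j).2 fun x hx => by
    have h : (x : A) ∈ I₁ ⊓ I₂ := ⟨(Submodule.Quotient.mk_eq_zero I₁).1 hx, x.2⟩
    rw [hbot] at h
    exact Subtype.ext h
  have hπ : Function.Surjective π := Submodule.factor_surjective le_sup_left
  have hex : Function.Exact j π := fun y => by
    obtain ⟨y, rfl⟩ := Submodule.Quotient.mk_surjective _ y
    constructor
    · intro h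
      obtain ⟨a, ha, b, hb, hab⟩ := Submodule.mem_sup.1 ((Submodule.Quotient.mk_eq_zero (I₁ ⊔ I₂)).1 h)
      refine ⟨⟨b, hb⟩, (Submodule.Quotient.eq I₁).2 ?_⟩
      have hab' : a + b = y := hab
      rw [← hab']
      show b - (a + b) ∈ I₁
      rw [sub_add_cancel_right]
      exact I₁.neg_mem ha
    · rintro ⟨x, hx⟩
      rw [← hx]
      exact (Submodule.Quotient.mk_eq_zero (I₁ ⊔ I₂)).2 (Submodule.mem_sup_right x.2)
  obtain ⟨m, rfl⟩ : ∃ m, d = m + 1 := Nat.exists_eq_succ_of_ne_zero fun h0 => by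
    subst h0
    exact absurd hlt (not_lt.2 ringKrullDim_nonneg_of_nontrivial)
  have hdep : ∀ (I : Ideal A) [IsCohenMacaulayLocalRing (A ⧸ I)], ringKrullDim (A ⧸ I) = (m + 1 : ℕ) →
      ((m + 1 : ℕ) : ℕ∞) ≤ depth A (A ⧸ I) := fun I _ hI => by
    rw [depth_quotient_self I]
    refine WithBot.coe_le_coe.1 ?_
    rw [← DepthLib.ringKrullDim_eq_depth, hI]
    rfl
  have hdI₂ : ((m + 1 : ℕ) : ℕ∞) ≤ depth A I₂ :=
    DepthLib.natCast_le_idealDepth_left Subtype.val_injective (Submodule.mkQ_surjective I₂)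
      (LinearMap.exact_subtype_mkQ I₂) (GorLib.depth_eq_dim hd).ge
      (le_trans (by exact_mod_cast m.le_succ) (hdep I₂ h₂))
  have hdB : (m : ℕ∞) ≤ depth A (A ⧸ (I₁ ⊔ I₂)) :=
    DepthLib.natCast_le_idealDepth_right hj hπ hex (le_trans (by exact_mod_cast m.le_succ) (hdep I₁ h₁)) hdI₂
  haveI : IsLocalRing (A ⧸ (I₁ ⊔ I₂)) := .of_surjective' (Ideal.Quotient.mk _) Ideal.Quotient.mk_surjective
  have hdimB : ringKrullDim (A ⧸ (I₁ ⊔ I₂)) = m := by
    refine le_antisymm ?_ ?_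
    · obtain ⟨n, hn⟩ := DepthLib.exists_nat_supportDim (R := A) (A ⧸ (I₁ ⊔ I₂))
      rw [Module.supportDim_quotient_eq_ringKrullDim] at hn
      rw [hn] at hlt ⊢
      norm_cast at hlt ⊢
      exact Nat.lt_succ_iff.1 hlt
    · rw [← Module.supportDim_quotient_eq_ringKrullDim]
      exact le_trans (WithBot.coe_le_coe.2 hdB) (DepthLib.depth_le_supportDim (R := A) _)
  haveI : IsCohenMacaulayLocalRing (A ⧸ (I₁ ⊔ I₂)) := isCohenMacaulayLocalRing_quotient_of_module
    (DepthLib.isCohenMacaulayModule_iff.2 (by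
      rw [Module.supportDim_quotient_eq_ringKrullDim, hdimB]
      exact WithBot.coe_le_coe.2 hdB))
  refine ⟨gorenstein_quotient_of_socle _ hdimB ?_, by rw [hdimB]; push_cast; rfl⟩
  let C : ShortComplex (ModuleCat.{u} A) :=
    ShortComplex.mk (X₁ := ModuleCat.of A I₂) (X₂ := ModuleCat.of A (A ⧸ I₁)) (X₃ := ModuleCat.of A (A ⧸ (I₁ ⊔ I₂)))
      (ModuleCat.ofHom j) (ModuleCat.ofHom π) (ModuleCat.hom_ext hex.linearMap_comp_eq_zero)
  have hC : C.ShortExact :=
    { exact := (ShortComplex.ShortExact.moduleCat_exact_iff_function_exact _).2 hex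
      mono_f := (ModuleCat.mono_iff_injective _).2 hj
      epi_g := (ModuleCat.epi_iff_surjective _).2 hπ }
  refine socleCyclicModule_of_injective (LocCohLib.δ hC 𝔪 m)
    ((injective_iff_map_eq_zero (LocCohLib.δ hC 𝔪 m)).2 fun w hw => ?_)
    (socleCyclicModule_top hd I₂ I₂.subtype fun φ => ?_)
  · obtain ⟨v, rfl⟩ := LocCohLib.exact₃ hC w hw
    haveI := (LocCohLib.natCast_le_idealDepth_iff_vanishing 𝔪 (A ⧸ I₁) (m + 1)).1 (hdep I₁ h₁) m m.lt_succ_self
    exact (congrArg _ (Subsingleton.elim (α := CanonMod.Hm m (ModuleCat.of A (A ⧸ I₁))) v 0)).trans (map_zero _)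
  · obtain ⟨a, ha⟩ := exists_smul_subtype hd h₂ φ
    exact ⟨a, ha.symm⟩

end Groth.Agent.GorLib
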