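import Groth.Agent.GorLib.Linkage
import Groth.Agent.GorLib.FlatLocal
import Groth.Agent.Miracle.Basic

/-!
Linkage commutes with killing a regular sequence.
-/

set_option autoImplicit false
set_option linter.style.haveILetI false
set_option linter.unusedVariables false
universe u

open LocCoh RingTheory.Sequence
open scoped Pointwise

namespace Groth.Agent.GorLib

theorem annihilator_regSeq : ∀ (n : ℕ) {A : Type u} [CommRing A] [IsGorensteinLocalRing A] (as : List A),
    as.length = n → IsWeaklyRegular A as → (∀ a ∈ as, a ∈ IsLocalRing.maximalIdeal A) →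
    ∀ (I : Ideal A) [IsCohenMacaulayLocalRing (A ⧸ I)], ringKrullDim (A ⧸ I) = ringKrullDim A →
      Submodule.annihilator I ⊔ Ideal.ofList as = (Ideal.ofList as).colon (I : Set A) ∧
        Submodule.annihilator I ⊓ Ideal.ofList as = Ideal.ofList as * Submodule.annihilator I
  | 0, A, _, _, as, hl, _, _, I, _, _ => by
    obtain rfl := List.eq_nil_of_length_eq_zero hl
    rw [Ideal.ofList_nil, sup_bot_eq, inf_bot_eq, Ideal.bot_mul, Submodule.bot_colon]
    exact ⟨rfl, rfl⟩
  | n + 1, A, _, _, [], hl, _, _, _, _, _ => by simp at hl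
  | n + 1, A, _, _, r :: as, hl, hreg, hm, I, _, hI => by
    rw [isWeaklyRegular_cons_iff] at hreg
    have hrm : r ∈ IsLocalRing.maximalIdeal A := hm r List.mem_cons_self
    have hsr : Ideal.span {r} ≤ IsLocalRing.maximalIdeal A := (Ideal.span_singleton_le_iff_mem _).2 hrm
    haveI := isLocalRing_quotient hsr
    let q := Ideal.Quotient.mk (Ideal.span {r})
    have hqm : ∀ a ∈ IsLocalRing.maximalIdeal A, q a ∈ IsLocalRing.maximalIdeal (A ⧸ Ideal.span {r}) := fun a ha => by
      rw [← IsLocalRing.map_maximalIdeal_of_surjective q Ideal.Quotient.mk_surjective]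
      exact Ideal.mem_map_of_mem _ ha
    haveI : IsGorensteinLocalRing (A ⧸ Ideal.span {r}) := by
      have h := (isGorensteinLocalRing_quotient_ofList_iff _ [r] rfl
        ((isWeaklyRegular_singleton_iff A r).2 hreg.1) (fun a ha => by rwa [List.mem_singleton.1 ha])).1 inferInstance
      rwa [Ideal.ofList_singleton] at h
    -- dimensions
    have hrI : Ideal.Quotient.mk I r ∈ IsLocalRing.maximalIdeal (A ⧸ I) := by
      rw [← IsLocalRing.map_maximalIdeal_of_surjective (Ideal.Quotient.mk I) Ideal.Quotient.mk_surjective]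
      exact Ideal.mem_map_of_mem _ hrm
    let e : ((A ⧸ Ideal.span {r}) ⧸ I.map q) ≃+* ((A ⧸ I) ⧸ Ideal.span {Ideal.Quotient.mk I r}) :=
      (DoubleQuot.quotQuotEquivComm (Ideal.span {r}) I).trans
        (Ideal.quotEquivOfEq (by rw [Ideal.map_span, Set.image_singleton]))
    have hle : ringKrullDim ((A ⧸ Ideal.span {r}) ⧸ I.map q) ≤ ringKrullDim (A ⧸ Ideal.span {r}) :=
      ringKrullDim_quotient_le _
    have hA1 : ringKrullDim (A ⧸ Ideal.span {r}) + 1 ≤ ringKrullDim A := by
      refine ringKrullDim_quotient_succ_le_of_nonZeroDivisor ?_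
      rw [mem_nonZeroDivisors_iff_right]
      exact fun x hx => hreg.1 (show r * x = r * 0 by rw [mul_zero, mul_comm, hx])
    obtain ⟨-, hCM, hdim⟩ := Miracle.isCohenMacaulayLocalRing_quotient hrI (by
      rw [← ringKrullDim_eq_of_ringEquiv e, hI]
      exact (add_le_add hle le_rfl).trans hA1)
    haveI : IsCohenMacaulayLocalRing ((A ⧸ Ideal.span {r}) ⧸ I.map q) :=
      haveI := hCM
      Catenary.isCohenMacaulayLocalRing_of_ringEquiv (A := (A ⧸ I) ⧸ Ideal.span {Ideal.Quotient.mk I r})
        (B := (A ⧸ Ideal.span {r}) ⧸ I.map q) e.symm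
    rw [← ringKrullDim_eq_of_ringEquiv e, hI] at hdim
    have hI1 : ringKrullDim ((A ⧸ Ideal.span {r}) ⧸ I.map q) = ringKrullDim (A ⧸ Ideal.span {r}) :=
      DepthLib.withBot_add_one_cancel (hdim.trans (le_antisymm (hdim ▸ add_le_add hle le_rfl) hA1))
    obtain ⟨d, hd⟩ : ∃ d : ℕ, ringKrullDim A = d := by
      obtain ⟨d, hd⟩ := DepthLib.exists_nat_supportDim (R := A) A
      exact ⟨d, (Module.supportDim_self_eq_ringKrullDim (R := A)).symm.trans hd⟩
    -- the annihilator modulo `r`
    have hJ : ∀ x, q x ∈ Submodule.annihilator (I.map q) ↔ x ∈ Submodule.annihilator I ⊔ Ideal.span {r} := fun x => by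
      rw [Submodule.mem_annihilator]
      constructor
      · intro h
        have h1 : ∀ i : I, ∃ a : A, r * a = x * i := fun i => by
          have h2 := h _ (Ideal.mem_map_of_mem q i.2)
          rw [smul_eq_mul, ← map_mul, Ideal.Quotient.eq_zero_iff_mem, Ideal.mem_span_singleton'] at h2
          obtain ⟨a, ha⟩ := h2
          exact ⟨a, by rw [mul_comm]; exact ha⟩
        choose a ha using h1
        let φ : I →ₗ[A] A :=
          { toFun := a
            map_add' := fun i j => hreg.1 (show r * a (i + j) = r * (a i + a j) by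
              rw [mul_add, ha, ha, ha, Submodule.coe_add, mul_add])
            map_smul' := fun c i => hreg.1 (show r * a (c • i) = r * (c * a i) by
              rw [ha, mul_left_comm, ha, Submodule.coe_smul, smul_eq_mul, mul_left_comm]) }
        obtain ⟨b, hb⟩ := exists_smul_subtype hd (hI.trans hd) φ
        rw [show x = (x - r * b) + r * b by ring]
        refine Submodule.add_mem_sup (Submodule.mem_annihilator.2 fun i hi => ?_)
          (Ideal.mem_span_singleton'.2 ⟨b, mul_comm _ _⟩)
        have h3 : b * i = a ⟨i, hi⟩ := LinearMap.congr_fun hb ⟨i, hi⟩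
        rw [smul_eq_mul, sub_mul, mul_assoc, h3, ha]
        exact sub_self _
      · intro h y hy
        obtain ⟨u, hu, v, hv, rfl⟩ := Submodule.mem_sup.1 h
        obtain ⟨i, hi, rfl⟩ := (Ideal.mem_map_iff_of_surjective _ Ideal.Quotient.mk_surjective).1 hy
        rw [smul_eq_mul, ← map_mul, Ideal.Quotient.eq_zero_iff_mem, add_mul,
          show u * i = 0 from Submodule.mem_annihilator.1 hu i hi, zero_add]
        exact Ideal.mul_mem_right _ _ hv
    have hJ' : Submodule.annihilator (I.map q) = (Submodule.annihilator I).map q := by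
      ext y
      obtain ⟨x, rfl⟩ := Ideal.Quotient.mk_surjective y
      rw [hJ]
      exact Ideal.mem_quotient_iff_mem_sup.symm
    have hreg' : IsWeaklyRegular (A ⧸ Ideal.span {r}) (as.map q) :=
      (isWeaklyRegular_map_algebraMap_iff (A ⧸ Ideal.span {r}) (A ⧸ Ideal.span {r}) as).2
        ((LinearEquiv.isWeaklyRegular_congr (Submodule.quotEquivOfEq (r • (⊤ : Submodule A A)) (Ideal.span {r})
          (by rw [← Submodule.ideal_span_singleton_smul, smul_eq_mul, Ideal.mul_top])) as).1 hreg.2)
    have hm' : ∀ a ∈ as.map q, a ∈ IsLocalRing.maximalIdeal (A ⧸ Ideal.span {r}) := fun a ha => by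
      obtain ⟨b, hb, rfl⟩ := List.mem_map.1 ha
      exact hqm b (hm b (List.mem_cons_of_mem _ hb))
    obtain ⟨h1, h2⟩ := annihilator_regSeq n (as.map q) (by simpa using hl) hreg' hm' (I.map q) hI1
    rw [hJ', ← Ideal.map_ofList] at h1 h2
    refine ⟨le_antisymm ?_ fun x hx => ?_, le_antisymm ?_ ?_⟩
    · refine sup_le (fun x hx => Submodule.mem_colon.2 fun i hi => ?_) Ideal.le_colon
      rw [show x • i = 0 from Submodule.mem_annihilator.1 hx i hi]
      exact zero_mem _
    · have hx1 : q x ∈ ((Ideal.ofList as).map q).colon (I.map q : Set (A ⧸ Ideal.span {r})) := by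
        refine Submodule.mem_colon.2 fun y hy => ?_
        obtain ⟨i, hi, rfl⟩ := (Ideal.mem_map_iff_of_surjective _ Ideal.Quotient.mk_surjective).1 hy
        have h3 := Submodule.mem_colon.1 hx i hi
        rw [Ideal.ofList_cons, smul_eq_mul, sup_comm] at h3
        rw [smul_eq_mul, ← map_mul]
        exact Ideal.mem_quotient_iff_mem_sup.2 h3
      rw [← h1, ← Ideal.map_sup] at hx1
      have hx2 := Ideal.mem_quotient_iff_mem_sup.1 hx1
      rw [Ideal.ofList_cons, sup_comm (Ideal.span {r}), ← sup_assoc]
      exact hx2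
    · rintro x ⟨hxJ, hx⟩
      have hx1 : q x ∈ (Submodule.annihilator I).map q ⊓ (Ideal.ofList as).map q := by
        refine ⟨Ideal.mem_map_of_mem q hxJ, Ideal.mem_quotient_iff_mem_sup.2 ?_⟩
        rw [SetLike.mem_coe, Ideal.ofList_cons, sup_comm] at hx
        exact hx
      rw [h2, ← Ideal.map_mul] at hx1
      obtain ⟨y, hy, v, hv, rfl⟩ := Submodule.mem_sup.1 (Ideal.mem_quotient_iff_mem_sup.1 hx1)
      obtain ⟨a, rfl⟩ := Ideal.mem_span_singleton'.1 hv
      have hyJ : y ∈ Submodule.annihilator I := Ideal.mul_le_right hy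
      have har : a * r ∈ Submodule.annihilator I := by simpa using sub_mem hxJ hyJ
      have haJ : a ∈ Submodule.annihilator I := Submodule.mem_annihilator.2 fun i hi =>
        hreg.1 (show r * (a * i) = r * 0 by
          rw [mul_zero, ← mul_assoc, mul_comm r a]
          exact Submodule.mem_annihilator.1 har i hi)
      rw [Ideal.ofList_cons, Ideal.sup_mul]
      refine add_mem (Submodule.mem_sup_right hy) (Submodule.mem_sup_left ?_)
      rw [mul_comm a r]
      exact Ideal.mul_mem_mul (Ideal.mem_span_singleton_self r) haJ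
    · exact le_inf Ideal.mul_le_right Ideal.mul_le_left

end Groth.Agent.GorLib
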