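import Groth.Agent.GorLib.ExtReesSk
import Groth.Agent.DepthLib.Quotient
import Groth.Agent.DepthLib.Sk

/-!
Serre's condition `(S_2)` for the Rees algebra of a filtration.
-/

set_option autoImplicit false
set_option linter.style.haveILetI false
universe u

open LocCoh

namespace Groth.Agent.GorLib.ReesSk

open FlatSerre

/-- `R → S` becoming bijective after inverting `g`. -/
theorem skLoc_of_dominate {R S : Type u} [CommRing R] [CommRing S] (ι : R →+* S) (hι : Function.Injective ι) (g : R)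
    (P : Ideal R) [P.IsPrime] (hg : g ∉ P) (hsurj : ∀ y : S, ∃ (k : ℕ) (r : R), ι r = ι g ^ k * y) {k : ℕ}
    (hS : HasSk k S S) : SkLoc k (Localization.AtPrime P) := by
  let Sg := Localization.Away (ι g)
  letI : Algebra R Sg := ((algebraMap S Sg).comp ι).toAlgebra
  have halg : ∀ r, algebraMap R Sg r = algebraMap S Sg (ι r) := fun r => rfl
  haveI hloc : IsLocalization.Away g Sg := by
    unfold IsLocalization.Away
    rw [isLocalization_iff]
    refine ⟨?_, fun z => ?_, fun {x y} h => ?_⟩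
    · rintro ⟨_, n, rfl⟩
      rw [halg, map_pow, map_pow]
      exact (IsLocalization.Away.algebraMap_isUnit (ι g)).pow n
    · obtain ⟨n, y, hy⟩ := IsLocalization.Away.surj (ι g) z
      obtain ⟨j, r, hr⟩ := hsurj y
      refine ⟨⟨r, ⟨g ^ (n + j), n + j, rfl⟩⟩, ?_⟩
      show z * algebraMap R Sg (g ^ (n + j)) = algebraMap R Sg r
      rw [halg, halg, hr, map_mul, map_pow, map_pow, map_pow, pow_add, ← mul_assoc, hy, mul_comm]
    · rw [halg, halg] at h
      obtain ⟨⟨_, n, rfl⟩, hn⟩ := (IsLocalization.eq_iff_exists (Submonoid.powers (ι g)) Sg).1 h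
      refine ⟨⟨g ^ n, n, rfl⟩, hι ?_⟩
      simpa [map_mul, map_pow] using hn
  have hSg : HasSk k Sg Sg := ExtReesSk.hasSk_of_isLocalization (Submonoid.powers (ι g)) hS
  obtain ⟨Q, _, rfl⟩ := ExtRees.exists_eq_comap g (L := Sg) P hg
  obtain ⟨e⟩ := ExtRees.nonempty_atPrime_equiv g Q
  exact (hasSk_iff_forall_skLoc.1 hSg Q).congr e

section Witness

variable {R : Type u} [CommRing R] [IsNoetherianRing R] {t : R} (ht : t ∈ nonZeroDivisors R)
  (P : Ideal R) [P.IsPrime] (htP : t ∈ P)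

include ht htP in
theorem depth_eq_one_of_witness (z : R) (hz : ∀ r, r ∈ P ↔ r * z ∈ Ideal.span {t}) :
    depth (Localization.AtPrime P) (Localization.AtPrime P) = 1 := by
  let π := Ideal.Quotient.mk (Ideal.span {t})
  have hle : Ideal.span {t} ≤ P := (Ideal.span_singleton_le_iff_mem _).2 htP
  haveI : (P.map π).IsPrime := Ideal.map_isPrime_of_surjective Ideal.Quotient.mk_surjective (by rwa [Ideal.mk_ker])
  obtain ⟨h1, -⟩ := DepthLib.depth_height_quotient_singleton ht P htP (P.map π) rfl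
  rw [← h1]
  have h0 : P.map π ∈ associatedPrimes (R ⧸ Ideal.span {t}) (R ⧸ Ideal.span {t}) := by
    refine isAssociatedPrime_iff.2 ⟨inferInstance, π z, ?_⟩
    ext b
    obtain ⟨r, rfl⟩ := Ideal.Quotient.mk_surjective b
    rw [Submodule.mem_colon_singleton, Submodule.mem_bot, smul_eq_mul, ← map_mul, Ideal.Quotient.eq_zero_iff_mem,
      ← hz]
    exact Ideal.mem_quotient_iff_mem hle
  have h2 := (DepthLib.depth_localization_eq_zero_iff (M := R ⧸ Ideal.span {t}) (P.map π)).2 h0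
  rw [DepthLib.depth_localization_self] at h2
  rw [h2, zero_add]

include ht htP in
theorem exists_witness (h : depth (Localization.AtPrime P) (Localization.AtPrime P) ≤ 1) :
    ∃ z, ∀ r, r ∈ P ↔ r * z ∈ Ideal.span {t} := by
  let π := Ideal.Quotient.mk (Ideal.span {t})
  have hle : Ideal.span {t} ≤ P := (Ideal.span_singleton_le_iff_mem _).2 htP
  haveI : (P.map π).IsPrime := Ideal.map_isPrime_of_surjective Ideal.Quotient.mk_surjective (by rwa [Ideal.mk_ker])
  obtain ⟨h1, -⟩ := DepthLib.depth_height_quotient_singleton ht P htP (P.map π) rfl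
  have h0 : depth (Localization.AtPrime (P.map π)) (Localization.AtPrime (P.map π)) = 0 := by
    rw [← h1] at h
    by_contra hne
    have h2 : (1 : ℕ∞) + 1 ≤ depth (Localization.AtPrime (P.map π)) (Localization.AtPrime (P.map π)) + 1 :=
      add_le_add (Order.one_le_iff_pos.2 (pos_iff_ne_zero.2 hne)) le_rfl
    exact absurd (h2.trans h) (by norm_num)
  rw [← DepthLib.depth_localization_self (P.map π)] at h0
  obtain ⟨-, x, hx⟩ := isAssociatedPrime_iff.1
    ((DepthLib.depth_localization_eq_zero_iff (M := R ⧸ Ideal.span {t}) (P.map π)).1 h0)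
  obtain ⟨z, rfl⟩ := Ideal.Quotient.mk_surjective x
  refine ⟨z, fun r => ?_⟩
  have := Submodule.ext_iff.1 hx (π r)
  rw [Submodule.mem_colon_singleton, Submodule.mem_bot, smul_eq_mul, ← map_mul, Ideal.Quotient.eq_zero_iff_mem] at this
  rw [← this]
  exact (Ideal.mem_quotient_iff_mem hle).symm

end Witness

theorem two_le_depth_of_hasSk {R : Type u} [CommRing R] (h : HasSk 2 R R) (P : Ideal R) [P.IsPrime]
    (hP : 2 ≤ P.height) : (2 : ℕ∞) ≤ depth (Localization.AtPrime P) (Localization.AtPrime P) := by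
  have h1 := hasSk_iff_forall_skLoc.1 h P
  unfold SkLoc at h1
  rw [IsLocalization.AtPrime.ringKrullDim_eq_height P,
    min_eq_left (show ((2 : ℕ) : WithBot ℕ∞) ≤ (P.height : WithBot ℕ∞) from WithBot.coe_le_coe.2 hP)] at h1
  exact WithBot.coe_le_coe.1 h1

/-- A non-divisibility is witnessed at a prime of height at most one. -/
theorem exists_prime_of_not_dvd {R : Type u} [CommRing R] [IsNoetherianRing R] (hS : HasSk 2 R R) {t : R}
    (ht : t ∈ nonZeroDivisors R) (z : R) (hz : ¬ t ∣ z) :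
    ∃ 𝔓 : Ideal R, 𝔓.IsPrime ∧ (∀ r, t ∣ r * z → r ∈ 𝔓) ∧ ¬ 2 ≤ 𝔓.height := by
  let π := Ideal.Quotient.mk (Ideal.span {t})
  let I : Ideal R := Module.annihilator R (Submodule.span R {π z})
  have hI : ∀ r, r ∈ I ↔ t ∣ r * z := fun r => by
    show r ∈ (Submodule.span R {π z}).annihilator ↔ _
    rw [Submodule.mem_annihilator_span_singleton, Algebra.smul_def, Ideal.Quotient.algebraMap_eq, ← map_mul,
      Ideal.Quotient.eq_zero_iff_mem, Ideal.mem_span_singleton]
  have hItop : I ≠ ⊤ := fun h => hz (by simpa using (hI 1).1 (h ▸ Submodule.mem_top))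
  obtain ⟨M, hMm, hIM⟩ := Ideal.exists_le_maximal I hItop
  obtain ⟨𝔓, h𝔓, -⟩ := Ideal.exists_minimalPrimes_le (J := M) hIM
  haveI : 𝔓.IsPrime := h𝔓.1.1
  refine ⟨𝔓, inferInstance, fun r hr => h𝔓.1.2 ((hI r).2 hr), fun hht => ?_⟩
  have htP : t ∈ 𝔓 := h𝔓.1.2 ((hI t).2 (dvd_mul_right t z))
  have hass : 𝔓 ∈ associatedPrimes R (R ⧸ Ideal.span {t}) :=
    associatedPrimes.subset_of_injective (f := (Submodule.span R {π z}).subtype)
      (Submodule.injective_subtype _)
      (Module.associatedPrimes.minimalPrimes_annihilator_subset_associatedPrimes R _ h𝔓)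
  obtain ⟨-, x, hx⟩ := isAssociatedPrime_iff.1 hass
  obtain ⟨x, rfl⟩ := Ideal.Quotient.mk_surjective x
  have hd := depth_eq_one_of_witness ht 𝔓 htP x fun r => by
    have := Submodule.ext_iff.1 hx r
    rwa [Submodule.mem_colon_singleton, Submodule.mem_bot, Algebra.smul_def, Ideal.Quotient.algebraMap_eq, ← map_mul,
      Ideal.Quotient.eq_zero_iff_mem] at this
  have h5 := two_le_depth_of_hasSk hS 𝔓 hht
  rw [hd] at h5
  norm_num at h5

open Polynomial LaurentPolynomial

variable {A : Type u} [CommRing A] [IsNoetherianRing A] [Nontrivial A] (𝓕 : FiltBl.IdealFiltration A)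

theorem isNoetherianRing_rees (hfg : Algebra.FiniteType A 𝓕.rees) : IsNoetherianRing 𝓕.rees :=
  Algebra.FiniteType.isNoetherianRing A _

/-- The inclusion of the Rees algebra into the extended Rees algebra. -/
noncomputable def incl : 𝓕.rees →ₐ[A] 𝓕.extRees :=
  (Polynomial.toLaurentAlg.comp 𝓕.rees.val).codRestrict _ fun x n => by
    show (Polynomial.toLaurent (x : Polynomial A)).coeff n ∈ _
    rcases lt_or_ge n 0 with hn | hn
    · rw [show n.toNat = 0 from Int.toNat_eq_zero.2 hn.le, 𝓕.zero_eq]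
      exact Submodule.mem_top
    · obtain ⟨k, rfl⟩ := Int.eq_ofNat_of_zero_le hn
      rw [LaurentPolynomial.coeff_toLaurent, Int.toNat_natCast,
        show (k : ℤ) = Nat.castEmbedding k from rfl, Finsupp.mapDomain_apply Nat.castEmbedding.injective]
      exact x.2 k

theorem coe_incl (x : 𝓕.rees) : (incl 𝓕 x : A[T;T⁻¹]) = Polynomial.toLaurent (x : Polynomial A) := rfl

/-- A monomial of the extended Rees algebra. -/
noncomputable def mono (n : ℤ) (a : A) (ha : a ∈ 𝓕.F n.toNat) : 𝓕.extRees :=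
  ⟨LaurentPolynomial.C a * T n, fun k => by
    rw [← LaurentPolynomial.single_eq_C_mul_T, AddMonoidAlgebra.coeff_single, Finsupp.single_apply]
    split_ifs with hk
    · subst hk; exact ha
    · exact Ideal.zero_mem _⟩

theorem sum_mono (z : 𝓕.extRees) : z = ∑ n ∈ (z : A[T;T⁻¹]).coeff.support, mono 𝓕 n _ (z.2 n) := by
  refine Subtype.ext ?_
  rw [AddSubmonoidClass.coe_finsetSum]
  simp only [mono, ← LaurentPolynomial.single_eq_C_mul_T]
  exact (AddMonoidAlgebra.sum_coeff_single (z : A[T;T⁻¹])).symm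

/-- A monomial of the Rees algebra. -/
noncomputable def pmono (n : ℕ) (a : A) (ha : a ∈ 𝓕.F n) : 𝓕.rees :=
  ⟨monomial n a, fun j => by
    rw [Polynomial.coeff_monomial]
    split_ifs with hj
    · subst hj; exact ha
    · exact Ideal.zero_mem _⟩

/-- The case of a prime missing a monomial of positive degree. -/
theorem skLoc_case_pos {k : ℕ} (hS : HasSk k 𝓕.extRees 𝓕.extRees) (P : Ideal 𝓕.rees) [P.IsPrime] (n : ℕ)
    (hn : 1 ≤ n) (a : A) (ha : a ∈ 𝓕.F n) (hP : pmono 𝓕 n a ha ∉ P) : SkLoc k (Localization.AtPrime P) := by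
  refine skLoc_of_dominate (incl 𝓕).toRingHom (fun x y h => Subtype.ext (Polynomial.toLaurent_injective
    (congrArg Subtype.val h))) (pmono 𝓕 n a ha) P hP ?_ hS
  let g := incl 𝓕 (pmono 𝓕 n a ha)
  let Good : 𝓕.extRees → Prop := fun y => ∃ (j : ℕ) (r : 𝓕.rees), incl 𝓕 r = g ^ j * y
  have hadd : ∀ x y, Good x → Good y → Good (x + y) := by
    rintro x y ⟨i, r, hr⟩ ⟨j, s, hs⟩
    refine ⟨i + j, pmono 𝓕 n a ha ^ j * r + pmono 𝓕 n a ha ^ i * s, ?_⟩
    rw [map_add, map_mul, map_mul, hr, hs, map_pow, map_pow]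
    ring
  intro y
  show Good y
  rw [sum_mono 𝓕 y]
  refine Finset.sum_induction _ Good hadd ⟨0, 0, by simp⟩ fun m _ => ?_
  refine ⟨(-m).toNat, ⟨Polynomial.monomial ((-m).toNat * n + m).toNat (a ^ (-m).toNat * (y : A[T;T⁻¹]).coeff m), fun j => ?_⟩, ?_⟩
  · rw [Polynomial.coeff_monomial]
    split_ifs with hj
    · subst hj
      rcases le_or_gt 0 m with hm | hm
      · rw [show (-m).toNat = 0 by omega, pow_zero, one_mul, Nat.cast_zero, zero_mul, zero_add]
        exact y.2 m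
      · refine Ideal.mul_mem_right _ _ ?_
        have hpow : ∀ i, a ^ i ∈ 𝓕.F (i * n) := fun i => by
          induction i with
          | zero => rw [zero_mul, 𝓕.zero_eq]; exact Submodule.mem_top
          | succ i ih => rw [pow_succ, add_mul, one_mul]; exact 𝓕.mul_le _ _ (Ideal.mul_mem_mul ih ha)
        refine 𝓕.antitone ?_ (hpow _)
        have h1 : (-m) ≤ (((-m).toNat * n : ℕ) : ℤ) := by
          push_cast
          rw [Int.toNat_of_nonneg (by omega)]
          exact le_mul_of_one_le_right (by omega) (by exact_mod_cast hn)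
        omega
    · exact Ideal.zero_mem _
  · refine Subtype.ext ?_
    have hnn : (0 : ℤ) ≤ ((-m).toNat : ℤ) * n + m := by
      rcases le_or_gt 0 m with hm | hm
      · positivity
      · have h1 : (-m) ≤ ((-m).toNat : ℤ) * n := by
          rw [Int.toNat_of_nonneg (by omega)]
          exact le_mul_of_one_le_right (by omega) (by exact_mod_cast hn)
        omega
    rw [coe_incl, Subalgebra.coe_mul, Subalgebra.coe_pow]
    show Polynomial.toLaurent (Polynomial.monomial _ _) =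
      Polynomial.toLaurent (Polynomial.monomial n a) ^ (-m).toNat * (LaurentPolynomial.C _ * T m)
    rw [← map_pow, Polynomial.monomial_pow, ← Polynomial.C_mul_X_pow_eq_monomial, ← Polynomial.C_mul_X_pow_eq_monomial,
      Polynomial.toLaurent_C_mul_X_pow, Polynomial.toLaurent_C_mul_X_pow, mul_mul_mul_comm, ← map_mul, ← T_add,
      Int.toNat_of_nonneg hnn]
    congr 2
    push_cast
    ring

/-- The case of a prime whose trace on the base does not contain `F 1`. -/
theorem skLoc_case_base {k : ℕ} (hA : HasSk k A A) (P : Ideal 𝓕.rees) [P.IsPrime]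
    (a : A) (ha : a ∈ 𝓕.F 1) (hP : algebraMap A 𝓕.rees a ∉ P) : SkLoc k (Localization.AtPrime P) := by
  refine skLoc_of_dominate 𝓕.rees.val.toRingHom Subtype.val_injective (algebraMap A 𝓕.rees a) P hP ?_
    (ExtReesSk.hasSk_polynomial A hA)
  intro y
  refine ⟨y.natDegree, ⟨Polynomial.C (a ^ y.natDegree) * y, fun j => ?_⟩, ?_⟩
  · rw [Polynomial.coeff_C_mul]
    rcases le_or_gt j y.natDegree with hj | hj
    · refine Ideal.mul_mem_right _ _ ?_
      have hpow : ∀ i, a ^ i ∈ 𝓕.F i := fun i => by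
        induction i with
        | zero => rw [𝓕.zero_eq]; exact Submodule.mem_top
        | succ i ih => rw [pow_succ]; exact 𝓕.mul_le _ _ (Ideal.mul_mem_mul ih ha)
      exact 𝓕.antitone hj (hpow _)
    · rw [Polynomial.coeff_eq_zero_of_natDegree_lt hj, mul_zero]; exact Ideal.zero_mem _
  · show Polynomial.C (a ^ y.natDegree) * y = Polynomial.C a ^ y.natDegree * y
    rw [map_pow]

/-- The colon ideal argument in the extended Rees algebra. -/
theorem mem_F_of_colon (hfg : Algebra.FiniteType A 𝓕.rees) (hS : HasSk 2 𝓕.extRees 𝓕.extRees)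
    (q : Ideal A) [q.IsPrime] (hqF : 𝓕.F 1 ≤ q) (hq : 1 ≤ q.height) {n : ℕ} (w : A)
    (h0 : ∀ c ∈ q, c * w ∈ 𝓕.F n) (h1 : ∀ (m : ℕ), ∀ b ∈ 𝓕.F (m + 1), b * w ∈ 𝓕.F (n + (m + 1))) : w ∈ 𝓕.F n := by
  classical
  haveI := ExtRees.isNoetherianRing_extRees 𝓕 hfg
  letI := ExtRees.instAlg 𝓕
  let R := 𝓕.extRees
  let z : R := mono 𝓕 0 w (by rw [Int.toNat_zero, 𝓕.zero_eq]; exact Submodule.mem_top)
  let un : R := 𝓕.u ^ n
  have huz : ∀ r : R, (∃ y : R, (y : A[T;T⁻¹]) = (r : A[T;T⁻¹]) * (LaurentPolynomial.C w * T (n : ℤ))) →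
      un ∣ r * z := by
    rintro r ⟨y, hy⟩
    refine ⟨y, Subtype.ext ?_⟩
    show (r : A[T;T⁻¹]) * (LaurentPolynomial.C w * T 0) = ((𝓕.u ^ n : R) : A[T;T⁻¹]) * (y : A[T;T⁻¹])
    rw [mul_comm _ (y : A[T;T⁻¹]), hy, ExtRees.coe_u_pow, mul_assoc, mul_assoc, ← T_add, add_neg_cancel]
  by_contra hw
  have hndvd : ¬ un ∣ z := fun ⟨y, hy⟩ => by
    have h2 : (y : A[T;T⁻¹]) = LaurentPolynomial.C w * T (n : ℤ) := by
      have h3 := congrArg (fun x : R => (x : A[T;T⁻¹]) * T (n : ℤ)) hy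
      simp only [Subalgebra.coe_mul] at h3
      rw [show ((un : R) : A[T;T⁻¹]) = T (-(n : ℤ)) from ExtRees.coe_u_pow 𝓕 n, mul_right_comm, ← T_add, neg_add_cancel,
        T_zero, one_mul] at h3
      rw [← h3]
      show LaurentPolynomial.C w * T 0 * T (n : ℤ) = _
      rw [T_zero, mul_one]
    have h4 := y.2 n
    rw [h2, ← LaurentPolynomial.single_eq_C_mul_T, AddMonoidAlgebra.coeff_single, Finsupp.single_eq_same,
      Int.toNat_natCast] at h4
    exact hw h4
  have hunz : un ∈ nonZeroDivisors R := pow_mem (ExtRees.mem_nonZeroDivisors_u 𝓕) n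
  obtain ⟨𝔓, _, hP, hnht⟩ := exists_prime_of_not_dvd hS hunz z hndvd
  -- the two smaller primes
  let ρ : ∀ (p : Ideal A) [p.IsPrime], A[T;T⁻¹] →+* (A ⧸ p)[T;T⁻¹] := fun p _ =>
    AddMonoidAlgebra.mapRingHom ℤ (Ideal.Quotient.mk p)
  have hρ : ∀ (p : Ideal A) [p.IsPrime] (x : R), x ∈ (RingHom.ker (ρ p)).comap (algebraMap R A[T;T⁻¹]) ↔
      ∀ k, (x : A[T;T⁻¹]).coeff k ∈ p := fun p _ x => by
    rw [Ideal.mem_comap, RingHom.mem_ker]
    constructor
    · intro h k
      rw [← Ideal.Quotient.eq_zero_iff_mem]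
      have := congrArg (fun f : (A ⧸ p)[T;T⁻¹] => f.coeff k) h
      simpa [ρ, ExtRees.algebraMap_eq] using this
    · intro h
      refine LaurentPolynomial.ext fun k => ?_
      simp only [ρ, AddMonoidAlgebra.coeff_zero, Finsupp.coe_zero, Pi.zero_apply]
      simpa [ExtRees.algebraMap_eq] using Ideal.Quotient.eq_zero_iff_mem.2 (h k)
  obtain ⟨p₀, hp₀, hp₀q⟩ := Ideal.exists_minimalPrimes_le (I := (⊥ : Ideal A)) (J := q) bot_le
  haveI : p₀.IsPrime := hp₀.1.1
  haveI : (RingHom.ker (ρ q)).IsPrime := RingHom.ker_isPrime _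
  haveI : (RingHom.ker (ρ p₀)).IsPrime := RingHom.ker_isPrime _
  let Q₁ := (RingHom.ker (ρ q)).comap (algebraMap R A[T;T⁻¹])
  let Q₀ := (RingHom.ker (ρ p₀)).comap (algebraMap R A[T;T⁻¹])
  have hQI : Q₁ ≤ 𝔓 := fun x hx => by
    have hx' := (hρ q x).1 hx
    rw [sum_mono 𝓕 x]
    refine sum_mem fun k _ => hP _ (huz _ ⟨mono 𝓕 (k + n) ((x : A[T;T⁻¹]).coeff k * w) ?_, ?_⟩)
    · rcases le_or_gt k 0 with hk | hk
      · exact 𝓕.antitone (by omega) (h0 _ (hx' k))
      · obtain ⟨m, hm⟩ : ∃ m : ℕ, k = ((m + 1 : ℕ) : ℤ) := ⟨(k - 1).toNat, by omega⟩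
        subst hm
        have hc := x.2 ((m + 1 : ℕ) : ℤ)
        rw [Int.toNat_natCast] at hc
        have := h1 m _ hc
        convert this using 3
        omega
    · simp only [mono, map_mul]
      rw [T_add]
      ring
  have huP : 𝓕.u ∈ 𝔓 := by
    rcases Nat.eq_zero_or_pos n with rfl | hn
    · exact absurd (by rw [𝓕.zero_eq]; exact Submodule.mem_top) hw
    exact ‹𝔓.IsPrime›.mem_of_pow_mem n (hP _ (dvd_mul_right _ _))
  have huQ : 𝓕.u ∉ Q₁ := fun h => by
    have := (hρ q _).1 h (-1)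
    rw [show ((𝓕.u : R) : A[T;T⁻¹]) = AddMonoidAlgebra.single (-1 : ℤ) (1 : A) from rfl, AddMonoidAlgebra.coeff_single,
      Finsupp.single_eq_same] at this
    exact (Ideal.IsPrime.ne_top ‹_›) ((Ideal.eq_top_iff_one q).2 this)
  have hlt₁ : Q₁ < 𝔓 := lt_of_le_of_ne hQI fun h => huQ (h ▸ huP)
  have hlt₀ : Q₀ < Q₁ := by
    refine lt_of_le_of_ne (fun x hx => (hρ q x).2 fun k => hp₀q ((hρ p₀ x).1 hx k)) fun h => ?_
    obtain ⟨c, hcq, hcp⟩ := SetLike.exists_of_lt (lt_of_le_of_ne hp₀q fun e => by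
      subst e
      rw [Ideal.height_eq_zero_iff.2 hp₀] at hq
      simp at hq)
    have hc : algebraMap A R c ∈ Q₁ := (hρ q _).2 fun k => by
      show (algebraMap A A[T;T⁻¹] c).coeff k ∈ q
      rw [LaurentPolynomial.algebraMap_apply, Algebra.algebraMap_self, RingHom.id_apply, LaurentPolynomial.C_apply]
      split_ifs
      · exact hcq
      · exact zero_mem _
    rw [← h] at hc
    have := (hρ p₀ _).1 hc 0
    rw [show ((algebraMap A R c : R) : A[T;T⁻¹]) = algebraMap A A[T;T⁻¹] c from rfl,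
      LaurentPolynomial.algebraMap_apply, Algebra.algebraMap_self, RingHom.id_apply, LaurentPolynomial.C_apply,
      if_pos rfl] at this
    exact hcp this
  have hht : 2 ≤ 𝔓.height := by
    have h2 := Ideal.height_add_one_le_of_lt_of_isPrime hlt₁
    have h3 := Ideal.height_add_one_le_of_lt_of_isPrime hlt₀
    calc (2 : ℕ∞) = 0 + 1 + 1 := rfl
      _ ≤ Q₀.height + 1 + 1 := by gcongr; exact bot_le
      _ ≤ Q₁.height + 1 := by gcongr
      _ ≤ 𝔓.height := h2
  exact hnht hht

theorem hasSk_two_rees (hfg : Algebra.FiniteType A 𝓕.rees) (hht : 2 ≤ (𝓕.F 1).height)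
    (hS : HasSk 2 𝓕.extRees 𝓕.extRees) : HasSk 2 𝓕.rees 𝓕.rees := by
  classical
  haveI := isNoetherianRing_rees 𝓕 hfg
  have hA : HasSk 2 A A := ((ExtReesSk.hasSk_succ_iff 𝓕 hfg 1).1 hS).2
  rw [hasSk_iff_forall_skLoc]
  intro P _
  by_cases h : ∃ (n : ℕ) (a : A) (ha : a ∈ 𝓕.F n), 1 ≤ n ∧ pmono 𝓕 n a ha ∉ P
  · obtain ⟨n, a, ha, hn, hP⟩ := h
    exact skLoc_case_pos 𝓕 hS P n hn a ha hP
  push Not at h
  let q := P.comap (algebraMap A 𝓕.rees)
  by_cases hq : ∃ a ∈ 𝓕.F 1, a ∉ q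
  · obtain ⟨a, ha, haq⟩ := hq
    exact skLoc_case_base 𝓕 hA P a ha haq
  push Not at hq
  have hq2 : 2 ≤ q.height := hht.trans (Ideal.height_mono hq)
  -- a nonzerodivisor in `F 1`
  have hA1 : HasSk 1 A A := by
    rw [hasSk_iff_forall_skLoc] at hA ⊢
    intro p _
    exact (min_le_min (by norm_num) le_rfl).trans (hA p)
  rw [DepthLib.hasSk_one_iff_minimalPrimes] at hA1
  have hann : Module.annihilator A A = ⊥ := eq_bot_iff.2 fun a ha => by simpa using Module.mem_annihilator.1 ha 1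
  rw [hann] at hA1
  obtain ⟨a, ha, haz⟩ : ∃ a ∈ 𝓕.F 1, a ∈ nonZeroDivisors A := by
    by_contra h0
    push Not at h0
    have hsub : (𝓕.F 1 : Set A) ⊆ ⋃ p ∈ associatedPrimes A A, (p : Set A) := fun x hx => by
      rw [biUnion_associatedPrimes_eq_compl_nonZeroDivisors]; exact h0 x hx
    obtain ⟨p, hp, hle⟩ := (Ideal.subset_union_prime_finite (associatedPrimes.finite A A) ⊥ ⊥
      (f := fun p => p) (fun p hp _ _ => IsAssociatedPrime.isPrime hp)).1 hsub
    haveI := IsAssociatedPrime.isPrime hp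
    have h1 := hht.trans (Ideal.height_mono hle)
    rw [Ideal.height_eq_zero_iff.2 (hA1 p hp)] at h1
    simp at h1
  let t : 𝓕.rees := algebraMap A 𝓕.rees a
  have htz : t ∈ nonZeroDivisors 𝓕.rees := by
    rw [mem_nonZeroDivisors_iff_right]
    intro x hx
    refine Subtype.ext (Polynomial.ext fun j => ?_)
    have h1 := congrArg (fun y : 𝓕.rees => (y : Polynomial A).coeff j) hx
    have h2 : (x : Polynomial A).coeff j * a = 0 := by simpa [t, Polynomial.coeff_mul_C] using h1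
    simpa using mem_nonZeroDivisors_iff_right.1 haz _ h2
  have htP : t ∈ P := hq a ha
  suffices h2 : (2 : ℕ∞) ≤ depth (Localization.AtPrime P) (Localization.AtPrime P) by
    unfold SkLoc
    exact (min_le_left _ _).trans (WithBot.coe_le_coe.2 h2)
  by_contra hlt
  have hle1 : depth (Localization.AtPrime P) (Localization.AtPrime P) ≤ 1 :=
    Order.le_of_lt_succ (by simpa [Order.succ_eq_add_one, one_add_one_eq_two] using not_le.1 hlt)
  obtain ⟨z, hz⟩ := exists_witness htz P htP hle1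
  -- coefficientwise divisibility
  have hdiv : ∀ (m : ℕ) (b : A) (hb : b ∈ 𝓕.F m), pmono 𝓕 m b hb ∈ P → ∀ n : ℕ,
      ∃ f ∈ 𝓕.F (n + m), b * (z : Polynomial A).coeff n = a * f := by
    intro m b hb hbP n
    obtain ⟨y, hy⟩ := Ideal.mem_span_singleton'.1 ((hz _).1 hbP)
    refine ⟨(y : Polynomial A).coeff (n + m), y.2 _, ?_⟩
    have h1 := congrArg (fun x : 𝓕.rees => (x : Polynomial A).coeff (n + m)) hy
    have h2 : (y : Polynomial A).coeff (n + m) * a = b * (z : Polynomial A).coeff n := by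
      simpa [t, pmono, Polynomial.coeff_mul_C, Polynomial.coeff_monomial_mul] using h1
    rw [← h2, mul_comm]
  have hq0 : ∀ c ∈ q, ∀ n, ∃ f ∈ 𝓕.F n, c * (z : Polynomial A).coeff n = a * f := fun c hc n => by
    have hc' : pmono 𝓕 0 c (by rw [𝓕.zero_eq]; exact Submodule.mem_top) ∈ P := by
      convert (show algebraMap A 𝓕.rees c ∈ P from hc) using 1
      exact Subtype.ext (by simp [pmono])
    simpa using hdiv 0 c _ hc' n
  have key : ∀ n, ∃ s ∉ q, ∃ f ∈ 𝓕.F n, s * (z : Polynomial A).coeff n = a * f := by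
    intro n
    let zn := (z : Polynomial A).coeff n
    obtain ⟨s, hsq, hs⟩ : ∃ s ∉ q, s * zn ∈ Ideal.span {a} := by
      by_contra h0
      push Not at h0
      have hd : depth (Localization.AtPrime q) (Localization.AtPrime q) = 1 :=
        depth_eq_one_of_witness haz q (hq a ha) zn fun c => by
          refine ⟨fun hc => ?_, fun hc => by_contra fun hcq => h0 c hcq hc⟩
          obtain ⟨f, -, hf⟩ := hq0 c hc n
          exact Ideal.mem_span_singleton'.2 ⟨f, by rw [mul_comm, hf]⟩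
      have := two_le_depth_of_hasSk hA q hq2
      rw [hd] at this
      norm_num at this
    obtain ⟨w, hw⟩ := Ideal.mem_span_singleton'.1 hs
    refine ⟨s, hsq, w, ?_, by rw [mul_comm a]; exact hw.symm⟩
    have hcan : ∀ (c f : A), c * zn = a * f → c * w = s * f := fun c f hf => by
      refine (mul_cancel_right_mem_nonZeroDivisors haz).1 ?_
      rw [mul_assoc, hw, mul_left_comm, hf]
      ring
    refine mem_F_of_colon 𝓕 hfg hS q hq (le_trans (by norm_num) hq2) w (fun c hc => ?_) (fun m b hb => ?_)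
    · obtain ⟨f, hf, he⟩ := hq0 c hc n
      rw [hcan c f he]
      exact Ideal.mul_mem_left _ _ hf
    · obtain ⟨f, hf, he⟩ := hdiv (m + 1) b hb (h (m + 1) b hb (by omega)) n
      rw [hcan b f he]
      exact Ideal.mul_mem_left _ _ hf
  choose s hsq f hf hsz using key
  let S := (z : Polynomial A).support
  have hSq : ∏ n ∈ S, s n ∉ q := fun hmem => by
    obtain ⟨i, -, hi⟩ := (Ideal.IsPrime.prod_mem_iff (p := q)).1 hmem
    exact hsq i hi
  refine hSq ?_
  show algebraMap A 𝓕.rees (∏ n ∈ S, s n) ∈ P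
  rw [hz, Ideal.mem_span_singleton']
  refine ⟨∑ n ∈ S, pmono 𝓕 n ((∏ j ∈ S.erase n, s j) * f n) (Ideal.mul_mem_left _ _ (hf n)), Subtype.ext ?_⟩
  rw [Subalgebra.coe_mul, Subalgebra.coe_mul, AddSubmonoidClass.coe_finsetSum]
  show (∑ n ∈ S, Polynomial.monomial n _) * Polynomial.C a = Polynomial.C (∏ n ∈ S, s n) * (z : Polynomial A)
  conv_rhs => rw [(z : Polynomial A).as_sum_support, Finset.mul_sum]
  rw [Finset.sum_mul]
  refine Finset.sum_congr rfl fun n hn => ?_
  rw [Polynomial.C_mul_monomial, Polynomial.monomial_mul_C, mul_assoc, mul_comm (f n), ← hsz, ← mul_assoc,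
    Finset.prod_erase_mul S s hn]

end Groth.Agent.GorLib.ReesSk
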