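import Groth.Agent.GorLib.RingLevel
import Groth.Agent.FlatDescent.Scheme
import Mathlib

/-!
# Gorenstein local rings of fibres of flat morphisms
-/

universe u

open CategoryTheory AlgebraicGeometry

namespace Groth.Agent.GorLib

/-- The local rings of fibres of a flat morphism of locally Noetherian schemes with Gorenstein source. -/
theorem gorenstein_fibre_stalk {X S : Scheme.{u}} [IsLocallyNoetherian X] [IsLocallyNoetherian S] (f : X ⟶ S)
    [Flat f] (hX : ∀ x : X, LocCoh.IsGorensteinLocalRing (X.presheaf.stalk x)) (s : S) (z : f.fiber s) :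
    LocCoh.IsGorensteinLocalRing ((f.fiber s).presheaf.stalk z) := by
  set y := f.fiberι s z
  algebraize [(f.stalkMap y).hom]
  haveI : Module.Flat (S.presheaf.stalk (f y)) (X.presheaf.stalk y) := Flat.stalkMap f y
  haveI : IsLocalHom (algebraMap (S.presheaf.stalk (f y)) (X.presheaf.stalk y)) :=
    inferInstanceAs (IsLocalHom (f.stalkMap y).hom)
  obtain ⟨-, h2⟩ := (gorenstein_iff_of_flat (S.presheaf.stalk (f y)) (X.presheaf.stalk y)).1 (hX y)
  exact (gorenstein_iff_of_ringEquiv
    ((Ideal.quotEquivOfEq (Groth.FlatDescent.ker_stalkMap_fiberι f s z).symm).trans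
      (RingHom.quotientKerEquivOfSurjective ((f.fiberι s).stalkMap_surjective z)))).1 h2

theorem gorenstein_stalk_of_iso {X Y : Scheme.{u}} (e : X ≅ Y) (x : X)
    (h : LocCoh.IsGorensteinLocalRing (Y.presheaf.stalk (e.hom x))) :
    LocCoh.IsGorensteinLocalRing (X.presheaf.stalk x) :=
  (gorenstein_iff_of_ringEquiv (asIso (e.hom.stalkMap x)).commRingCatIsoToRingEquiv).1 h

end Groth.Agent.GorLib
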